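import Cfsg.Agent.Lib.Geo.SL3.Engine.Projection
import Cfsg.Agent.S0984

/-!
# `A₇` occurs only in characteristic five
-/

set_option autoImplicit false
set_option maxHeartbeats 800000

namespace CfsgLib.Geo.SL3.Engine

open Matrix

theorem alt_seven_data : ∃ a b u : alternatingGroup (Fin 7), a * a = 1 ∧ b * b = 1 ∧ u * u = 1 ∧
    a * b = b * a ∧ a ≠ 1 ∧ b ≠ 1 ∧ a ≠ b ∧ u ≠ 1 ∧
    ((a * u) ^ 2 ≠ 1 ∧ (a * u) ^ 3 ≠ 1 ∧ (a * u) ^ 6 = 1) ∧
    ((b * u) ^ 2 ≠ 1 ∧ (b * u) ^ 3 ≠ 1 ∧ (b * u) ^ 6 = 1) ∧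
    ((a * b * u) ^ 2 ≠ 1 ∧ (a * b * u) ^ 3 ≠ 1 ∧ (a * b * u) ^ 6 = 1) :=
  ⟨⟨Equiv.swap 0 1 * Equiv.swap 2 3, Equiv.Perm.mem_alternatingGroup.2 (by decide +kernel)⟩, ⟨Equiv.swap 0 2 * Equiv.swap 1 3, Equiv.Perm.mem_alternatingGroup.2 (by decide +kernel)⟩,
    ⟨Equiv.swap 0 6 * Equiv.swap 4 5, Equiv.Perm.mem_alternatingGroup.2 (by decide +kernel)⟩, by decide +kernel⟩

variable {k : Type*} [Field k]

/-- Products of two homology involutions of order six. -/
theorem four_mul_eq_three (h2 : (2 : k) ≠ 0) {P Q : M3 k} {s : k} (hP : P * P = P) (hQ : Q * Q = Q)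
    (hPQ : P * Q * P = s • P) (hQP : Q * P * Q = s • Q)
    (h3 : (((2 : k) • P - 1) * ((2 : k) • Q - 1)) ^ 3 ≠ 1)
    (h6 : (((2 : k) • P - 1) * ((2 : k) • Q - 1)) ^ 6 = 1)
    (hsq : (((2 : k) • P - 1) * ((2 : k) • Q - 1)) ^ 2 ≠ 1 →
      ((((2 : k) • P - 1) * ((2 : k) • Q - 1)) ^ 2 - 1) ^ 2 ≠ 0)
    (h2' : (((2 : k) • P - 1) * ((2 : k) • Q - 1)) ^ 2 ≠ 1) : 4 * s = 3 := by
  set M := ((2 : k) • P - 1) * ((2 : k) • Q - 1) with hM
  set M' := ((2 : k) • Q - 1) * ((2 : k) • P - 1) with hM'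
  have hinv : ∀ R : M3 k, R * R = R → ((2 : k) • R - 1) * ((2 : k) • R - 1) = 1 := fun R hR => by
    simp only [sub_mul, mul_sub, smul_mul_assoc, mul_smul_comm, smul_smul, one_mul, mul_one, hR]
    module
  have hMM' : M * M' = 1 := by rw [hM, hM', mul_assoc, ← mul_assoc _ _ ((2 : k) • P - 1), hinv Q hQ, one_mul, hinv P hP]
  have hM'M : M' * M = 1 := by rw [hM, hM', mul_assoc, ← mul_assoc _ _ ((2 : k) • Q - 1), hinv P hP, one_mul, hinv Q hQ]
  set W := P + Q - P * Q - Q * P with hW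
  have hsum : M + M' = (2 : k) • (1 : M3 k) - (4 : k) • W := by
    simp only [hM, hM', hW, sub_mul, mul_sub, smul_mul_assoc, mul_smul_comm, smul_smul, one_mul, mul_one]
    module
  have hWW : W * W = (1 - s) • W := by
    have a1 : P * (P * Q) = P * Q := by rw [← mul_assoc, hP]
    have a2 : Q * (Q * P) = Q * P := by rw [← mul_assoc, hQ]
    have a3 : P * (Q * P) = s • P := by rw [← mul_assoc, hPQ]
    have a4 : Q * (P * Q) = s • Q := by rw [← mul_assoc, hQP]
    have a5 : P * Q * (P * Q) = s • (P * Q) := by rw [← mul_assoc, hPQ, smul_mul_assoc]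
    have a6 : Q * P * (Q * P) = s • (Q * P) := by rw [← mul_assoc, hQP, smul_mul_assoc]
    have a7 : P * Q * (Q * P) = s • P := by rw [mul_assoc, a2, a3]
    have a8 : Q * P * (P * Q) = s • Q := by rw [mul_assoc, a1, a4]
    have a9 : P * Q * Q = P * Q := by rw [mul_assoc, hQ]
    have a10 : Q * P * P = Q * P := by rw [mul_assoc, hP]
    simp only [hW, sub_mul, mul_sub, add_mul, mul_add, hP, hQ, hPQ, hQP, a1, a2, a3, a4, a5, a6, a7, a8, a9, a10]
    module
  -- the recursion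
  set N := M + M' - (2 : k) • 1 with hN
  set c := 4 * s - 4 with hc
  have hN' : N = (-4 : k) • W := by rw [hN, hsum]; module
  have hNN : N * N = c • N := by
    rw [hN', smul_mul_assoc, mul_smul_comm, hWW, smul_smul, smul_smul, smul_smul, hc]
    congr 1
    ring
  have hcomm : Commute M M' := hMM'.trans hM'M.symm
  have hS : M + M' = N + (2 : k) • 1 := by rw [hN, sub_add_cancel]
  have h32 : M ^ 3 + M' ^ 3 = ((c + 3) ^ 2) • N + (2 : k) • 1 := by
    have e : (M + M') * (M + M') * (M + M') = M ^ 3 + M' ^ 3 + (3 : k) • (M + M') := by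
      simp only [pow_succ, pow_zero, one_mul, add_mul, mul_add, mul_assoc, hMM', hM'M, mul_one]
      simp only [← mul_assoc, hMM', hM'M, one_mul]
      module
    rw [hS] at e
    simp only [add_mul, mul_add, smul_mul_assoc, mul_smul_comm, smul_smul, one_mul, mul_one, hNN, smul_add] at e
    rw [← sub_eq_iff_eq_add] at e
    rw [← e]
    module
  have h22 : M ^ 2 + M' ^ 2 = (c + 4) • N + (2 : k) • 1 := by
    have e : (M + M') * (M + M') = M ^ 2 + M' ^ 2 + (2 : k) • 1 := by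
      simp only [pow_succ, pow_zero, one_mul, add_mul, mul_add, hMM', hM'M]
      module
    rw [hS] at e
    simp only [add_mul, mul_add, smul_mul_assoc, mul_smul_comm, smul_smul, one_mul, mul_one, hNN] at e
    rw [← sub_eq_iff_eq_add] at e
    rw [← e]
    module
  have h33 : M ^ 3 = M' ^ 3 := by
    calc M ^ 3 = M ^ 3 * (M ^ 3 * M' ^ 3) := by rw [← hcomm.mul_pow, hMM', one_pow, mul_one]
      _ = M' ^ 3 := by rw [← mul_assoc, ← pow_add, h6, one_mul]
  rw [← h33] at h32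
  have h32' : (2 : k) • M ^ 3 = ((c + 3) ^ 2) • N + (2 : k) • 1 := by rw [← h32]; module
  have hne : (c + 3) ^ 2 • N ≠ 0 := fun e => h3 (by
    rw [e, zero_add] at h32'
    exact smul_right_injective _ h2 h32')
  have hsq2 : ((2 : k) • M ^ 3) * ((2 : k) • M ^ 3) = (4 : k) • 1 := by
    rw [smul_mul_assoc, mul_smul_comm, ← pow_add, h6, smul_smul]
    norm_num
  rw [h32'] at hsq2
  simp only [add_mul, mul_add, smul_mul_assoc, mul_smul_comm, smul_smul, one_mul, mul_one, hNN] at hsq2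
  have h0 : ((c + 3) ^ 2 * ((c + 3) ^ 2 * c) + 4 * (c + 3) ^ 2) • N = 0 := by
    rw [← sub_eq_zero] at hsq2
    rw [← hsq2]
    module
  rw [show (c + 3) ^ 2 * ((c + 3) ^ 2 * c) + 4 * (c + 3) ^ 2 = ((c + 3) ^ 2 * c + 4) * (c + 3) ^ 2 by ring,
    mul_smul, smul_eq_zero] at h0
  have hpoly : (c + 1) ^ 2 * (c + 4) = 0 := by linear_combination h0.resolve_right hne
  rcases mul_eq_zero.1 hpoly with h | h
  · have := pow_eq_zero_iff (n := 2) (by norm_num) |>.1 h
    linear_combination this - hc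
  · exfalso
    rw [h, zero_smul, zero_add] at h22
    refine hsq h2' ?_
    have e : (M ^ 2 - 1) ^ 2 = M ^ 2 * (M ^ 2 + M' ^ 2 - (2 : k) • 1) := by
      have e1 : M ^ 2 * M' ^ 2 = 1 := by rw [← hcomm.mul_pow, hMM', one_pow]
      simp only [pow_two (M ^ 2 - 1), sub_mul, mul_sub, mul_add, one_mul, mul_one, e1, mul_smul_comm]
      module
    rw [e, h22, sub_self, mul_zero]

variable [IsAlgClosed k] {L : Subgroup (GL (Fin 3) k)}

/-- An involution has homology form. -/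
theorem exists_homology_form (h : Hyp L) (h2 : (2 : k) ≠ 0) {T : L} (hT : T * T = 1) (hT1 : T ≠ 1) :
    ∃ c φ : Fin 3 → k, φ ⬝ᵥ c = 1 ∧ mat T = (2 : k) • Matrix.vecMulVec c φ - 1 := by
  obtain ⟨B, hB⟩ := exists_conj_diag h2 (t := mat T) (by rw [pow_two, ← map_mul, hT, map_one])
    (fun e => hT1 (mat_injective (e.trans (map_one mat).symm))) (h.det_mat T)
  refine ⟨(B : M3 k) *ᵥ ![1, 0, 0], ![1, 0, 0] ᵥ* ((B⁻¹ : GL (Fin 3) k) : M3 k), ?_, ?_⟩
  · rw [Matrix.dotProduct_mulVec, Matrix.vecMul_vecMul, Units.inv_mul, Matrix.vecMul_one]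
    simp [dotProduct, Fin.sum_univ_three]
  · have e : mat T = (B : M3 k) * stdT * ((B⁻¹ : GL (Fin 3) k) : M3 k) := by
      rw [← show _ = stdT from hB, ← mul_assoc, ← mul_assoc, Units.mul_inv, one_mul, mul_assoc, Units.mul_inv,
        mul_one]
    rw [e, stdT_eq, mul_sub, sub_mul, mul_one, Units.mul_inv, mul_smul_comm, smul_mul_assoc,
      Matrix.mul_vecMulVec, Matrix.vecMulVec_mul]

/-- The simple quotient is `A₇` only in characteristic five. -/
theorem Hyp.five_eq_zero (h : Hyp L) (h2 : (2 : k) ≠ 0) (p : ℕ) [Fact p.Prime] [CharP k p]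
    (e : L ⧸ Subgroup.center L ≃* alternatingGroup (Fin 7)) : (5 : k) = 0 := by
  haveI := h.finite
  obtain ⟨a, b, u, ha, hb, hu, hab, ha1, hb1, hne, hu1, hau, hbu, habu⟩ := alt_seven_data
  have hlift : ∀ x : alternatingGroup (Fin 7), x * x = 1 → ∃ T : L, T * T = 1 ∧ e T = x := by
    intro x hx
    obtain ⟨g, hg⟩ := QuotientGroup.mk_surjective (e.symm x)
    refine ⟨g ^ 3, ?_, ?_⟩
    · rw [← pow_two, ← pow_mul, mul_comm, pow_mul]
      refine h.pow_three_center ((QuotientGroup.eq_one_iff _).1 ?_)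
      rw [QuotientGroup.mk_pow, hg, pow_two, ← map_mul, hx, map_one]
    · rw [QuotientGroup.mk_pow, hg, ← map_pow, e.apply_symm_apply, pow_succ, pow_two, hx, one_mul]
  obtain ⟨A, hA, hAq⟩ := hlift a ha
  obtain ⟨B, hB, hBq⟩ := hlift b hb
  obtain ⟨U, hU, hUq⟩ := hlift u hu
  have hne1 : ∀ {X : L} {x : alternatingGroup (Fin 7)}, e X = x → x ≠ 1 → X ≠ 1 := fun {X x} hX hx h1 =>
    hx (by rw [← hX, h1, QuotientGroup.mk_one, map_one])
  have hzero : ∀ {z : L}, z ∈ Subgroup.center L → z * z = 1 → z = 1 := fun {z} hz hzz => by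
    have := h.pow_three_center hz
    rwa [pow_succ, pow_two, hzz, one_mul] at this
  have hcen : ∀ {z : L}, e z = 1 → z ∈ Subgroup.center L := fun {z} hz =>
    (QuotientGroup.eq_one_iff _).1 (e.injective (hz.trans (map_one e).symm))
  have hAB : A * B = B * A := by
    set z := A * B * A * B with hzdef
    have hz : z ∈ Subgroup.center L := hcen (by
      rw [QuotientGroup.mk_mul, QuotientGroup.mk_mul, QuotientGroup.mk_mul, map_mul, map_mul, map_mul, hAq, hBq,
        hab, mul_assoc b, ha, mul_one, hb])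
    have h1 : A * B * A = z * B := by rw [hzdef, mul_assoc (A * B * A), hB, mul_one]
    have h3 : z * z = 1 := by
      have h4 : (A * B * A) * (A * B * A) = 1 := by
        calc A * B * A * (A * B * A) = A * B * (A * A) * (B * A) := by simp only [mul_assoc]
          _ = A * (B * B) * A := by rw [hA, mul_one]; simp only [mul_assoc]
          _ = 1 := by rw [hB, mul_one, hA]
      rw [h1] at h4
      calc z * z = z * z * (B * B) := by rw [hB, mul_one]
        _ = z * (z * B) * B := by simp only [mul_assoc]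
        _ = z * (B * z) * B := by rw [Subgroup.mem_center_iff.1 hz B]
        _ = z * B * (z * B) := by simp only [mul_assoc]
        _ = 1 := h4
    rw [hzero hz h3, one_mul] at h1
    calc A * B = A * B * A * A := by rw [mul_assoc (A * B), hA, mul_one]
      _ = B * A := by rw [h1]
  have hC : (A * B) * (A * B) = 1 := by rw [mul_assoc, ← mul_assoc B A, ← hAB, mul_assoc A B B, hB, mul_one, hA]
  have hCq : e ((A * B : L) : L ⧸ Subgroup.center L) = a * b := by rw [QuotientGroup.mk_mul, map_mul, hAq, hBq]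
  have hC1 : a * b ≠ 1 := fun h1 => hne ((eq_inv_of_mul_eq_one_left h1).trans (inv_eq_of_mul_eq_one_right hb))
  obtain ⟨c', φ', hc', hU'⟩ := exists_homology_form h h2 hU (hne1 hUq hu1)
  have hidem : ∀ {c φ : Fin 3 → k}, φ ⬝ᵥ c = 1 → Matrix.vecMulVec c φ * Matrix.vecMulVec c φ = Matrix.vecMulVec c φ :=
    fun {c φ} hc => by rw [Matrix.vecMulVec_mul_vecMulVec, hc, one_smul]
  have hkey : ∀ {X : L} {x : alternatingGroup (Fin 7)}, e X = x → X * X = 1 →
      ((x * u) ^ 2 ≠ 1 ∧ (x * u) ^ 3 ≠ 1 ∧ (x * u) ^ 6 = 1) → ∀ c φ : Fin 3 → k, φ ⬝ᵥ c = 1 →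
      mat X = (2 : k) • Matrix.vecMulVec c φ - 1 → 4 * ((φ ⬝ᵥ c') * (φ' ⬝ᵥ c)) = 3 := by
    intro X x hX hXX hx c φ hc hXm
    have hXU : e ((X * U : L) : L ⧸ Subgroup.center L) = x * u := by rw [QuotientGroup.mk_mul, map_mul, hX, hUq]
    have hn : ∀ n : ℕ, (x * u) ^ n ≠ 1 → mat (X * U) ^ n ≠ 1 := fun n hn e1 => hn (by
      rw [← hXU, ← map_pow, ← QuotientGroup.mk_pow, show (X * U) ^ n = 1 from mat_injective ((map_pow (mat (L := L)) (X * U) n).trans (e1.trans (map_one (mat (L := L))).symm)),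
        QuotientGroup.mk_one, map_one])
    have h6 : (X * U) ^ 6 = 1 := by
      have hz : (X * U) ^ 6 ∈ Subgroup.center L := hcen (by rw [QuotientGroup.mk_pow, map_pow, hXU, hx.2.2])
      refine hzero hz ?_
      have hXi : X⁻¹ = X := inv_eq_of_mul_eq_one_right hXX
      have hUi : U⁻¹ = U := inv_eq_of_mul_eq_one_right hU
      have h1 : X * (X * U) * X⁻¹ = (X * U)⁻¹ := by rw [← mul_assoc, hXX, one_mul, _root_.mul_inv_rev, hXi, hUi]
      have h3 : X * (X * U) ^ 6 * X⁻¹ = ((X * U) ^ 6)⁻¹ := by rw [← conj_pow, h1, inv_pow]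
      rw [Subgroup.mem_center_iff.1 hz X, mul_inv_cancel_right] at h3
      exact mul_eq_one_iff_eq_inv.2 h3
    have hm : mat (X * U) = ((2 : k) • Matrix.vecMulVec c φ - 1) * ((2 : k) • Matrix.vecMulVec c' φ' - 1) := by
      rw [map_mul, hXm, hU']
    have e2 := hn 2 hx.1
    have e3 := hn 3 hx.2.1
    have e6 : mat (X * U) ^ 6 = 1 := by rw [← map_pow, h6, map_one]
    rw [hm] at e2 e3 e6
    refine four_mul_eq_three h2 (hidem hc) (hidem hc') ?_ ?_ e3 e6 (fun _ hsq => e2 ?_) e2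
    · rw [Matrix.vecMulVec_mul_vecMulVec, Matrix.vecMulVec_smul, smul_mul_assoc, Matrix.vecMulVec_mul_vecMulVec,
        Matrix.vecMulVec_smul, smul_smul]
    · rw [Matrix.vecMulVec_mul_vecMulVec, Matrix.vecMulVec_smul, smul_mul_assoc, Matrix.vecMulVec_mul_vecMulVec,
        Matrix.vecMulVec_smul, smul_smul, mul_comm]
    · rw [← hm, ← map_pow] at hsq ⊢
      rw [show (X * U) ^ 2 = 1 from h.noTransvection _ (by rw [← mat_apply]; exact hsq), map_one]
  obtain ⟨c₁, φ₁, hc₁, hA'⟩ := exists_homology_form h h2 hA (hne1 hAq ha1)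
  obtain ⟨c₂, φ₂, hc₂, hB'⟩ := exists_homology_form h h2 hB (hne1 hBq hb1)
  obtain ⟨c₃, φ₃, hc₃, hC'⟩ := exists_homology_form h h2 hC (hne1 hCq hC1)
  have k1 := hkey hAq hA hau c₁ φ₁ hc₁ hA'
  have k2 := hkey hBq hB hbu c₂ φ₂ hc₂ hB'
  have k3 := hkey hCq hC habu c₃ φ₃ hc₃ hC'
  set P₁ := Matrix.vecMulVec c₁ φ₁ with hP₁
  set P₂ := Matrix.vecMulVec c₂ φ₂ with hP₂
  have hcomm : P₁ * P₂ = P₂ * P₁ := by
    have e1 := congrArg mat hAB
    rw [map_mul, map_mul, hA', hB', ← sub_eq_zero] at e1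
    refine smul_right_injective _ (mul_ne_zero h2 h2) ?_
    rw [← sub_eq_zero]
    rw [← e1]
    simp only [sub_mul, mul_sub, smul_mul_assoc, mul_smul_comm, smul_smul, one_mul, mul_one]
    module
  have h12 : P₁ * P₂ = 0 := by
    set r := (φ₁ ⬝ᵥ c₂) * (φ₂ ⬝ᵥ c₁)
    have e1 : P₁ * P₂ * P₁ = r • P₁ := by
      rw [hP₁, hP₂, Matrix.vecMulVec_mul_vecMulVec, Matrix.vecMulVec_smul, smul_mul_assoc,
        Matrix.vecMulVec_mul_vecMulVec, Matrix.vecMulVec_smul, smul_smul]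
    have e2 : P₂ * P₁ * P₂ = r • P₂ := by
      rw [hP₁, hP₂, Matrix.vecMulVec_mul_vecMulVec, Matrix.vecMulVec_smul, smul_mul_assoc,
        Matrix.vecMulVec_mul_vecMulVec, Matrix.vecMulVec_smul, smul_smul, mul_comm]
    have e3 : P₁ * P₂ * P₁ = P₁ * P₂ := by rw [mul_assoc, ← hcomm, ← mul_assoc, hidem hc₁]
    have e4 : P₂ * P₁ * P₂ = P₁ * P₂ := by rw [← hcomm, mul_assoc, hidem hc₂]
    rw [e3] at e1
    rw [e4, e1] at e2
    by_cases hr : r = 0
    · rw [e1, hr, zero_smul]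
    · exfalso
      refine hne ?_
      rw [← hAq, ← hBq, show A = B from mat_injective (by rw [hA', hB', smul_right_injective _ hr e2])]
  have hsum : P₁ + P₂ + Matrix.vecMulVec c₃ φ₃ = 1 := by
    refine smul_right_injective _ h2 ?_
    have e1 : (2 : k) • Matrix.vecMulVec c₃ φ₃ = mat A * mat B + 1 := by
      rw [← map_mul, hC', sub_add_cancel]
    show (2 : k) • (P₁ + P₂ + Matrix.vecMulVec c₃ φ₃) = (2 : k) • 1
    rw [smul_add, e1, hA', hB']
    simp only [sub_mul, mul_sub, smul_mul_assoc, mul_smul_comm, smul_smul, one_mul, mul_one, h12, smul_zero]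
    module
  have htr : ∀ c φ : Fin 3 → k, Matrix.trace (Matrix.vecMulVec c φ * Matrix.vecMulVec c' φ') =
      (φ ⬝ᵥ c') * (φ' ⬝ᵥ c) := fun c φ => by
    rw [Matrix.vecMulVec_mul_vecMulVec, Matrix.vecMulVec_smul, Matrix.trace_smul, Matrix.trace_vecMulVec,
      dotProduct_comm c, smul_eq_mul]
  have htot := congrArg (fun X => Matrix.trace (X * Matrix.vecMulVec c' φ')) hsum
  simp only [add_mul, Matrix.trace_add, hP₁, hP₂, htr, one_mul, Matrix.trace_vecMulVec, dotProduct_comm c', hc'] at htot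
  linear_combination -k1 - k2 - k3 + 4 * htot

end CfsgLib.Geo.SL3.Engine
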