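import Cfsg.Agent.Lib.Geo.SL3.Engine.Basic

/-!
# `PSL(2, q)` in the other characteristic has `q ≤ 9`
-/

set_option autoImplicit false
set_option maxHeartbeats 400000

namespace CfsgLib.Geo.SL3.Engine

open Matrix
open scoped MatrixGroups

theorem perm_small {α : Type*} [Fintype α] (h : Fintype.card α ≤ 3) (σ : Equiv.Perm α) :
    σ ^ 2 = 1 ∨ σ ^ 3 = 1 := by
  classical
  have key : ∀ n ≤ 3, ∀ τ : Equiv.Perm (Fin n), τ ^ 2 = 1 ∨ τ ^ 3 = 1 := by decide +kernel
  let f := (Fintype.equivFin α).permCongrHom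
  rcases key _ h (f σ) with h' | h'
  · exact Or.inl (f.injective (by rw [map_pow, h', map_one]))
  · exact Or.inr (f.injective (by rw [map_pow, h', map_one]))

section SL

variable {K : Type*} [Field K]

/-- The unipotent element. -/
def uEl (b : K) : SL(2, K) := ⟨!![1, b; 0, 1], by simp [Matrix.det_fin_two]⟩

/-- The torus element. -/
def dEl (l : Kˣ) : SL(2, K) := ⟨!![(l : K), 0; 0, ((l⁻¹ : Kˣ) : K)], by simp [Matrix.det_fin_two]⟩

theorem uEl_add (a b : K) : uEl (a + b) = uEl a * uEl b := by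
  apply Subtype.ext
  show !![1, a + b; 0, 1] = !![1, a; 0, 1] * !![1, b; 0, 1]
  ext i j; fin_cases i <;> fin_cases j <;> simp [Matrix.mul_apply, Fin.sum_univ_two, add_comm]

theorem uEl_zero : uEl (0 : K) = 1 := by
  apply Subtype.ext
  show !![1, (0 : K); 0, 1] = 1
  ext i j; fin_cases i <;> fin_cases j <;> simp

theorem dEl_conj (l : Kˣ) (b : K) : dEl l * uEl b * (dEl l)⁻¹ = uEl ((l : K) * l * b) := by
  rw [mul_inv_eq_iff_eq_mul]
  apply Subtype.ext
  show !![(l : K), 0; 0, ((l⁻¹ : Kˣ) : K)] * !![1, b; 0, 1] =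
    !![1, (l : K) * l * b; 0, 1] * !![(l : K), 0; 0, ((l⁻¹ : Kˣ) : K)]
  ext i j; fin_cases i <;> fin_cases j <;> simp [Matrix.mul_apply, Fin.sum_univ_two]
  field_simp

theorem dEl_pow (l : Kˣ) (n : ℕ) : dEl l ^ n = dEl (l ^ n) := by
  induction n with
  | zero =>
    apply Subtype.ext
    show (1 : Matrix (Fin 2) (Fin 2) K) = _
    ext i j; fin_cases i <;> fin_cases j <;> simp [dEl]
  | succ n ih =>
    rw [pow_succ, ih]
    apply Subtype.ext
    show !![((l ^ n : Kˣ) : K), 0; 0, (((l ^ n)⁻¹ : Kˣ) : K)] * !![(l : K), 0; 0, ((l⁻¹ : Kˣ) : K)] =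
      !![((l ^ (n + 1) : Kˣ) : K), 0; 0, (((l ^ (n + 1))⁻¹ : Kˣ) : K)]
    ext i j; fin_cases i <;> fin_cases j <;> simp [Matrix.mul_apply, Fin.sum_univ_two, pow_succ, mul_comm]

theorem uEl_eq_of_mk_eq {a b : K}
    (e : ((uEl a : SL(2, K)) : Matrix.ProjectiveSpecialLinearGroup (Fin 2) K) = (uEl b : SL(2, K))) : a = b := by
  have h1 := inv_mem (QuotientGroup.eq.1 e)
  rw [_root_.mul_inv_rev, inv_inv] at h1
  obtain ⟨r, hr, hr'⟩ := Matrix.SpecialLinearGroup.mem_center_iff.1 h1
  have h2 : ((uEl b)⁻¹ * uEl a : SL(2, K)) = uEl (a - b) := by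
    rw [inv_mul_eq_iff_eq_mul, ← uEl_add, add_sub_cancel]
  rw [h2] at hr'
  have := congrFun (congrFun hr' 0) 1
  simp [uEl] at this
  exact sub_eq_zero.1 this.symm

end SL

variable {k : Type*} [Field k] [IsAlgClosed k] {L : Subgroup (GL (Fin 3) k)}

/-- Commuting with two elements whose commutator is a non-trivial scalar means central. -/
theorem Hyp.mem_center_of_pair (h : Hyp L) {x y w : L} {c : k} (hc : c ≠ 1) (hc3 : c ^ 3 = 1)
    (hxy : mat (x * y) = c • mat (y * x)) (hwx : w * x = x * w) (hwy : w * y = y * w) :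
    w ∈ Subgroup.center L := by
  obtain ⟨a, ha⟩ := Module.End.exists_eigenvalue (Matrix.toLinAlgEquiv' (mat w) : Module.End k (Fin 3 → k))
  set W := Module.End.eigenspace (Matrix.toLinAlgEquiv' (mat w) : Module.End k (Fin 3 → k)) a with hW
  have hmem : ∀ v, v ∈ W ↔ mat w *ᵥ v = a • v := fun v => by
    rw [hW, Module.End.mem_eigenspace_iff, Matrix.toLinAlgEquiv'_apply]
  have hinv : ∀ z : L, w * z = z * w → ∀ v ∈ W, Matrix.toLin' (mat z) v ∈ W := fun z hz v hv => by
    rw [hmem] at hv ⊢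
    rw [Matrix.toLin'_apply, Matrix.mulVec_mulVec, ← map_mul, hz, map_mul, ← Matrix.mulVec_mulVec, hv,
      Matrix.mulVec_smul]
  set X := (Matrix.toLin' (mat x)).restrict (hinv x hwx) with hX
  set Y := (Matrix.toLin' (mat y)).restrict (hinv y hwy) with hY
  have hdet : ∀ z : L, ∀ hz : w * z = z * w, LinearMap.det ((Matrix.toLin' (mat z)).restrict (hinv z hz)) ≠ 0 := by
    intro z hz hd
    have hzi : w * z⁻¹ = z⁻¹ * w := (show Commute w z from hz).inv_right.eq
    have e : (Matrix.toLin' (mat z)).restrict (hinv z hz) ∘ₗ (Matrix.toLin' (mat z⁻¹)).restrict (hinv z⁻¹ hzi) =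
        LinearMap.id := by
      refine LinearMap.ext fun v => Subtype.ext ?_
      show Matrix.toLin' (mat z) (Matrix.toLin' (mat z⁻¹) v) = (v : Fin 3 → k)
      rw [Matrix.toLin'_apply, Matrix.toLin'_apply, Matrix.mulVec_mulVec, ← map_mul, mul_inv_cancel, map_one,
        Matrix.one_mulVec]
    have e2 := congrArg LinearMap.det e
    rw [LinearMap.det_comp, hd, zero_mul, LinearMap.det_id] at e2
    exact zero_ne_one e2
  have e : X ∘ₗ Y = c • (Y ∘ₗ X) := by
    refine LinearMap.ext fun v => Subtype.ext ?_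
    show Matrix.toLin' (mat x) (Matrix.toLin' (mat y) v) = c • Matrix.toLin' (mat y) (Matrix.toLin' (mat x) v)
    simp only [Matrix.toLin'_apply, Matrix.mulVec_mulVec, ← map_mul, hxy, Matrix.smul_mulVec]
  have e2 := congrArg LinearMap.det e
  rw [LinearMap.det_comp, LinearMap.det_smul, LinearMap.det_comp, mul_comm (LinearMap.det X)] at e2
  have hd : c ^ Module.finrank k W = 1 :=
    (mul_eq_right₀ (mul_ne_zero (hdet y hwy) (hdet x hwx))).1 e2.symm
  have hle : Module.finrank k W ≤ 3 := by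
    simpa using Submodule.finrank_le W
  have hpos : Module.finrank k W ≠ 0 := fun h0 => ha (Submodule.finrank_eq_zero.1 h0)
  have h3 : Module.finrank k W = 3 := by
    have ho : orderOf c = 3 := by
      haveI : Fact (Nat.Prime 3) := ⟨Nat.prime_three⟩
      exact orderOf_eq_prime hc3 hc
    have h1 := Nat.le_of_dvd (Nat.pos_of_ne_zero hpos) (ho ▸ orderOf_dvd_of_pow_eq_one hd)
    omega
  have hWtop : W = ⊤ := Submodule.eq_top_of_finrank_eq (by rw [h3, Module.finrank_fin_fun])
  refine h.mem_center_of_scalar (c := a) (Matrix.toLinAlgEquiv'.injective (LinearMap.ext fun v => ?_))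
  rw [Matrix.toLinAlgEquiv'_apply, Matrix.toLinAlgEquiv'_apply, Matrix.smul_mulVec, Matrix.one_mulVec]
  exact (hmem v).1 (hWtop ▸ Submodule.mem_top)

/-- The projective two dimensional groups of order parameter at least eleven live in the same characteristic. -/
theorem Hyp.ringChar_eq (h : Hyp L) (h2 : (2 : k) ≠ 0) (p : ℕ) [Fact p.Prime] [CharP k p] {K : Type*} [Field K]
    [Fintype K] (e : L ⧸ Subgroup.center L ≃* Matrix.ProjectiveSpecialLinearGroup (Fin 2) K)
    (hq : 11 ≤ Fintype.card K) : ringChar K = p := by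
  classical
  haveI := h.finite
  by_contra hne
  set r := ringChar K with hr
  haveI : CharP K r := ringChar.charP K
  have hrp : r.Prime := CharP.char_is_prime K r
  have hp : p.Prime := Fact.out
  -- the image of the unipotent group
  let U : K → L ⧸ Subgroup.center L := fun b => e.symm ((uEl b : SL(2, K)) : Matrix.ProjectiveSpecialLinearGroup (Fin 2) K)
  have hUadd : ∀ a b, U (a + b) = U a * U b := fun a b => by
    simp only [U, uEl_add, QuotientGroup.mk_mul, map_mul]
  have hUinj : ∀ a b, U a = U b → a = b := fun a b hab => uEl_eq_of_mk_eq (e.symm.injective hab)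
  have hU0 : U 0 = 1 := by simp only [U, uEl_zero, QuotientGroup.mk_one, map_one]
  have hUn : ∀ (n : ℕ) (b : K), U b ^ n = U (n * b) := fun n b => by
    induction n with
    | zero => rw [pow_zero, Nat.cast_zero, zero_mul, hU0]
    | succ n ih => rw [pow_succ, ih, ← hUadd, Nat.cast_succ, add_mul, one_mul]
  choose g hg using fun b => QuotientGroup.mk_surjective (U b)
  have hcomm : ∀ a b, (((g a * g b * (g a)⁻¹ * (g b)⁻¹ : L)) : L ⧸ Subgroup.center L) = 1 := fun a b => by
    simp only [QuotientGroup.mk_mul, QuotientGroup.mk_inv, hg, ← hUadd]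
    rw [mul_inv_eq_one, mul_inv_eq_iff_eq_mul, ← hUadd, add_comm]
  by_cases hab : ∀ a b, Commute (g a) (g b)
  · -- a common eigenbasis permuted by the torus
    obtain ⟨N, hN, hNg⟩ : ∃ N : ℕ, (N : k) ≠ 0 ∧ ∀ b, g b ^ N = 1 := by
      have hr0 : ∀ b, g b ^ r ∈ Subgroup.center L := fun b => (QuotientGroup.eq_one_iff _).1 (by
        rw [QuotientGroup.mk_pow, hg, hUn, CharP.cast_eq_zero, zero_mul, hU0])
      have hrk : (r : k) ≠ 0 := fun h0 => hne
        ((Nat.prime_dvd_prime_iff_eq hp hrp).1 ((CharP.cast_eq_zero_iff k p r).1 h0)).symm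
      by_cases hp3 : p = 3
      · refine ⟨r, hrk, fun b => mat_injective ?_⟩
        obtain ⟨c, hc, hc3⟩ := h.exists_scalar (hr0 b)
        subst hp3
        have : c = 1 := frobenius_inj k 3 (by simpa [frobenius_def] using hc3.trans (one_pow 3).symm)
        rw [hc, this, one_smul, map_one]
      · refine ⟨r * 3, ?_, fun b => ?_⟩
        · rw [Nat.cast_mul]
          refine mul_ne_zero hrk fun h0 => hp3 ?_
          exact (Nat.prime_dvd_prime_iff_eq hp Nat.prime_three).1 ((CharP.cast_eq_zero_iff k p 3).1 h0)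
        · rw [pow_mul, h.pow_three_center (hr0 b)]
    -- the whole preimage
    let E : Set L := {x | ∃ b : K, (x : L ⧸ Subgroup.center L) = U b}
    have hEg : ∀ x ∈ E, ∃ b : K, ∃ z ∈ Subgroup.center L, x = g b * z := fun x ⟨b, hb⟩ =>
      ⟨b, (g b)⁻¹ * x, QuotientGroup.eq.1 ((hg b).trans hb.symm), (mul_inv_cancel_left _ _).symm⟩
    obtain ⟨B, hB⟩ := exists_common_diag (fun b : K => mat (g b)) (fun a b => (hab a b).map mat)
      fun b => ⟨N, hN, by rw [← map_pow, hNg, map_one]⟩
    have hdiag : ∀ x : E, ∃ d : Fin 3 → k,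
        ((B⁻¹ : GL (Fin 3) k) : M3 k) * mat (x : L) * (B : M3 k) = Matrix.diagonal d := fun x => by
      obtain ⟨b, z, hz, hx⟩ := hEg x x.2
      obtain ⟨c, hc, -⟩ := h.exists_scalar hz
      obtain ⟨d, hd⟩ := hB b
      refine ⟨c • d, ?_⟩
      rw [hx, map_mul, hc, mul_smul_comm, mul_one, mul_smul_comm, smul_mul_assoc, hd, ← Matrix.diagonal_smul]
    choose d hd using hdiag
    obtain ⟨l, hl⟩ := IsCyclic.exists_generator (α := Kˣ)
    have hlo : orderOf l = Fintype.card K - 1 := by
      rw [orderOf_eq_card_of_forall_mem_zpowers hl, Nat.card_units, Nat.card_eq_fintype_card]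
    obtain ⟨H, hH⟩ := QuotientGroup.mk_surjective
      (e.symm ((dEl l : SL(2, K)) : Matrix.ProjectiveSpecialLinearGroup (Fin 2) K))
    have hUconj : ∀ (m : Kˣ) (b : K), e.symm ((dEl m : SL(2, K)) : Matrix.ProjectiveSpecialLinearGroup (Fin 2) K) *
        U b * (e.symm ((dEl m : SL(2, K)) : Matrix.ProjectiveSpecialLinearGroup (Fin 2) K))⁻¹ =
        U ((m : K) * m * b) := fun m b => by
      simp only [U]
      rw [← map_inv, ← map_mul, ← map_mul, ← QuotientGroup.mk_inv, ← QuotientGroup.mk_mul, ← QuotientGroup.mk_mul,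
        dEl_conj]
    have hconjE : ∀ x : E, H * (x : L) * H⁻¹ ∈ E := fun x => by
      obtain ⟨b, hb⟩ := x.2
      exact ⟨(l : K) * l * b, by rw [QuotientGroup.mk_mul, QuotientGroup.mk_mul, QuotientGroup.mk_inv, hH, hb, hUconj]⟩
    let cf : E → E := fun x => ⟨H * (x : L) * H⁻¹, hconjE x⟩
    have hcfs : Function.Surjective cf := fun x => by
      obtain ⟨b, hb⟩ := x.2
      have hm : H⁻¹ * (x : L) * H ∈ E := by
        refine ⟨((l⁻¹ : Kˣ) : K) * ((l⁻¹ : Kˣ) : K) * b, ?_⟩
        rw [← hUconj, QuotientGroup.mk_mul, QuotientGroup.mk_mul, QuotientGroup.mk_inv, hH, hb]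
        have : dEl (l⁻¹) = (dEl l)⁻¹ := by
          refine eq_inv_of_mul_eq_one_left ?_
          apply Subtype.ext
          show !![((l⁻¹ : Kˣ) : K), 0; 0, (((l⁻¹)⁻¹ : Kˣ) : K)] * !![(l : K), 0; 0, ((l⁻¹ : Kˣ) : K)] = 1
          ext i j; fin_cases i <;> fin_cases j <;> simp [Matrix.mul_apply, Fin.sum_univ_two]
        rw [this, QuotientGroup.mk_inv, map_inv, inv_inv]
      exact ⟨⟨_, hm⟩, Subtype.ext (by show H * (H⁻¹ * (x : L) * H) * H⁻¹ = x; group)⟩
    let τ : (E → k) → (E → k) := fun f => f ∘ cf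
    have hτinj : Function.Injective τ := hcfs.injective_comp_right
    let χ : Fin 3 → (E → k) := fun i x => d x i
    set S := Finset.univ.image χ with hS
    set X := ((B⁻¹ : GL (Fin 3) k) : M3 k) * mat H * (B : M3 k) with hX
    have hXc : ∀ x : E, X * Matrix.diagonal (d x) = Matrix.diagonal (d (cf x)) * X := fun x => by
      rw [← hd, ← hd, hX]
      show _ = ((B⁻¹ : GL (Fin 3) k) : M3 k) * mat (H * (x : L) * H⁻¹) * (B : M3 k) * _
      simp only [map_mul, mul_assoc, Units.mul_inv_cancel_left]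
      congr 2
      rw [← mul_assoc (mat H⁻¹), ← map_mul, inv_mul_cancel, map_one, one_mul]
    have hsub : S ⊆ S.image τ := by
      intro f hf
      obtain ⟨i, -, rfl⟩ := Finset.mem_image.1 hf
      obtain ⟨j, hj⟩ : ∃ j, X j i ≠ 0 := by
        by_contra hall
        push Not at hall
        have hXd : X.det = 1 := by
          rw [hX, Matrix.det_mul, Matrix.det_mul, h.det_mat, mul_one, ← Matrix.det_mul, Units.inv_mul,
            Matrix.det_one]
        rw [Matrix.det_eq_zero_of_column_eq_zero i hall] at hXd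
        exact zero_ne_one hXd
      refine Finset.mem_image.2 ⟨χ j, Finset.mem_image_of_mem _ (Finset.mem_univ j), funext fun x => ?_⟩
      have := congrFun (congrFun (hXc x) j) i
      rw [Matrix.mul_diagonal, Matrix.diagonal_mul, mul_comm] at this
      exact (mul_right_cancel₀ hj this).symm
    have himg : S.image τ = S :=
      (Finset.eq_of_subset_of_card_le hsub (Finset.card_image_le)).symm
    have hmaps : ∀ f : S, τ f ∈ S := fun f => by
      have h1 := Finset.mem_image_of_mem τ f.2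
      rw [himg] at h1
      exact h1
    have hbij : Function.Bijective (fun f : S => (⟨τ f, hmaps f⟩ : S)) :=
      Finite.injective_iff_bijective.1 fun f f' hff => Subtype.ext (hτinj (congrArg Subtype.val hff))
    let σ : Equiv.Perm S := Equiv.ofBijective _ hbij
    have hcard : Fintype.card S ≤ 3 := by
      rw [Fintype.card_coe]
      exact Finset.card_image_le.trans (by simp)
    obtain ⟨n, hn0, hn3, hσn⟩ : ∃ n : ℕ, 1 ≤ n ∧ n ≤ 3 ∧ σ ^ n = 1 := by
      rcases perm_small hcard σ with h' | h'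
      exacts [⟨2, by omega, by omega, h'⟩, ⟨3, by omega, le_rfl, h'⟩]
    have hiter : ∀ (m : ℕ) (f : S), ((σ ^ m) f : E → k) = τ^[m] f := fun m f => by
      induction m with
      | zero => rfl
      | succ m ih => rw [pow_succ', Equiv.Perm.mul_apply, Function.iterate_succ_apply', ← ih]; rfl
    have hfix : ∀ (i : Fin 3) (x : E), d (cf^[n] x) i = d x i := fun i x => by
      have h1 := hiter n ⟨χ i, Finset.mem_image_of_mem _ (Finset.mem_univ i)⟩
      rw [hσn] at h1
      have hit : ∀ (m : ℕ) (f : E → k), τ^[m] f = f ∘ cf^[m] := fun m => by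
        induction m with
        | zero => intro f; rfl
        | succ m ih => intro f; rw [Function.iterate_succ_apply', ih, Function.iterate_succ]; rfl
      rw [hit] at h1
      exact (congrFun h1 x).symm
    have hcfn : ∀ (m : ℕ) (x : E), ((cf^[m] x : E) : L) = H ^ m * (x : L) * (H ^ m)⁻¹ := fun m x => by
      induction m with
      | zero => simp
      | succ m ih =>
        rw [Function.iterate_succ_apply']
        show H * ((cf^[m] x : E) : L) * H⁻¹ = _
        rw [ih, pow_succ']
        group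
    have hcen : ∀ x : E, H ^ n * (x : L) * (H ^ n)⁻¹ = x := fun x => by
      rw [← hcfn]
      refine mat_injective ?_
      have h1 := (hd (cf^[n] x)).trans ((congrArg Matrix.diagonal (funext fun i => hfix i x)).trans (hd x).symm)
      exact B⁻¹.isUnit.mul_left_cancel (B.isUnit.mul_right_cancel h1)
    have hU1 : U (((l ^ n : Kˣ) : K) * ((l ^ n : Kˣ) : K) * 1) = U 1 := by
      rw [← hUconj, ← dEl_pow, QuotientGroup.mk_pow, map_pow, ← hH, ← QuotientGroup.mk_pow, ← hg 1,
        ← QuotientGroup.mk_inv, ← QuotientGroup.mk_mul, ← QuotientGroup.mk_mul, hcen ⟨g 1, 1, hg 1⟩]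
    have h1 := hUinj _ _ hU1
    rw [mul_one, ← Units.val_mul, Units.val_eq_one, ← pow_add] at h1
    have h3 := Nat.le_of_dvd (by omega) (orderOf_dvd_of_pow_eq_one h1)
    omega
  -- two elements with scalar commutator
  push Not at hab
  obtain ⟨a, b, hab⟩ := hab
  obtain ⟨c, hc, hc3⟩ := h.exists_scalar ((QuotientGroup.eq_one_iff _).1 (hcomm a b))
  have hxy : mat (g a * g b) = c • mat (g b * g a) := by
    have e1 : g a * g b = g a * g b * (g a)⁻¹ * (g b)⁻¹ * (g b * g a) := by group
    rw [e1, map_mul, hc, smul_mul_assoc, one_mul]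
  have hc1 : c ≠ 1 := fun e1 => hab (mat_injective (by
    show mat (g a * g b) = mat (g b * g a)
    rw [hxy, e1, one_smul]))
  choose z hz hz3 using fun x y => h.exists_scalar ((QuotientGroup.eq_one_iff _).1 (hcomm x y))
  set R := (Polynomial.nthRoots 3 (1 : k)).toFinset
  have hR : ∀ x y, z x y ∈ R := fun x y =>
    Multiset.mem_toFinset.2 ((Polynomial.mem_nthRoots (by norm_num)).2 (hz3 x y))
  have hRc : R.card ≤ 3 := (Multiset.toFinset_card_le _).trans (Polynomial.card_nthRoots 3 1)
  let F : K → R × R := fun x => (⟨z x a, hR x a⟩, ⟨z x b, hR x b⟩)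
  have hF : Function.Injective F := by
    intro x y hxy'
    simp only [F, Prod.mk.injEq, Subtype.mk.injEq] at hxy'
    refine hUinj x y ?_
    have key : ∀ w, z x w = z y w → (g y)⁻¹ * g x * g w = g w * ((g y)⁻¹ * g x) := fun w hw => by
      have e1 : g x * g w * (g x)⁻¹ * (g w)⁻¹ = g y * g w * (g y)⁻¹ * (g w)⁻¹ :=
        mat_injective (by rw [hz, hz, hw])
      have e2 : g x * g w * (g x)⁻¹ = g y * g w * (g y)⁻¹ := mul_right_cancel e1
      calc (g y)⁻¹ * g x * g w = (g y)⁻¹ * (g x * g w * (g x)⁻¹) * g x := by group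
        _ = g w * ((g y)⁻¹ * g x) := by rw [e2]; group
    have hw := h.mem_center_of_pair hc1 hc3 hxy (key a hxy'.1) (key b hxy'.2)
    rw [← hg x, ← hg y]
    exact ((QuotientGroup.eq).2 hw).symm
  have h9 := Fintype.card_le_of_injective F hF
  rw [Fintype.card_prod, Fintype.card_coe] at h9
  nlinarith

end CfsgLib.Geo.SL3.Engine
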