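import Cfsg.Agent.Lib.Geo.SL3.Engine.Reduction
import Cfsg.Agent.Lib.Geo.SL3.Engine.Alt7
import Cfsg.Agent.Lib.Geo.SL3.Engine.Small
import Cfsg.Agent.Lib.Geo.SL3.Basic
import Cfsg.Agent.Lib.Geo.Asch.Span
import Cfsg.Agent.Lib.Classical.SmallIso
import Cfsg.Agent.S0984

/-!
# Cores of `SL(3)` without transvections
-/

set_option autoImplicit false

namespace CfsgLib.Geo.SL3.Engine

open Matrix
open scoped MatrixGroups

variable {F : Type*} [Field F]

/-- A matrix of square zero in dimension three has rank at most one. -/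
theorem exists_vecMulVec_of_sq_eq_zero {N : Matrix (Fin 3) (Fin 3) F} (h : N ^ 2 = 0) :
    ∃ u φ : Fin 3 → F, N = Matrix.vecMulVec u φ := by
  set T := Matrix.toLin' N with hT
  have hle : LinearMap.range T ≤ LinearMap.ker T := by
    rintro _ ⟨x, rfl⟩
    rw [LinearMap.mem_ker, hT, Matrix.toLin'_apply, Matrix.toLin'_apply, Matrix.mulVec_mulVec, ← pow_two, h,
      Matrix.zero_mulVec]
  have hsum := LinearMap.finrank_range_add_finrank_ker T
  rw [Module.finrank_fin_fun] at hsum
  have hmono := Submodule.finrank_mono hle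
  obtain ⟨⟨u, hu⟩, hgen⟩ := finrank_le_one_iff.1 (show Module.finrank F (LinearMap.range T) ≤ 1 by omega)
  choose c hc using fun j : Fin 3 => hgen ⟨T (Pi.single j 1), ⟨_, rfl⟩⟩
  refine ⟨u, c, ?_⟩
  ext i j
  have h1 := congrFun (congrArg Subtype.val (hc j)) i
  simp [hT, Matrix.toLin'_apply] at h1
  rw [Matrix.vecMulVec_apply, ← h1, mul_comm]

variable [Fintype F] {L : Subgroup (Matrix.GeneralLinearGroup (Fin 3) F)}

omit [Fintype F] in
theorem center_eq (hL : IsCore L) :
    (Cfsg.Geo.scalars (Fin 3) F).subgroupOf L = Subgroup.center L := by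
  ext z
  rw [Subgroup.mem_subgroupOf, Cfsg.Geo.mem_scalars_iff, Subgroup.mem_center_iff]
  constructor
  · rintro ⟨c, hc⟩ g
    refine Subtype.ext (Units.ext ?_)
    rw [Subgroup.coe_mul, Subgroup.coe_mul, Units.val_mul, Units.val_mul, hc, mul_smul_comm, smul_mul_assoc,
      mul_one, one_mul]
  · intro hz
    obtain ⟨c, hc⟩ := hL.absIrred.2 (((z : GL (Fin 3) F)) : Matrix (Fin 3) (Fin 3) F) (by
      rintro _ ⟨g, hg, rfl⟩
      exact congrArg (fun x : L => ((x : GL (Fin 3) F) : Matrix (Fin 3) (Fin 3) F)) (hz ⟨g, hg⟩).symm)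
    have hc0 : c ≠ 0 := fun e => by
      rw [e, zero_smul] at hc
      exact ((Matrix.isUnit_iff_isUnit_det _).1 (z : GL (Fin 3) F).isUnit).ne_zero (by rw [hc, Matrix.det_zero])
    exact ⟨Units.mk0 c hc0, hc⟩

omit [Fintype F] in
/-- A core over `F` gives the hypotheses over an algebraically closed field. -/
theorem exists_hyp [Finite F] (k : Type*) [Field k] [Algebra F k] (hL : IsCore L) (hT : NoTransvection L) :
    ∃ (L' : Subgroup (GL (Fin 3) k)), Hyp L' ∧ Nonempty (L ⧸ (Cfsg.Geo.scalars (Fin 3) F).subgroupOf L ≃*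
      L' ⧸ Subgroup.center L') := by
  classical
  haveI := Fintype.ofFinite F
  set f := algebraMap F k with hf
  have hfi : Function.Injective f := (algebraMap F k).injective
  let Φ : GL (Fin 3) F →* GL (Fin 3) k := Units.map (f.mapMatrix : Matrix (Fin 3) (Fin 3) F →+* M3 k).toMonoidHom
  have hΦi : Function.Injective Φ := fun a b hab => Units.ext
    (Matrix.map_injective hfi (congrArg (fun x : GL (Fin 3) k => (x : M3 k)) hab))
  let L' := L.map Φ
  let e : L ≃* L' := L.equivMapOfInjective Φ hΦi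
  have he : ∀ g : L, mat (e g) = ((g : GL (Fin 3) F) : Matrix (Fin 3) (Fin 3) F).map f := fun g => rfl
  let ec : L ⧸ (Cfsg.Geo.scalars (Fin 3) F).subgroupOf L ≃* L' ⧸ Subgroup.center L' :=
    QuotientGroup.congr _ (Subgroup.center L') e (by
      rw [center_eq hL]
      refine le_antisymm ?_ ?_
      · rintro _ ⟨x, hx, rfl⟩
        refine Subgroup.mem_center_iff.2 fun y => ?_
        obtain ⟨y', rfl⟩ := e.surjective y
        show e y' * e x = e x * e y'
        rw [← map_mul, ← map_mul, Subgroup.mem_center_iff.1 hx y']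
      · intro x hx
        obtain ⟨x', rfl⟩ := e.surjective x
        refine ⟨x', Subgroup.mem_center_iff.2 fun y => e.injective ?_, rfl⟩
        rw [map_mul, map_mul, Subgroup.mem_center_iff.1 hx (e y)])
  refine ⟨L', ⟨?_, fun g => ?_, fun W hW => ?_, fun g hg => ?_, ?_, ?_, ?_⟩, ⟨ec⟩⟩
  · exact Finite.of_surjective e e.surjective
  · obtain ⟨g, rfl⟩ := e.surjective g
    rw [← mat_apply, he, show ((g : GL (Fin 3) F) : Matrix (Fin 3) (Fin 3) F).map f =
      f.mapMatrix ((g : GL (Fin 3) F) : Matrix (Fin 3) (Fin 3) F) from rfl, ← RingHom.map_det]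
    have hd : Matrix.GeneralLinearGroup.det (g : GL (Fin 3) F) = 1 := hL.le g.2
    rw [show ((g : GL (Fin 3) F) : Matrix (Fin 3) (Fin 3) F).det = 1 from congrArg Units.val hd, map_one]
  · by_cases h0 : W = ⊥
    · exact Or.inl h0
    right
    have hall : ∀ M : Matrix (Fin 3) (Fin 3) F, ∀ v ∈ W, M.map f *ᵥ v ∈ W := by
      intro M
      have hM : M ∈ Submodule.span F (Cfsg.Geo.matrixSet L) := by
        rw [CfsgLib.Geo.Asch.span_eq_top hL.absIrred]; exact Submodule.mem_top
      induction hM using Submodule.span_induction with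
      | mem x hx =>
        intro v hv
        obtain ⟨g, hg, rfl⟩ := hx
        exact hW (e ⟨g, hg⟩) v hv
      | zero => intro v _; rw [Matrix.map_zero _ (map_zero f), Matrix.zero_mulVec]; exact zero_mem W
      | add x y _ _ hx hy =>
        intro v hv
        rw [Matrix.map_add _ (map_add f), Matrix.add_mulVec]
        exact add_mem (hx v hv) (hy v hv)
      | smul a x _ hx =>
        intro v hv
        rw [Matrix.map_smul' _ _ _ (fun a b => map_mul f a b), Matrix.smul_mulVec]
        exact W.smul_mem _ (hx v hv)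
    obtain ⟨v, hv, hv0⟩ := W.ne_bot_iff.1 h0
    obtain ⟨j, hj⟩ := Function.ne_iff.1 hv0
    have hbasis : ∀ i, (Pi.single i 1 : Fin 3 → k) ∈ W := fun i => by
      have h1 := W.smul_mem (v j)⁻¹ (hall (Matrix.single i j 1) v hv)
      convert h1 using 1
      ext l
      fin_cases i <;> fin_cases j <;> fin_cases l <;>
        simp [Matrix.mulVec, dotProduct, Fin.sum_univ_three, Matrix.single] <;>
        exact (inv_mul_cancel₀ hj).symm
    refine eq_top_iff.2 fun x _ => ?_
    rw [pi_eq_sum_univ' x]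
    exact sum_mem fun i _ => W.smul_mem _ (hbasis i)
  · obtain ⟨g, rfl⟩ := e.surjective g
    rw [← mat_apply, he] at hg
    set A := ((g : GL (Fin 3) F) : Matrix (Fin 3) (Fin 3) F) with hA
    have hA2 : (A - 1) ^ 2 = 0 := by
      apply Matrix.map_injective hfi
      show f.mapMatrix ((A - 1) ^ 2) = f.mapMatrix 0
      rw [map_pow, map_sub, map_one, map_zero]
      exact hg
    obtain ⟨u, φ, hu⟩ := exists_vecMulVec_of_sq_eq_zero hA2
    suffices hN : A - 1 = 0 by
      rw [show g = 1 from Subtype.ext (Units.ext (sub_eq_zero.1 hN)), map_one]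
    by_cases hz : Matrix.vecMulVec u φ = 0
    · rw [hu, hz]
    have hdot : φ ⬝ᵥ u = 0 := by
      have h1 := hA2
      rw [hu, pow_two, Matrix.vecMulVec_mul_vecMulVec, Matrix.vecMulVec_smul] at h1
      exact (smul_eq_zero.1 h1).resolve_right hz
    have hroot : CfsgLib.Geo.Roots.Root L φ u := by
      refine ⟨hdot, ?_⟩
      convert g.2 using 1
      refine Units.ext ?_
      show 1 + Matrix.vecMulVec u φ = A
      rw [← hu, add_sub_cancel]
    rw [hu]
    rcases hT φ u hroot with h0 | h0 <;> simp [h0]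
  · haveI := hL.simple
    haveI : Nontrivial (L' ⧸ Subgroup.center L') := ec.symm.toEquiv.nontrivial
    exact IsSimpleGroup.isSimpleGroup_of_surjective ec.toMonoidHom ec.surjective
  · intro hc
    refine hL.nonabelian ⟨⟨fun a b => ec.injective ?_⟩⟩
    rw [map_mul, map_mul, hc]
  · have hcomm : commutator L = ⊤ := by
      refine Subgroup.map_injective L.subtype_injective ?_
      rw [commutator_def, Subgroup.map_commutator, ← MonoidHom.range_eq_map, Subgroup.range_subtype, hL.perfect]
    rw [commutator_def, ← Subgroup.map_top_of_surjective e.toMonoidHom e.surjective, ← Subgroup.map_commutator,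
      ← commutator_def, hcomm]

theorem card_field_ne_three {G : Type*} [Group G] [Finite G] [IsSimpleGroup G] (hnc : ¬ IsMulCommutative G)
    {K : Type} [Field K] [Fintype K] (hK : Fintype.card K = 3)
    (e : G ≃* Matrix.ProjectiveSpecialLinearGroup (Fin 2) K) : False := by
  haveI : Fact (Nat.Prime 2) := ⟨Nat.prime_two⟩
  have h := CfsgLib.Classical.Two.card_PSL_two (F := K)
  rw [hK, ← Nat.card_congr e.toEquiv, show Nat.gcd 2 (3 - 1) = 2 by decide] at h
  have hG : Nat.card G = 12 := by omega
  obtain ⟨P⟩ : Nonempty (Sylow 2 G) := inferInstance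
  have hP : Nat.card (P : Subgroup G) = 4 := by
    rw [P.card_eq_multiplicity, hG, show (12 : ℕ) = 2 ^ 2 * 3 by norm_num,
      Nat.factorization_mul (by norm_num) (by norm_num), Nat.Prime.factorization_pow (by norm_num),
      Finsupp.add_apply, Finsupp.single_eq_same, Nat.factorization_eq_zero_of_not_dvd (by norm_num)]
    norm_num
  have hidx : (P : Subgroup G).index = 3 := by
    have := Subgroup.card_mul_index (P : Subgroup G)
    rw [hP, hG] at this
    omega
  set ρ := MulAction.toPermHom G (G ⧸ (P : Subgroup G))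
  have hker : ρ.ker = ⊥ := by
    refine (inferInstance : ρ.ker.Normal).eq_bot_or_eq_top.resolve_right fun h => ?_
    have h1 : ρ.ker ≤ (P : Subgroup G) := fun x hx => by
      have h2 := congrArg (fun σ : Equiv.Perm (G ⧸ (P : Subgroup G)) => σ ((1 : G) : G ⧸ (P : Subgroup G)))
        (MonoidHom.mem_ker.1 hx)
      simpa [ρ, QuotientGroup.eq, inv_mem_iff] using h2
    rw [h] at h1
    have h3 := Subgroup.card_top (G := G)
    rw [← top_le_iff.1 h1, hP, hG] at h3
    omega
  have := Nat.card_le_card_of_injective ρ ((MonoidHom.ker_eq_bot_iff ρ).1 hker)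
  rw [hG, Nat.card_perm, ← Subgroup.index_eq_card, hidx] at this
  norm_num [Nat.factorial] at this

/-- Cores of `SL(3, F)` without transvections are `PSL(2)` in characteristic of `F`, small, or `A₇` in
characteristic five. -/
theorem conclusion (hodd : (2 : F) ≠ 0) (hL : IsCore L) (hT : NoTransvection L) :
    (∃ (K : Type) (_ : Field K) (_ : Fintype K), Odd (Fintype.card K) ∧ 3 < Fintype.card K ∧
      Nonempty (L ⧸ (Cfsg.Geo.scalars (Fin 3) F).subgroupOf L ≃* Matrix.ProjectiveSpecialLinearGroup (Fin 2) K) ∧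
      ((Fintype.card K = 5 ∨ Fintype.card K = 7 ∨ Fintype.card K = 9) ∨ ringChar K = ringChar F)) ∨
    ((5 : F) = 0 ∧ Nonempty (L ⧸ (Cfsg.Geo.scalars (Fin 3) F).subgroupOf L ≃* alternatingGroup (Fin 7))) := by
  classical
  let k := AlgebraicClosure F
  obtain ⟨L', h, ⟨ec⟩⟩ := exists_hyp k hL hT
  set p := ringChar F with hp
  haveI : CharP F p := ringChar.charP F
  haveI : Fact p.Prime := ⟨CharP.char_is_prime F p⟩
  haveI : CharP k p := charP_of_injective_algebraMap (algebraMap F k).injective p
  have h2 : (2 : k) ≠ 0 := fun e => hodd ((algebraMap F k).injective (by rw [map_ofNat, map_zero, e]))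
  haveI := hL.simple
  rcases h.conclusion p h2 with ⟨K, i1, i2, hKodd, ⟨e⟩⟩ | h2520
  · left
    have h3 : 3 < Fintype.card K := by
      obtain ⟨d, hd⟩ := hKodd
      have h1 : 1 < Fintype.card K := Fintype.one_lt_card
      by_contra hlt
      exact card_field_ne_three hL.nonabelian (by omega) (ec.trans e)
    refine ⟨K, i1, i2, hKodd, h3, ⟨ec.trans e⟩, ?_⟩
    by_cases h11 : 11 ≤ Fintype.card K
    · exact Or.inr (h.ringChar_eq h2 p e h11)
    · left
      obtain ⟨d, hd⟩ := hKodd
      omega
  · right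
    haveI := h.simple
    haveI := h.finite
    obtain ⟨e⟩ := Cfsg.Agent.S0984.result h2520
    refine ⟨?_, ⟨ec.trans e⟩⟩
    exact (algebraMap F k).injective (by rw [map_ofNat, map_zero, h.five_eq_zero h2 p e])

end CfsgLib.Geo.SL3.Engine
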