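import Cfsg.Agent.Lib.Geo.SL3.Engine.Diagonal
import Cfsg.Agent.S0205

/-!
# Finite irreducible subgroups of `SL(3, k)` without transvections

`k` is algebraically closed of odd characteristic and the group is simple modulo its centre.
-/

set_option autoImplicit false

namespace CfsgLib.Geo.SL3.Engine

open Matrix
open scoped Pointwise

/-- Three by three matrices. -/
abbrev M3 (k : Type*) [Field k] := Matrix (Fin 3) (Fin 3) k

variable {k : Type*} [Field k]

/-- The hypotheses on the group. -/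
structure Hyp (L : Subgroup (GL (Fin 3) k)) : Prop where
  finite : Finite L
  det : ∀ g : L, ((g : GL (Fin 3) k) : M3 k).det = 1
  irred : ∀ W : Submodule k (Fin 3 → k),
    (∀ g : L, ∀ v ∈ W, ((g : GL (Fin 3) k) : M3 k) *ᵥ v ∈ W) → W = ⊥ ∨ W = ⊤
  noTransvection : ∀ g : L, (((g : GL (Fin 3) k) : M3 k) - 1) ^ 2 = 0 → g = 1
  simple : IsSimpleGroup (L ⧸ Subgroup.center L)
  not_comm : ¬ ∀ a b : L ⧸ Subgroup.center L, a * b = b * a
  perfect : commutator L = ⊤

/-- The matrix of an element of the group. -/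
def mat {L : Subgroup (GL (Fin 3) k)} : L →* M3 k := (Units.coeHom _).comp L.subtype

theorem mat_injective {L : Subgroup (GL (Fin 3) k)} : Function.Injective (mat (L := L)) :=
  fun _ _ h => Subtype.ext (Units.ext h)

theorem mat_apply {L : Subgroup (GL (Fin 3) k)} (g : L) : mat g = ((g : GL (Fin 3) k) : M3 k) := rfl

theorem det_smul_one (c : k) : (c • (1 : M3 k)).det = c ^ 3 := by
  rw [Matrix.det_smul, Matrix.det_one, mul_one, Fintype.card_fin]

theorem det_one_add_nilpotent {p : ℕ} [Fact p.Prime] [CharP k p] {N : M3 k} (hN : N ^ 2 = 0) (hp : 2 ≤ p) :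
    (1 + N).det = 1 := by
  have h1 : (1 + N) ^ p = 1 := by
    haveI : CharP (M3 k) p := charP_of_injective_algebraMap (RingHom.injective (algebraMap k (M3 k))) p
    rw [add_pow_char_of_commute p (Commute.one_left N), one_pow, pow_eq_zero_of_le hp hN, add_zero]
  have h2 : (1 + N).det ^ p = 1 ^ p := by rw [← Matrix.det_pow, h1, Matrix.det_one, one_pow]
  exact frobenius_inj k p h2

namespace Hyp

variable {L : Subgroup (GL (Fin 3) k)} (h : Hyp L)
include h

theorem det_mat (g : L) : (mat g).det = 1 := h.det g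

theorem mem_center_of_scalar {z : L} {c : k} (hz : mat z = c • 1) : z ∈ Subgroup.center L := by
  refine Subgroup.mem_center_iff.2 fun g => mat_injective ?_
  rw [map_mul, map_mul, hz, mul_smul_comm, smul_mul_assoc, mul_one, one_mul]

theorem exists_scalar [IsAlgClosed k] {z : L} (hz : z ∈ Subgroup.center L) :
    ∃ c : k, mat z = c • 1 ∧ c ^ 3 = 1 := by
  obtain ⟨c, hc⟩ := Module.End.exists_eigenvalue (Matrix.toLinAlgEquiv' (mat z) : Module.End k (Fin 3 → k))
  set W := Module.End.eigenspace (Matrix.toLinAlgEquiv' (mat z) : Module.End k (Fin 3 → k)) c with hW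
  have hmem : ∀ v, v ∈ W ↔ mat z *ᵥ v = c • v := fun v => by
    rw [hW, Module.End.mem_eigenspace_iff, Matrix.toLinAlgEquiv'_apply]
  rcases h.irred W (fun g v hv => by
    rw [hmem] at hv ⊢
    rw [← mat_apply, Matrix.mulVec_mulVec, ← map_mul, ← Subgroup.mem_center_iff.1 hz g, map_mul,
      ← Matrix.mulVec_mulVec, hv, Matrix.mulVec_smul]) with h0 | h0
  · exact absurd h0 hc
  have he : mat z = c • 1 := by
    refine Matrix.toLinAlgEquiv'.injective (LinearMap.ext fun v => ?_)
    rw [Matrix.toLinAlgEquiv'_apply, Matrix.toLinAlgEquiv'_apply, Matrix.smul_mulVec, Matrix.one_mulVec]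
    exact (hmem v).1 (h0 ▸ Submodule.mem_top)
  refine ⟨c, he, ?_⟩
  rw [← det_smul_one, ← he, h.det_mat]

theorem mem_center_iff [IsAlgClosed k] {z : L} : z ∈ Subgroup.center L ↔ ∃ c : k, mat z = c • 1 :=
  ⟨fun hz => (h.exists_scalar hz).imp fun _ hc => hc.1, fun ⟨_, hc⟩ => h.mem_center_of_scalar hc⟩

theorem pow_three_center [IsAlgClosed k] {z : L} (hz : z ∈ Subgroup.center L) : z ^ 3 = 1 := by
  obtain ⟨c, hc, hc3⟩ := h.exists_scalar hz
  refine mat_injective ?_
  rw [map_pow, map_one, hc, smul_pow, one_pow, hc3, one_smul]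

/-- A normal subgroup of the group is central or covers the quotient. -/
theorem normal_cases (N : Subgroup L) [hN : N.Normal] :
    N ≤ Subgroup.center L ∨ N ⊔ Subgroup.center L = ⊤ := by
  haveI := h.simple
  rcases (hN.map (QuotientGroup.mk' (Subgroup.center L)) (QuotientGroup.mk'_surjective _)).eq_bot_or_eq_top with
    h0 | h0
  · rw [Subgroup.map_eq_bot_iff, QuotientGroup.ker_mk'] at h0
    exact Or.inl h0
  · refine Or.inr ?_
    rw [← Subgroup.comap_top (QuotientGroup.mk' (Subgroup.center L)), ← h0, Subgroup.comap_map_eq,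
      QuotientGroup.ker_mk']

/-- If all conjugates of an element commute it is central. -/
theorem mem_center_of_commute {a : L} (ha : ∀ g : L, Commute a (g * a * g⁻¹)) : a ∈ Subgroup.center L := by
  set N := Subgroup.normalClosure ({a} : Set L) with hN
  have hgen : ∀ x ∈ Group.conjugatesOfSet ({a} : Set L), ∀ y ∈ Group.conjugatesOfSet ({a} : Set L),
      x * y = y * x := by
    intro x hx y hy
    rw [Group.mem_conjugatesOfSet_iff] at hx hy
    obtain ⟨a', ha', hx⟩ := hx
    obtain ⟨a'', ha'', hy⟩ := hy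
    rw [Set.mem_singleton_iff] at ha' ha''
    subst ha'; subst ha''
    obtain ⟨g, rfl⟩ := isConj_iff.1 hx
    obtain ⟨g', rfl⟩ := isConj_iff.1 hy
    have h1 := congrArg (fun z => g * z * g⁻¹) (ha (g⁻¹ * g')).eq
    simpa [mul_assoc] using h1
  have hcomm : IsMulCommutative N := Subgroup.isMulCommutative_closure hgen
  rcases h.normal_cases N with h0 | h0
  · exact h0 (Subgroup.subset_normalClosure rfl)
  refine (h.not_comm fun x y => ?_).elim
  have hsurj : ∀ z : L ⧸ Subgroup.center L, ∃ n : N, ((n : L) : L ⧸ Subgroup.center L) = z := by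
    intro z
    obtain ⟨w, rfl⟩ := QuotientGroup.mk_surjective z
    have hw : w ∈ (N : Set L) * (Subgroup.center L : Set L) := by
      rw [← Subgroup.normal_mul, h0]; exact Subgroup.mem_top w
    obtain ⟨n, hn, c, hc, rfl⟩ := hw
    refine ⟨⟨n, hn⟩, QuotientGroup.eq.2 ?_⟩
    simpa using hc
  obtain ⟨n, rfl⟩ := hsurj x
  obtain ⟨m, rfl⟩ := hsurj y
  rw [← QuotientGroup.mk_mul, ← QuotientGroup.mk_mul]
  exact congrArg _ (congrArg Subtype.val (hcomm.is_comm.comm n m))

/-- The group has an involution. -/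
theorem exists_involution : ∃ t : L, orderOf t = 2 := by
  haveI := h.finite
  haveI := h.simple
  refine exists_prime_orderOf_dvd_card' 2 ?_
  by_contra hodd
  have hsol := Cfsg.Agent.S0205.result (G := L) (Nat.odd_iff.2 (by omega))
  haveI : Group.IsSolvable (L ⧸ Subgroup.center L) := by
    haveI := hsol
    exact Group.isSolvable_of_surjective (f := QuotientGroup.mk' (Subgroup.center L))
      (QuotientGroup.mk'_surjective _)
  exact h.not_comm (IsSimpleGroup.comm_iff_isSolvable.2 inferInstance)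

section Char

variable (p : ℕ) [Fact p.Prime] [CharP k p]
include p

/-- Up to scalars there are no transvections. -/
theorem mem_center_of_sq_eq_zero [IsAlgClosed k] {g : L} {c : k} (hg : (mat g - c • 1) ^ 2 = 0) :
    g ∈ Subgroup.center L := by
  have hp : p.Prime := Fact.out
  have hc : c ≠ 0 := fun h0 => by
    rw [h0, zero_smul, sub_zero] at hg
    have := congrArg Matrix.det hg
    rw [Matrix.det_pow, h.det_mat, one_pow, Matrix.det_zero] at this
    · exact one_ne_zero this
  set N := c⁻¹ • (mat g - c • 1) with hN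
  have hN2 : N ^ 2 = 0 := by rw [hN, smul_pow, hg, smul_zero]
  have hgN : mat g = c • (1 + N) := by
    rw [hN, smul_add, smul_inv_smul₀ hc, add_sub_cancel]
  have hc3 : c ^ 3 = 1 := by
    have := h.det_mat g
    rwa [hgN, Matrix.det_smul, det_one_add_nilpotent (p := p) hN2 hp.two_le, mul_one, Fintype.card_fin] at this
  have hp1 : (1 + N) ^ p = 1 := by
    haveI : CharP (M3 k) p := charP_of_injective_algebraMap (RingHom.injective (algebraMap k (M3 k))) p
    rw [add_pow_char_of_commute p (Commute.one_left N), one_pow, pow_eq_zero_of_le hp.two_le hN2, add_zero]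
  -- a power of `g` is the scalar
  obtain ⟨s, hs⟩ : ∃ s : L, mat s = c • 1 := by
    by_cases h3 : p = 3
    · subst h3
      have : c = 1 := frobenius_inj k 3 (by simpa [frobenius_def] using hc3.trans (one_pow 3).symm)
      exact ⟨1, by rw [this, one_smul, map_one]⟩
    have hcp : mat (g ^ p) = c ^ p • 1 := by rw [map_pow, hgN, smul_pow, hp1]
    have hmod : p % 3 = 1 ∨ p % 3 = 2 := by
      rcases (by omega : p % 3 = 0 ∨ p % 3 = 1 ∨ p % 3 = 2) with h0 | h0 | h0
      · exact absurd ((Nat.prime_dvd_prime_iff_eq Nat.prime_three hp).1 (Nat.dvd_of_mod_eq_zero h0)).symm h3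
      · exact Or.inl h0
      · exact Or.inr h0
    rcases hmod with h0 | h0
    · exact ⟨g ^ p, by rw [hcp, pow_eq_pow_mod p hc3, h0, pow_one]⟩
    · refine ⟨(g ^ p) ^ 2, ?_⟩
      rw [map_pow, hcp, smul_pow, one_pow, ← pow_mul, pow_eq_pow_mod (p * 2) hc3,
        show p * 2 % 3 = 1 by omega, pow_one]
  have hsc := h.mem_center_of_scalar hs
  have hsi : mat s⁻¹ = c⁻¹ • 1 := by
    have h1 : mat s * mat s⁻¹ = 1 := by rw [← map_mul, mul_inv_cancel, map_one]
    rw [hs, smul_mul_assoc, one_mul] at h1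
    exact (inv_smul_smul₀ hc _).symm.trans (congrArg (c⁻¹ • ·) h1)
  have hw : g * s⁻¹ = 1 := by
    refine h.noTransvection _ ?_
    rw [← mat_apply, map_mul, hsi, mul_smul_comm, mul_one, hgN, inv_smul_smul₀ hc, add_sub_cancel_left]
    exact hN2
  rwa [mul_inv_eq_one.1 hw]

end Char

end Hyp

/-- An involution of determinant one is conjugate to `diag (1, -1, -1)`. -/
theorem exists_conj_diag [IsAlgClosed k] (h2 : (2 : k) ≠ 0) {t : M3 k} (ht : t ^ 2 = 1) (ht1 : t ≠ 1)
    (hd : t.det = 1) : ∃ B : GL (Fin 3) k,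
      ((B⁻¹ : GL (Fin 3) k) : M3 k) * t * (B : M3 k) = Matrix.diagonal ![1, -1, -1] := by
  obtain ⟨B, hB⟩ := exists_common_diag (fun _ : Unit => t) (fun _ _ => Commute.refl _)
    (fun _ => ⟨2, by simpa using h2, ht⟩)
  obtain ⟨d, hd'⟩ := hB ()
  have hcon : ∀ a : M3 k, (B : M3 k) * (((B⁻¹ : GL (Fin 3) k) : M3 k) * a * (B : M3 k)) * ((B⁻¹ : GL (Fin 3) k) : M3 k) = a :=
    fun a => by rw [← mul_assoc, ← mul_assoc, Units.mul_inv, one_mul, mul_assoc, Units.mul_inv, mul_one]
  have hd2 : ∀ i, d i = 1 ∨ d i = -1 := fun i => by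
    have h1 : Matrix.diagonal d * Matrix.diagonal d = 1 := by
      rw [← hd']
      calc _ = ((B⁻¹ : GL (Fin 3) k) : M3 k) * t * ((B : M3 k) * ((B⁻¹ : GL (Fin 3) k) : M3 k)) * t * B := by
            simp only [mul_assoc]
        _ = ((B⁻¹ : GL (Fin 3) k) : M3 k) * t ^ 2 * B := by
            rw [Units.mul_inv, mul_one, pow_two]; simp only [mul_assoc]
        _ = 1 := by rw [ht, mul_one, Units.inv_mul]
    rw [Matrix.diagonal_mul_diagonal] at h1
    have := congrFun (congrFun h1 i) i
    rw [Matrix.diagonal_apply_eq, Matrix.one_apply_eq] at this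
    exact mul_self_eq_one_iff.1 this
  have hprod : d 0 * d 1 * d 2 = 1 := by
    have h1 := congrArg Matrix.det hd'
    rw [Matrix.det_mul, Matrix.det_mul, hd, mul_one, ← Matrix.det_mul, Units.inv_mul, Matrix.det_one,
      Matrix.det_diagonal, Fin.prod_univ_three] at h1
    exact h1.symm
  have hne : (1 : k) ≠ -1 := fun e => h2 (by linear_combination e)
  have hex : ∃ σ : Equiv.Perm (Fin 3), d ∘ σ = ![1, -1, -1] := by
    rcases hd2 0 with a | a <;> rcases hd2 1 with b | b <;> rcases hd2 2 with c | c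
    · exfalso
      apply ht1
      have : d = fun _ => 1 := funext fun i => by fin_cases i <;> assumption
      rw [← hcon t, hd', this, Matrix.diagonal_one, mul_one, Units.mul_inv]
    · exact absurd (by rw [a, b, c] at hprod; linear_combination -hprod) hne
    · exact absurd (by rw [a, b, c] at hprod; linear_combination -hprod) hne
    · exact ⟨1, funext fun i => by fin_cases i <;> simp [a, b, c]⟩
    · exact absurd (by rw [a, b, c] at hprod; linear_combination -hprod) hne
    · exact ⟨Equiv.swap 0 1, funext fun i => by fin_cases i <;> simp [Equiv.swap_apply_def, a, b, c]⟩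
    · exact ⟨Equiv.swap 0 2, funext fun i => by fin_cases i <;> simp [Equiv.swap_apply_def, a, b, c]⟩
    · exact absurd (by rw [a, b, c] at hprod; linear_combination -hprod) hne
  obtain ⟨σ, hσ⟩ := hex
  let Sm : M3 k := σ.permMatrix k
  have hS : IsUnit Sm := ⟨⟨Sm, (σ⁻¹).permMatrix k, by rw [← Matrix.permMatrix_mul]; simp,
    by rw [← Matrix.permMatrix_mul]; simp⟩, rfl⟩
  refine ⟨B * hS.unit⁻¹, ?_⟩
  rw [_root_.mul_inv_rev, inv_inv, Units.val_mul, Units.val_mul, show (hS.unit : M3 k) = Sm from rfl]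
  calc Sm * ((B⁻¹ : GL (Fin 3) k) : M3 k) * t * ((B : M3 k) * ((hS.unit⁻¹ : GL (Fin 3) k) : M3 k))
      = Sm * (((B⁻¹ : GL (Fin 3) k) : M3 k) * t * B) * ((hS.unit⁻¹ : GL (Fin 3) k) : M3 k) := by
        simp only [mul_assoc]
    _ = Matrix.diagonal ![1, -1, -1] * Sm * ((hS.unit⁻¹ : GL (Fin 3) k) : M3 k) := by
        rw [hd', ← hσ]
        congr 1
        ext i j
        simp [Sm, Equiv.Perm.permMatrix, PEquiv.toMatrix_apply, Matrix.mul_diagonal, Matrix.diagonal_mul]
        split_ifs with h <;> first | (subst h; simp) | simp [h]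
    _ = Matrix.diagonal ![1, -1, -1] := by rw [mul_assoc, hS.mul_val_inv, mul_one]

end CfsgLib.Geo.SL3.Engine
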