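import Cfsg.Agent.Lib.Geo.SL3.Engine.Basic
import Cfsg.Agent.Lib.Classical.Dickson.Structure

/-!
# The block diagonal part of the group and its image on the plane

The image in `PGL(2, k)` of the elements of shape `1 + 2` has order prime to `p`, since an element of
order `p` there would be a transvection.
-/

set_option autoImplicit false
set_option maxHeartbeats 800000

namespace CfsgLib.Geo.SL3.Engine

open Matrix CfsgLib.Classical.Dickson
open scoped MatrixGroups

variable {k : Type*} [Field k]

/-- Block diagonal shape `1 + 2`. -/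
def IsBlock (A : M3 k) : Prop := A 0 1 = 0 ∧ A 0 2 = 0 ∧ A 1 0 = 0 ∧ A 2 0 = 0

theorem isBlock_one : IsBlock (1 : M3 k) := by simp [IsBlock]

theorem IsBlock.mul {A B : M3 k} (hA : IsBlock A) (hB : IsBlock B) : IsBlock (A * B) := by
  obtain ⟨a1, a2, a3, a4⟩ := hA
  obtain ⟨b1, b2, b3, b4⟩ := hB
  refine ⟨?_, ?_, ?_, ?_⟩ <;> simp [Matrix.mul_apply, Fin.sum_univ_three, *]

/-- The block on the plane. -/
def plane (A : M3 k) : Matrix (Fin 2) (Fin 2) k := !![A 1 1, A 1 2; A 2 1, A 2 2]

theorem plane_mul {A B : M3 k} (hA : IsBlock A) : plane (A * B) = plane A * plane B := by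
  obtain ⟨a1, a2, a3, a4⟩ := hA
  ext i j
  fin_cases i <;> fin_cases j <;> simp [plane, Matrix.mul_apply, Fin.sum_univ_three, Fin.sum_univ_two, *]

theorem plane_one : plane (1 : M3 k) = 1 := by
  ext i j
  fin_cases i <;> fin_cases j <;> simp [plane]

theorem IsBlock.det_eq {A : M3 k} (hA : IsBlock A) : A.det = A 0 0 * (plane A).det := by
  obtain ⟨a1, a2, a3, a4⟩ := hA
  rw [Matrix.det_fin_three, plane, Matrix.det_fin_two_of, a1, a2, a3, a4]
  ring

theorem IsBlock.ext {A B : M3 k} (hA : IsBlock A) (hB : IsBlock B) (h0 : A 0 0 = B 0 0)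
    (hp : plane A = plane B) : A = B := by
  obtain ⟨a1, a2, a3, a4⟩ := hA
  obtain ⟨b1, b2, b3, b4⟩ := hB
  have e := fun i j => congrFun (congrFun hp i) j
  have e11 := e 0 0
  have e12 := e 0 1
  have e21 := e 1 0
  have e22 := e 1 1
  simp only [plane, Matrix.of_apply, Matrix.cons_val', Matrix.cons_val_zero, Matrix.cons_val_one,
    Matrix.cons_val_fin_one] at e11 e12 e21 e22
  ext i j
  fin_cases i <;> fin_cases j <;> simp [*]

variable {L : Subgroup (GL (Fin 3) k)}

/-- The elements of block diagonal shape. -/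
def blockGroup (h : Hyp L) : Subgroup L where
  carrier := {g | IsBlock (mat g)}
  one_mem' := by show IsBlock (mat (1 : L)); rw [map_one]; exact isBlock_one
  mul_mem' := fun {a b} ha hb => by show IsBlock (mat (a * b)); rw [map_mul]; exact ha.mul hb
  inv_mem' := fun {a} ha => by
    show IsBlock (mat a⁻¹)
    haveI := h.finite
    obtain ⟨n, hn⟩ : ∃ n : ℕ, a ^ n = a⁻¹ := (mem_powers_iff_mem_zpowers (x := a)).2 ⟨-1, by simp⟩
    rw [← hn, map_pow]
    clear hn
    induction n with
    | zero => rw [pow_zero]; exact isBlock_one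
    | succ n ih => rw [pow_succ]; exact ih.mul ha

theorem mem_blockGroup {h : Hyp L} {g : L} : g ∈ blockGroup h ↔ IsBlock (mat g) := Iff.rfl

variable (h : Hyp L)

theorem plane_det_ne_zero (g : blockGroup h) : (plane (mat (g : L))).det ≠ 0 := fun h0 => by
  have hd := IsBlock.det_eq (mem_blockGroup.1 g.2)
  rw [h.det_mat, h0, mul_zero] at hd
  exact one_ne_zero hd

/-- The action on the plane. -/
noncomputable def planeHom : blockGroup h →* GL (Fin 2) k where
  toFun g := GeneralLinearGroup.mkOfDetNeZero (plane (mat (g : L))) (plane_det_ne_zero h g)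
  map_one' := Units.ext (by
    show plane (mat ((1 : blockGroup h) : L)) = 1
    rw [Subgroup.coe_one, map_one, plane_one])
  map_mul' a b := Units.ext (by
    show plane (mat ((a * b : blockGroup h) : L)) = _
    rw [Subgroup.coe_mul, map_mul, plane_mul (mem_blockGroup.1 a.2)]
    rfl)

theorem planeHom_coe (g : blockGroup h) : (planeHom h g : Matrix (Fin 2) (Fin 2) k) = plane (mat (g : L)) := rfl

theorem planeHom_injective : Function.Injective (planeHom h) := fun a b e => by
  have hp : plane (mat (a : L)) = plane (mat (b : L)) := by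
    rw [← planeHom_coe h a, ← planeHom_coe h b, e]
  refine Subtype.ext (mat_injective (IsBlock.ext (mem_blockGroup.1 a.2) (mem_blockGroup.1 b.2) ?_ hp))
  have ha := IsBlock.det_eq (mem_blockGroup.1 a.2)
  have hb := IsBlock.det_eq (mem_blockGroup.1 b.2)
  rw [h.det_mat] at ha hb
  rw [← hp] at hb
  exact mul_right_cancel₀ (plane_det_ne_zero h a) (ha.symm.trans hb)

/-- The action on the projective line. -/
noncomputable def mobHom : blockGroup h →* Mob k := ProjGenLinGroup.mk.comp (planeHom h)

theorem mobHom_apply (g : blockGroup h) : mobHom h g = ProjGenLinGroup.mk (planeHom h g) := rfl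

theorem mobHom_eq_one_iff (g : blockGroup h) :
    mobHom h g = 1 ↔ ∃ c : k, plane (mat (g : L)) = c • 1 := by
  rw [mobHom_apply, ProjGenLinGroup.mk_eq_one, Matrix.GeneralLinearGroup.center_eq_range_scalar]
  constructor
  · rintro ⟨u, hu⟩
    refine ⟨u, ?_⟩
    rw [← planeHom_coe, ← hu]
    simp [Matrix.smul_one_eq_diagonal]
  · rintro ⟨c, hc⟩
    have hc0 : c ≠ 0 := fun e => plane_det_ne_zero h g (by
      rw [hc, e, zero_smul, Matrix.det_zero])
    refine ⟨Units.mk0 c hc0, Units.ext ?_⟩
    rw [planeHom_coe, hc]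
    simp [Matrix.smul_one_eq_diagonal]

/-- Commuting on the line means commuting or anticommuting. -/
theorem commute_or_anticommute {a b : blockGroup h} (e : Commute (mobHom h a) (mobHom h b)) :
    plane (mat (a : L)) * plane (mat (b : L)) = plane (mat (b : L)) * plane (mat (a : L)) ∨
      plane (mat (a : L)) * plane (mat (b : L)) = -(plane (mat (b : L)) * plane (mat (a : L))) := by
  have e' : ProjGenLinGroup.mk (planeHom h (b * a)) = ProjGenLinGroup.mk (planeHom h (a * b)) := by
    rw [← mobHom_apply, ← mobHom_apply, map_mul, map_mul, e.eq]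
  obtain ⟨u, hu⟩ := ProjGenLinGroup.mk_eq_mk_iff.1 e'
  have hu' := congrArg (fun g : GL (Fin 2) k => (g : Matrix (Fin 2) (Fin 2) k)) hu
  simp only [Units.val_mul, GeneralLinearGroup.coe_scalar, Matrix.scalar_apply, planeHom_coe,
    Subgroup.coe_mul, map_mul, plane_mul (mem_blockGroup.1 a.2), plane_mul (mem_blockGroup.1 b.2),
    ← Matrix.smul_one_eq_diagonal, Matrix.mul_smul, mul_one] at hu'
  have hd := congrArg Matrix.det hu'
  rw [Matrix.det_smul, Fintype.card_fin, Matrix.det_mul, Matrix.det_mul, mul_comm (plane (mat (a : L))).det] at hd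
  have hne : (plane (mat (b : L))).det * (plane (mat (a : L))).det ≠ 0 :=
    mul_ne_zero (plane_det_ne_zero h b) (plane_det_ne_zero h a)
  have hu2 : (u : k) ^ 2 = 1 := by
    first
      | exact mul_right_cancel₀ hne (hd.trans (one_mul _).symm)
      | exact mul_right_cancel₀ hne (hd.symm.trans (one_mul _).symm)
  rcases sq_eq_one_iff.1 hu2 with h1 | h1
  · left; simpa [h1] using hu'.symm
  · right; simpa [h1] using hu'.symm

section Char

variable (p : ℕ) [Fact p.Prime] [CharP k p]
include p

/-- The image on the line has order prime to `p`. -/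
theorem not_dvd_card_mobHom [IsAlgClosed k] : ¬ p ∣ Nat.card (mobHom h).range := by
  intro hd
  have hp : p.Prime := Fact.out
  haveI := h.finite
  haveI : Finite (mobHom h).range := Finite.of_surjective _ (mobHom h).rangeRestrict_surjective
  obtain ⟨x, hx⟩ := exists_prime_orderOf_dvd_card' p hd
  obtain ⟨g, hg⟩ : ∃ g, (mobHom h).rangeRestrict g = x := (mobHom h).rangeRestrict_surjective x
  obtain ⟨j, hj⟩ : ∃ j, orderOf g ∣ p ^ j * (orderOf g / p ^ (orderOf g).factorization p) :=
    ⟨(orderOf g).factorization p, (Nat.ordProj_mul_ordCompl_eq_self _ p).symm.dvd⟩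
  set r := orderOf g / p ^ (orderOf g).factorization p with hr
  set g' := g ^ r with hg'
  have hgj : g' ^ p ^ j = 1 := by
    rw [hg', ← pow_mul, mul_comm]
    exact orderOf_dvd_iff_pow_eq_one.1 hj
  have hne : (mobHom h).rangeRestrict g' ≠ 1 := by
    rw [hg', map_pow, hg]
    intro e
    have h1 := orderOf_dvd_of_pow_eq_one e
    rw [hx] at h1
    exact Nat.not_dvd_ordCompl hp (orderOf_pos g).ne' h1
  refine hne ?_
  -- an element of `p`-power order is a transvection
  set A := mat (g' : L) with hA
  have hAb : IsBlock A := mem_blockGroup.1 g'.2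
  have hAj : A ^ p ^ j = 1 := by rw [hA, ← map_pow, ← Subgroup.coe_pow, hgj, Subgroup.coe_one, map_one]
  have hpl : ∀ n, plane (A ^ n) = plane A ^ n ∧ IsBlock (A ^ n) ∧ (A ^ n) 0 0 = A 0 0 ^ n := by
    intro n
    induction n with
    | zero => simp [plane_one, isBlock_one]
    | succ n ih =>
      refine ⟨by rw [pow_succ, plane_mul ih.2.1, ih.1, ← pow_succ], by rw [pow_succ]; exact ih.2.1.mul hAb, ?_⟩
      rw [pow_succ, Matrix.mul_apply, Fin.sum_univ_three, ih.2.2, ih.2.1.1, ih.2.1.2.1, pow_succ]
      ring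
  haveI : CharP (Matrix (Fin 2) (Fin 2) k) p :=
    charP_of_injective_algebraMap (RingHom.injective (algebraMap k (Matrix (Fin 2) (Fin 2) k))) p
  have hB : IsNilpotent (plane A - 1) := ⟨p ^ j, by
    rw [sub_pow_char_pow_of_commute (p := p) (n := j) (Commute.one_right _), one_pow, ← (hpl _).1, hAj, plane_one, sub_self]⟩
  have hB2 : (plane A - 1) ^ 2 = 0 := by
    have h1 := Matrix.aeval_self_charpoly (plane A - 1)
    rwa [sub_eq_zero.1 (Matrix.isNilpotent_charpoly_sub_pow_of_isNilpotent hB).eq_zero, map_pow,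
      Polynomial.aeval_X, Fintype.card_fin] at h1
  have h00 : A 0 0 = 1 := by
    have := (hpl (p ^ j)).2.2
    rw [hAj, Matrix.one_apply_eq] at this
    exact iterateFrobenius_inj k p j (by simp [iterateFrobenius_def, ← this])
  have hsq : (A - 1) ^ 2 = 0 := by
    obtain ⟨a1, a2, a3, a4⟩ := hAb
    have e := fun i l => congrFun (congrFun hB2 i) l
    have e1 := e 0 0
    have e2 := e 0 1
    have e3 := e 1 0
    have e4 := e 1 1
    simp [plane, pow_two, Matrix.mul_apply, Fin.sum_univ_two, Matrix.one_apply] at e1 e2 e3 e4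
    ext i l
    fin_cases i <;> fin_cases l <;>
      simp [pow_two, Matrix.mul_apply, Fin.sum_univ_three, Matrix.one_apply, a1, a2, a3, a4, h00, e1, e2, e3, e4]
  have h1 : (g' : L) = 1 := h.noTransvection _ hsq
  rw [show g' = 1 from Subtype.ext h1, map_one]

end Char

end CfsgLib.Geo.SL3.Engine
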