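import Mathlib
import Cfsg.Agent.S0204

/-!
# What is known about the centraliser of an involution: generalities
-/

set_option autoImplicit false

namespace CfsgLib.Geo.SL3.Engine

variable {G : Type*} [Group G]

/-- The centraliser of `t` is a central extension by `⟨t⟩` of a finite subgroup of `PGL(2)`, with the
properties coming from the linear lift. -/
structure CentData (t : G) {B : Type*} [Group B] (π : Subgroup.centralizer ({t} : Set G) →* B) : Prop where
  ord : orderOf t = 2
  surj : Function.Surjective π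
  ker : ∀ x, π x = 1 → (x : G) = 1 ∨ (x : G) = t
  map_t : ∀ x : Subgroup.centralizer ({t} : Set G), (x : G) = t → π x = 1
  cases : IsCyclic B ∨ (∃ n, 2 ≤ n ∧ Nonempty (B ≃* DihedralGroup n)) ∨
    Nonempty (B ≃* alternatingGroup (Fin 4)) ∨ Nonempty (B ≃* Equiv.Perm (Fin 4)) ∨
    Nonempty (B ≃* alternatingGroup (Fin 5))
  klein : ∀ x y : Subgroup.centralizer ({t} : Set G), (x : G) * y = y * x → π x ^ 2 = 1 → π y ^ 2 = 1 →
    π x ≠ 1 → π y ≠ 1 → π x = π y
  pair : ∀ y s : G, y * t = t * y → y ≠ 1 → s * t = t * s → Odd (orderOf y) → s * y * s⁻¹ = y⁻¹ →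
    (∀ a b : G, a * t = t * a → a * y = y * a → b * t = t * b → b * y = y * b → a * b = b * a) ∧
    ∀ g a : G, g * y = y * g → a * t = t * a → a * y = y * a → g * a * g⁻¹ * t = t * (g * a * g⁻¹)
  cube : ∀ y y' s s' g : G, y * t = t * y → y' * t = t * y' → y ≠ 1 → s * t = t * s → s' * t = t * s' →
    Odd (orderOf y) → s * y * s⁻¹ = y⁻¹ → s' * y' * s'⁻¹ = y'⁻¹ → g * y * g⁻¹ = y' →
    g * t = t * g ∨ y ^ 3 = 1

section Basics

variable [Finite G]

/-- A subgroup of exponent a power of two normalised by a Sylow 2-subgroup lies in it. -/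
theorem le_sylow_of_normalized (S : Sylow 2 G) {K : Subgroup G} (hK : IsPGroup 2 K)
    (hn : (S : Subgroup G) ≤ Subgroup.normalizer (K : Set G)) : K ≤ (S : Subgroup G) := by
  have h := IsPGroup.to_sup_of_normal_left' hK S.2 hn
  exact sup_eq_right.1 (S.3 h le_sup_right)

/-- Powers of two normalising a Sylow 2-subgroup lie in it. -/
theorem mem_sylow_of_normalize (S : Sylow 2 G) {g : G} (hg : ∃ a, orderOf g = 2 ^ a)
    (hn : g ∈ Subgroup.normalizer ((S : Subgroup G) : Set G)) : g ∈ (S : Subgroup G) := by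
  obtain ⟨a, ha⟩ := hg
  have h := IsPGroup.to_sup_of_normal_right' (IsPGroup.of_card (n := a)
    (G := Subgroup.zpowers g) (by rw [Nat.card_zpowers, ha])) S.2 (Subgroup.zpowers_le.2 hn)
  exact sup_eq_right.1 (S.3 h le_sup_right) (Subgroup.mem_zpowers g)

variable {t : G} {B : Type*} [Group B] {π : Subgroup.centralizer ({t} : Set G) →* B} (D : CentData t π)
include D

/-- An element of the centraliser. -/
abbrev CentData.lift (_D : CentData t π) {x : G} (hx : x * t = t * x) : Subgroup.centralizer ({t} : Set G) :=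
  ⟨x, Subgroup.mem_centralizer_singleton_iff.2 hx⟩

omit [Finite G] in
theorem CentData.t_sq : t * t = 1 := by
  have := pow_orderOf_eq_one t
  rwa [D.ord, pow_two] at this

omit [Finite G] in
theorem CentData.t_ne : t ≠ 1 := fun e => by
  have := D.ord
  rw [e, orderOf_one] at this
  omega

omit [Finite G] in
theorem CentData.comm_t (x : Subgroup.centralizer ({t} : Set G)) : (x : G) * t = t * x :=
  Subgroup.mem_centralizer_singleton_iff.1 x.2

omit [Finite G] in
theorem CentData.eq_or_eq {x y : Subgroup.centralizer ({t} : Set G)} (e : π x = π y) :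
    (x : G) = y ∨ (x : G) = y * t := by
  rcases D.ker (y⁻¹ * x) (by rw [map_mul, map_inv, e, inv_mul_cancel]) with h | h
  · left
    rw [Subgroup.coe_mul, Subgroup.coe_inv] at h
    exact (inv_mul_eq_one.1 h).symm
  · right
    rw [Subgroup.coe_mul, Subgroup.coe_inv] at h
    exact inv_mul_eq_iff_eq_mul.1 h

omit [Finite G] in
theorem CentData.map_eq_one_iff (x : Subgroup.centralizer ({t} : Set G)) :
    π x = 1 ↔ (x : G) = 1 ∨ (x : G) = t := by
  refine ⟨D.ker x, ?_⟩
  rintro (h | h)
  · rw [show x = 1 from Subtype.ext h, map_one]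
  · exact D.map_t x h

/-- The order of the centraliser. -/
theorem CentData.card_cent : Nat.card (Subgroup.centralizer ({t} : Set G)) = 2 * Nat.card B := by
  have h := Subgroup.card_eq_card_quotient_mul_card_subgroup π.ker
  rw [h, Nat.card_congr (QuotientGroup.quotientKerEquivOfSurjective π D.surj).toEquiv, mul_comm]
  refine congrArg (· * Nat.card B) (Nat.card_eq_two_iff.2 ?_)
  refine ⟨1, ⟨D.lift rfl, D.map_t _ rfl⟩, fun e => D.t_ne ?_, Set.eq_univ_of_forall fun x => ?_⟩
  · exact (congrArg (fun z : π.ker => ((z : Subgroup.centralizer ({t} : Set G)) : G)) e).symm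
  · rcases D.ker x.1 x.2 with h | h
    · exact Or.inl (Subtype.ext (Subtype.ext h))
    · exact Or.inr (Subtype.ext (Subtype.ext h))

/-- An involution other than `t` in a Sylow 2-subgroup of the centraliser. -/
theorem CentData.exists_involution [IsSimpleGroup G] (hnc : ¬ ∀ a b : G, a * b = b * a) (S : Sylow 2 G) :
    ∃ s ∈ (S : Subgroup G), s * s = 1 ∧ s ≠ 1 ∧ s ≠ t := by
  haveI : Fact (Nat.Prime 2) := ⟨Nat.prime_two⟩
  obtain ⟨E, hE⟩ := Cfsg.Agent.S0204.result (G := G) fun hc => hnc fun a b => by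
    obtain ⟨g, hg⟩ := hc.exists_generator
    obtain ⟨i, rfl⟩ := Subgroup.mem_zpowers_iff.1 (hg a)
    obtain ⟨j, rfl⟩ := Subgroup.mem_zpowers_iff.1 (hg b)
    exact (Commute.refl g).zpow_zpow i j
  obtain ⟨P, hP⟩ := (IsPGroup.of_card (n := 2) (p := 2) (G := E) (by rw [hE.card_four]; norm_num)).exists_le_sylow
  obtain ⟨g, hg⟩ := MulAction.exists_smul_eq G P S
  have hmem : ∀ e : E, g * (e : G) * g⁻¹ ∈ (S : Subgroup G) := fun e => by
    rw [← hg, Sylow.coe_subgroup_smul]
    exact Subgroup.smul_mem_pointwise_smul _ (MulAut.conj g) _ (hP e.2)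
  have hsq : ∀ e : E, e * e = 1 := fun e => hE.mul_self e
  by_contra hno
  push Not at hno
  have hsmall : ∀ e : E, e ≠ 1 → g * (e : G) * g⁻¹ = t := fun e he => hno _ (hmem e) (by
      rw [conj_mul, show (e : G) * (e : G) = 1 from congrArg Subtype.val (hsq e), mul_one, mul_inv_cancel])
    fun h1 => he (Subtype.ext (conj_eq_one_iff.1 h1))
  obtain ⟨a, ha⟩ : ∃ a : E, a ≠ 1 := by
    haveI : Nontrivial E := Finite.one_lt_card_iff_nontrivial.1 (by rw [hE.card_four]; norm_num)
    exact exists_ne 1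
  obtain ⟨b, hb, hba⟩ : ∃ b : E, b ≠ 1 ∧ b ≠ a := by
    by_contra hno'
    push Not at hno'
    have huniv : ({1, a} : Set E) = Set.univ := Set.eq_univ_of_forall fun x => by
      by_cases hx : x = 1
      · exact Or.inl hx
      · exact Or.inr (hno' x hx)
    have h1 := Set.ncard_univ E
    rw [← huniv, hE.card_four] at h1
    have h2 : ({1, a} : Set E).ncard ≤ 2 := by
      rw [Set.ncard_pair (Ne.symm ha)]
    omega
  exact hba (Subtype.ext (mul_left_cancel (mul_right_cancel ((hsmall b hb).trans (hsmall a ha).symm))))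

omit [Finite G] in
/-- There are no three involutions with pairwise different images multiplying in the quotient like a four
group. -/
theorem CentData.false_of_triple {u v w : Subgroup.centralizer ({t} : Set G)} (hu : u * u = 1) (hv : v * v = 1)
    (hw : w * w = 1) (hu1 : π u ≠ 1) (hv1 : π v ≠ 1) (hne : π u ≠ π v) (huv : π u * π v = π w) : False := by
  have hwt : w * D.lift rfl = D.lift rfl * w := Subtype.ext (D.comm_t w)
  have hsq : (u * v) * (u * v) = 1 := by
    rcases D.eq_or_eq (x := u * v) (y := w) (by rw [map_mul, huv]) with e | e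
    · rw [show u * v = w from Subtype.ext e, hw]
    · rw [show u * v = w * D.lift rfl from Subtype.ext e]
      have htt : (D.lift rfl : Subgroup.centralizer ({t} : Set G)) * D.lift rfl = 1 := Subtype.ext D.t_sq
      rw [mul_assoc, ← mul_assoc (D.lift rfl), ← hwt, mul_assoc w (D.lift rfl), htt, mul_one, hw]
  have hcomm : u * v = v * u := by
    have h1 : u * v = (u * v)⁻¹ := eq_inv_of_mul_eq_one_left hsq
    rw [h1, mul_inv_rev, inv_eq_of_mul_eq_one_right hu, inv_eq_of_mul_eq_one_right hv]
  exact hne (D.klein u v (congrArg Subtype.val hcomm) (by rw [← map_pow, pow_two, hu, map_one])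
    (by rw [← map_pow, pow_two, hv, map_one]) hu1 hv1)

omit [Finite G] in
/-- No involution of the centraliser maps onto one that multiplies with a conjugate to a conjugate. -/
theorem CentData.false_of_conj {H : Type*} [Group H] (φ : B ≃* H) {s : Subgroup.centralizer ({t} : Set G)}
    (hs : s * s = 1) (hs1 : π s ≠ 1)
    (hd : ∃ y z : H, y * φ (π s) * y⁻¹ ≠ φ (π s) ∧ φ (π s) * (y * φ (π s) * y⁻¹) = z * φ (π s) * z⁻¹) :
    False := by
  obtain ⟨y, z, hne, hyz⟩ := hd
  obtain ⟨Y, hY⟩ := D.surj (φ.symm y)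
  obtain ⟨Z, hZ⟩ := D.surj (φ.symm z)
  have hsq : ∀ X : Subgroup.centralizer ({t} : Set G), (X * s * X⁻¹) * (X * s * X⁻¹) = 1 := fun X => by
    rw [conj_mul, hs, mul_one, mul_inv_cancel]
  have hY' : φ (π (Y * s * Y⁻¹)) = y * φ (π s) * y⁻¹ := by simp [hY]
  have hZ' : φ (π (Z * s * Z⁻¹)) = z * φ (π s) * z⁻¹ := by simp [hZ]
  refine D.false_of_triple hs (hsq Y) (hsq Z) hs1 (fun e => hs1 ?_) (fun e => hne ?_) ?_
  · rwa [map_mul, map_mul, map_inv, conj_eq_one_iff] at e
  · rw [← hY', ← e]
  · exact φ.injective (by rw [map_mul, hY', hZ', hyz])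

end Basics

theorem conj_four : ∀ u : alternatingGroup (Fin 4), u * u = 1 → u ≠ 1 →
    ∃ y z, y * u * y⁻¹ ≠ u ∧ u * (y * u * y⁻¹) = z * u * z⁻¹ := by decide +kernel

theorem conj_five : ∀ u : alternatingGroup (Fin 5), u * u = 1 → u ≠ 1 →
    ∃ y z, y * u * y⁻¹ ≠ u ∧ u * (y * u * y⁻¹) = z * u * z⁻¹ := by decide +kernel

theorem conj_sym_four : ∀ u : Equiv.Perm (Fin 4), u * u = 1 → u ≠ 1 → Equiv.Perm.sign u = 1 →
    ∃ y z, y * u * y⁻¹ ≠ u ∧ u * (y * u * y⁻¹) = z * u * z⁻¹ := by decide +kernel

section Simple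

variable [Finite G] [IsSimpleGroup G] (hnc : ¬ ∀ a b : G, a * b = b * a)
include hnc

omit [Finite G] in
/-- No non-trivial element is central. -/
theorem false_of_central {u : G} (hu : u ≠ 1) (hc : ∀ g : G, g * u = u * g) : False := by
  rcases (inferInstance : (Subgroup.center G).Normal).eq_bot_or_eq_top with h | h
  · have : u ∈ Subgroup.center G := Subgroup.mem_center_iff.2 hc
    rw [h] at this
    exact hu this
  · exact hnc fun a b => Subgroup.mem_center_iff.1 (h ▸ Subgroup.mem_top b) a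

omit [Finite G] in
/-- There is no normal subgroup of index two. -/
theorem false_of_index_two {M : Subgroup G} [hM : M.Normal] (hi : M.index = 2) : False := by
  rcases hM.eq_bot_or_eq_top with h | h
  · rw [h, Subgroup.index_bot] at hi
    haveI : Fact (Nat.Prime 2) := ⟨Nat.prime_two⟩
    haveI := isCyclic_of_prime_card hi
    obtain ⟨g, hg⟩ := IsCyclic.exists_generator (α := G)
    refine hnc fun a b => ?_
    obtain ⟨i, rfl⟩ := Subgroup.mem_zpowers_iff.1 (hg a)
    obtain ⟨j, rfl⟩ := Subgroup.mem_zpowers_iff.1 (hg b)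
    exact (Commute.refl g).zpow_zpow i j
  · rw [h, Subgroup.index_top] at hi
    omega

end Simple

end CfsgLib.Geo.SL3.Engine
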