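import Cfsg.Agent.Lib.Geo.SL3.Engine.CentData
import Cfsg.Agent.S3278
import Cfsg.Agent.Lib.Classical.SmallIsoSix

/-!
# Cyclic and small images of the centraliser
-/

set_option autoImplicit false

namespace CfsgLib.Geo.SL3.Engine

/-- The conclusion of the reduction. -/
def Conclusion (G : Type*) [Group G] : Prop :=
  (∃ (K : Type) (_ : Field K) (_ : Fintype K), Odd (Fintype.card K) ∧
    Nonempty (G ≃* Matrix.ProjectiveSpecialLinearGroup (Fin 2) K)) ∨ Nat.card G = 2520

variable {G : Type*} [Group G] [Finite G] [IsSimpleGroup G] {t : G} {B : Type*} [Group B]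
  {π : Subgroup.centralizer ({t} : Set G) →* B} (D : CentData t π) (hnc : ¬ ∀ a b : G, a * b = b * a)
  (S : Sylow 2 G) (htS : t ∈ (S : Subgroup G)) (hSC : ∀ s ∈ (S : Subgroup G), s * t = t * s)

include D hnc htS hSC

omit [Finite G] [IsSimpleGroup G] hnc htS in
theorem sylow_le_centralizer : (S : Subgroup G) ≤ Subgroup.centralizer ({t} : Set G) :=
  fun x hx => Subgroup.mem_centralizer_singleton_iff.2 (hSC x hx)

/-- The cyclic case gives `PSL(2, 5)`. -/
theorem conclusion_of_cyclic (hB : IsCyclic B) : Conclusion G := by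
  classical
  haveI : Fact (Nat.Prime 2) := ⟨Nat.prime_two⟩
  haveI := hB
  have habC : ∀ a b : Subgroup.centralizer ({t} : Set G), a * b = b * a :=
    commutative_of_cyclic_center_quotient π fun x hx => by
      refine Subgroup.mem_center_iff.2 fun y => Subtype.ext ?_
      rcases D.ker x hx with h | h
      · show (y : G) * x = x * y
        rw [h, mul_one, one_mul]
      · show (y : G) * x = x * y
        rw [h]
        exact D.comm_t y
  have hab : ∀ a b : G, a * t = t * a → b * t = t * b → a * b = b * a := fun a b ha hb =>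
    congrArg Subtype.val (habC (D.lift ha) (D.lift hb))
  obtain ⟨s, hsS, hs2, hs1, hst⟩ := D.exists_involution hnc S
  have hsq : ∀ {x : G} (hx : x * t = t * x), x * x = 1 → π (D.lift hx) ^ 2 = 1 := fun {x} hx hxx => by
    rw [← map_pow, show D.lift hx ^ 2 = 1 from Subtype.ext (by show x ^ 2 = 1; rw [pow_two, hxx]), map_one]
  have hπs : π (D.lift (hSC s hsS)) ≠ 1 := fun e => by
    rcases D.ker _ e with h | h
    exacts [hs1 h, hst h]
  -- the involutions of the centraliser
  have hinv : ∀ x : G, x * t = t * x → x * x = 1 → x = 1 ∨ x = t ∨ x = s ∨ x = s * t := by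
    intro x hx hxx
    by_cases h1 : π (D.lift hx) = 1
    · rcases D.ker _ h1 with h | h
      exacts [Or.inl h, Or.inr (Or.inl h)]
    · have e := D.klein (D.lift hx) (D.lift (hSC s hsS)) (hab x s hx (hSC s hsS)) (hsq hx hxx)
        (hsq (hSC s hsS) hs2) h1 hπs
      rcases D.eq_or_eq e with h | h
      exacts [Or.inr (Or.inr (Or.inl h)), Or.inr (Or.inr (Or.inr h))]
  have htc : s * t = t * s := hSC s hsS
  have hst2 : (s * t) * (s * t) = 1 := by
    rw [mul_assoc, ← mul_assoc t, ← htc, mul_assoc s t, D.t_sq, mul_one, hs2]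
  by_cases hexp : ∀ x ∈ (S : Subgroup G), x * x = 1
  · -- Klein four Sylow subgroup
    have hset : ((S : Subgroup G) : Set G) = {1, t, s, s * t} := by
      ext x
      simp only [Set.mem_insert_iff, Set.mem_singleton_iff, SetLike.mem_coe]
      refine ⟨fun hx => hinv x (hSC x hx) (hexp x hx), ?_⟩
      rintro (rfl | rfl | rfl | rfl)
      exacts [one_mem _, htS, hsS, mul_mem hsS htS]
    have hcard : Nat.card (S : Subgroup G) = 4 := by
      rw [← SetLike.coe_sort_coe, hset, Nat.card_coe_set_eq]
      have h1 : (1 : G) ∉ ({t, s, s * t} : Set G) := by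
        simp only [Set.mem_insert_iff, Set.mem_singleton_iff]
        rintro (h | h | h)
        · exact D.t_ne h.symm
        · exact hs1 h.symm
        · exact hst ((eq_inv_of_mul_eq_one_left h.symm).trans (inv_eq_of_mul_eq_one_right D.t_sq))
      have h2 : t ∉ ({s, s * t} : Set G) := by
        simp only [Set.mem_insert_iff, Set.mem_singleton_iff]
        rintro (h | h)
        · exact hst h.symm
        · exact hs1 (mul_eq_right.1 h.symm)
      have h3 : s ≠ s * t := fun h => D.t_ne (mul_eq_left.1 h.symm)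
      rw [Set.ncard_insert_of_notMem h1, Set.ncard_insert_of_notMem h2, Set.ncard_pair h3]
    have hK : IsKleinFour ↥(S : Subgroup G) := by
      refine ⟨hcard, ?_⟩
      rcases (Nat.dvd_prime Nat.prime_two).1 (Monoid.exponent_dvd_of_forall_pow_eq_one
        (G := (S : Subgroup G)) (n := 2) fun x => Subtype.ext (by
          show (x : G) ^ 2 = 1
          rw [pow_two, hexp x x.2])) with h | h
      · haveI := Monoid.exp_eq_one_iff.1 h
        have := Nat.card_of_subsingleton (1 : (S : Subgroup G))
        omega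
      · exact h
    have hle := sylow_le_centralizer D S hSC
    have hn : ((S : Subgroup G).subgroupOf (Subgroup.centralizer ({t} : Set G))).Normal :=
      ⟨fun n hn g => by rwa [habC g n, mul_inv_cancel_right]⟩
    have hodd : ¬ 2 ∣ (S : Subgroup G).relIndex (Subgroup.centralizer ({t} : Set G)) := fun h =>
      S.not_dvd_index (h.trans (Subgroup.relIndex_dvd_index_of_le hle))
    obtain ⟨e⟩ := Cfsg.Agent.S3278.result t D.ord _ hle hK hodd hn
    haveI : Fact (Nat.Prime 5) := ⟨Nat.prime_five⟩
    obtain ⟨f⟩ := CfsgLib.Classical.nonempty_psl_five_equiv_alt (F := ZMod 5) (ZMod.card 5)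
    exact Or.inl ⟨ZMod 5, inferInstance, inferInstance, by rw [ZMod.card]; decide, ⟨e.trans f.symm⟩⟩
  -- otherwise there is a normal 2-complement
  exfalso
  push Not at hexp
  obtain ⟨x, hxS, hx⟩ := hexp
  obtain ⟨w, hwS, hw⟩ : ∃ w ∈ (S : Subgroup G), w * w ≠ 1 ∧ (w * w) * (w * w) = 1 := by
    obtain ⟨j, hj⟩ := S.2 ⟨x, hxS⟩
    have hj' : x ^ 2 ^ j = 1 := congrArg Subtype.val hj
    induction j generalizing x with
    | zero => rw [pow_zero, pow_one] at hj'; exact absurd (by rw [hj', one_mul]) hx
    | succ j ih =>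
      by_cases h4 : x * x * (x * x) = 1
      · exact ⟨x, hxS, hx, h4⟩
      · refine ih (x * x) (mul_mem hxS hxS) h4 ?_ ?_
        · refine Subtype.ext ?_
          show (x * x) ^ 2 ^ j = 1
          rw [← pow_two, ← pow_mul, ← pow_succ', hj']
        · rw [← pow_two, ← pow_mul, ← pow_succ', hj']
  have hnsqt : ∀ u ∈ (S : Subgroup G), u * u ≠ t := by
    intro u huS hu
    have hu' := hSC u huS
    have hsq' : π (D.lift hu') ^ 2 = 1 := by
      rw [← map_pow]
      exact D.map_t _ (by show u ^ 2 = t; rw [pow_two, hu])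
    by_cases h1 : π (D.lift hu') = 1
    · rcases D.ker _ h1 with h | h <;> replace h : u = _ := h <;> subst u
      · exact D.t_ne (by rw [← hu, mul_one])
      · rw [D.t_sq] at hu; exact D.t_ne hu.symm
    · rcases D.eq_or_eq (D.klein (D.lift hu') (D.lift (hSC s hsS)) (hab u s hu' (hSC s hsS)) hsq'
        (hsq (hSC s hsS) hs2) h1 hπs) with h | h <;> replace h : u = _ := h <;> subst u
      · rw [hs2] at hu; exact D.t_ne hu.symm
      · rw [hst2] at hu; exact D.t_ne hu.symm
  obtain ⟨hw1, hw2⟩ := hw
  have hcommS : ∀ a ∈ (S : Subgroup G), ∀ b ∈ (S : Subgroup G), a * b = b * a := fun a ha b hb =>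
    hab a b (hSC a ha) (hSC b hb)
  -- the unique involution which is a square
  have hz : w * w = s ∨ w * w = s * t := by
    rcases hinv _ (hSC _ (mul_mem hwS hwS)) hw2 with h | h | h | h
    exacts [absurd h hw1, absurd h (hnsqt w hwS), Or.inl h, Or.inr h]
  have huniq : ∀ u ∈ (S : Subgroup G), u * u ≠ 1 → (u * u) * (u * u) = 1 → u * u = w * w := by
    intro u huS hu1 hu2
    by_contra hne
    have hu' : u * u = s ∨ u * u = s * t := by
      rcases hinv _ (hSC _ (mul_mem huS huS)) hu2 with h | h | h | h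
      exacts [absurd h hu1, absurd h (hnsqt u huS), Or.inl h, Or.inr h]
    refine hnsqt (u * w) (mul_mem huS hwS) ?_
    rw [(show Commute w u from hcommS w hwS u huS).mul_mul_mul_comm u w]
    rcases hu' with hu' | hu' <;> rcases hz with hz' | hz' <;> rw [hu', hz'] at hne ⊢
    · exact absurd rfl hne
    · rw [← mul_assoc, hs2, one_mul]
    · rw [mul_assoc, ← htc, ← mul_assoc, hs2, one_mul]
    · exact absurd rfl hne
  have hNC : Subgroup.normalizer ((S : Subgroup G) : Set G) ≤ Subgroup.centralizer ((S : Subgroup G) : Set G) := by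
    intro g hg
    have hmem : ∀ a ∈ (S : Subgroup G), g * a * g⁻¹ ∈ (S : Subgroup G) := fun a ha =>
      (Subgroup.mem_normalizer_iff.1 hg a).1 ha
    have hgz : g * (w * w) * g⁻¹ = w * w := by
      have h1 : g * (w * w) * g⁻¹ = (g * w * g⁻¹) * (g * w * g⁻¹) := by rw [conj_mul]
      rw [h1]
      refine huniq _ (hmem w hwS) ?_ ?_
      · rw [← h1]; exact fun e => hw1 (conj_eq_one_iff.1 e)
      · rw [← h1, conj_mul, hw2, mul_one, mul_inv_cancel]
    have hgt : g * t * g⁻¹ = t ∨ g * t * g⁻¹ = w * w * t := by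
      rcases hinv _ (hSC _ (hmem t htS)) (by rw [conj_mul, D.t_sq, mul_one, mul_inv_cancel]) with h | h | h | h
      · exact absurd (conj_eq_one_iff.1 h) D.t_ne
      · exact Or.inl h
      all_goals
        have hne : g * t * g⁻¹ ≠ w * w := fun e => hnsqt w hwS
          (mul_left_cancel (mul_right_cancel (e.trans hgz.symm))).symm
      · rcases hz with hz' | hz'
        · exact absurd (h.trans hz'.symm) hne
        · right; rw [h, hz', mul_assoc, D.t_sq, mul_one]
      · rcases hz with hz' | hz'
        · right; rw [h, hz']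
        · exact absurd (h.trans hz'.symm) hne
    have hg2 : (g * g) * t = t * (g * g) := by
      rw [← mul_inv_eq_iff_eq_mul, mul_inv_rev,
        show g * g * t * (g⁻¹ * g⁻¹) = g * (g * t * g⁻¹) * g⁻¹ by group]
      rcases hgt with h | h
      · rw [h, h]
      · rw [h, ← conj_mul, hgz, h, ← mul_assoc, hw2, one_mul]
    set n := orderOf g with hn
    obtain ⟨m, hm, e, hnm⟩ : ∃ m, Odd m ∧ ∃ e, n = 2 ^ e * m := by
      refine ⟨n / 2 ^ n.factorization 2, ?_, n.factorization 2, (Nat.ordProj_mul_ordCompl_eq_self n 2).symm⟩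
      rw [Nat.odd_iff, hn]
      have := Nat.not_dvd_ordCompl Nat.prime_two (orderOf_pos g).ne'
      omega
    have hgm : g ^ m ∈ (S : Subgroup G) := by
      refine mem_sylow_of_normalize S ?_ (pow_mem hg m)
      obtain ⟨a, -, ha⟩ := (Nat.dvd_prime_pow Nat.prime_two).1 (orderOf_dvd_of_pow_eq_one
        (show (g ^ m) ^ 2 ^ e = 1 by rw [← pow_mul, mul_comm, ← hnm, hn, pow_orderOf_eq_one]))
      exact ⟨a, ha⟩
    refine Subgroup.mem_centralizer_iff.2 fun a ha => ?_
    have h1 : Commute (g ^ m) a := hcommS _ hgm a ha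
    have h2 : Commute (g * g) a := hab (g * g) a hg2 (hSC a ha)
    obtain ⟨r, hr⟩ := hm
    have h3 : g = g ^ m * ((g * g) ^ r)⁻¹ := by
      rw [hr, ← pow_two, ← pow_mul, pow_succ', mul_inv_cancel_right]
    rw [h3]
    exact ((h1.mul_left (h2.pow_left r).inv_left)).eq.symm
  have hcompl := MonoidHom.ker_transferSylow_isComplement' S hNC
  rcases (inferInstance : (MonoidHom.transferSylow S hNC).ker.Normal).eq_bot_or_eq_top with h | h
  · rw [h, Subgroup.isComplement'_bot_left] at hcompl
    exact false_of_central hnc D.t_ne fun g => hSC g (hcompl ▸ Subgroup.mem_top g)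
  · rw [h, Subgroup.isComplement'_top_left] at hcompl
    rw [hcompl, Subgroup.mem_bot] at htS
    exact D.t_ne htS

omit htS in
/-- The images `A₄` and `A₅` are impossible. -/
theorem false_of_alternating
    (hB : Nonempty (B ≃* alternatingGroup (Fin 4)) ∨ Nonempty (B ≃* alternatingGroup (Fin 5))) : False := by
  obtain ⟨s, hsS, hs2, hs1, hst⟩ := D.exists_involution hnc S
  set σ := D.lift (hSC s hsS)
  have hπs : π σ ≠ 1 := fun e => by
    rcases D.ker _ e with h | h
    exacts [hs1 h, hst h]
  have hσ : σ * σ = 1 := Subtype.ext hs2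
  rcases hB with ⟨⟨φ⟩⟩ | ⟨⟨φ⟩⟩
  · exact D.false_of_conj φ hσ hπs (conj_four _ (by rw [← map_mul, ← map_mul, hσ, map_one, map_one])
      fun e => hπs (φ.injective (e.trans (map_one φ).symm)))
  · exact D.false_of_conj φ hσ hπs (conj_five _ (by rw [← map_mul, ← map_mul, hσ, map_one, map_one])
      fun e => hπs (φ.injective (e.trans (map_one φ).symm)))

end CfsgLib.Geo.SL3.Engine
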