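import Mathlib

/-!
# Simultaneous diagonalisation of commuting matrices of finite order prime to the characteristic
-/

set_option autoImplicit false

namespace CfsgLib.Geo.SL3.Engine

open Matrix

variable {k : Type*} [Field k] [IsAlgClosed k] {n : ℕ}

/-- Commuting matrices whose orders are invertible in the field have a common eigenbasis. -/
theorem exists_common_diag {ι : Type*} (f : ι → Matrix (Fin n) (Fin n) k)
    (hc : ∀ i j, Commute (f i) (f j)) (hord : ∀ i, ∃ N : ℕ, (N : k) ≠ 0 ∧ f i ^ N = 1) :
    ∃ B : GL (Fin n) k, ∀ i, ∃ d : Fin n → k,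
      ((B⁻¹ : GL (Fin n) k) : Matrix (Fin n) (Fin n) k) * f i * B = Matrix.diagonal d := by
  classical
  set T : ι → Module.End k (Fin n → k) := fun i => Matrix.toLinAlgEquiv' (f i) with hT
  have hss : ∀ i, Module.End.IsFinitelySemisimple (T i) := fun i => by
    obtain ⟨N, hN, hfN⟩ := hord i
    refine Module.End.IsSemisimple.isFinitelySemisimple
      (Module.End.isSemisimple_of_squarefree_aeval_eq_zero (p := Polynomial.X ^ N - 1) ?_ ?_)
    · exact (Polynomial.X_pow_sub_one_separable_iff.mpr hN).squarefree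
    · rw [map_sub, map_pow, map_one, Polynomial.aeval_X, hT, ← map_pow, hfN, map_one, sub_self]
  have htop : ⨆ χ : ι → k, ⨅ i, Module.End.maxGenEigenspace (T i) (χ i) = ⊤ :=
    Module.End.iSup_iInf_maxGenEigenspace_eq_top_of_iSup_maxGenEigenspace_eq_top_of_commute
      _ (fun i j _ => (hc i j).map _) fun i => Module.End.iSup_maxGenEigenspace_eq_top _
  set S : Set (Fin n → k) := {v | ∀ i, ∃ c : k, f i *ᵥ v = c • v} with hS
  have hspan : Submodule.span k S = ⊤ := by
    rw [eq_top_iff, ← htop]
    refine iSup_le fun χ v hv => Submodule.subset_span fun i => ⟨χ i, ?_⟩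
    have h := (Submodule.mem_iInf _).1 hv i
    rw [(hss i).maxGenEigenspace_eq_eigenspace, Module.End.mem_eigenspace_iff] at h
    rw [← h, hT]
    simp
  obtain ⟨b, hbS, hbspan, hbli⟩ := exists_linearIndependent k S
  have hbtop : ⊤ ≤ Submodule.span k (Set.range ((↑) : b → Fin n → k)) := by
    rw [Subtype.range_coe, hbspan, hspan]
  let β := Module.Basis.mk hbli hbtop
  haveI : Finite b := hbli.finite
  letI := Fintype.ofFinite b
  have hcard : Fintype.card b = n := by
    rw [← Module.finrank_eq_card_basis β, Module.finrank_fin_fun]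
  let β' := β.reindex (Fintype.equivFinOfCardEq hcard)
  have hmem : ∀ j, (β' j) ∈ S := fun j => by
    rw [Module.Basis.reindex_apply, Module.Basis.mk_apply]
    exact hbS (Subtype.coe_prop _)
  choose c hc' using hmem
  let P : Matrix (Fin n) (Fin n) k := (Pi.basisFun k (Fin n)).toMatrix β'
  have hP : IsUnit P := by
    haveI := (Pi.basisFun k (Fin n)).invertibleToMatrix β'
    exact isUnit_of_invertible P
  refine ⟨hP.unit, fun i => ⟨fun j => c j i, ?_⟩⟩
  have hPv : ∀ l j, P l j = β' j l := fun l j => by
    simp [P, Module.Basis.toMatrix_apply, Pi.basisFun_repr]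
  have hmul : f i * P = P * Matrix.diagonal (fun j => c j i) := by
    ext l j
    have h := congrFun (hc' j i) l
    rw [Matrix.mul_apply, Matrix.mul_diagonal]
    simp only [hPv]
    rw [Matrix.mulVec, dotProduct] at h
    rw [h, Pi.smul_apply, smul_eq_mul, mul_comm]
  show ((hP.unit⁻¹ : GL (Fin n) k) : Matrix (Fin n) (Fin n) k) * f i * P = _
  rw [mul_assoc, hmul, ← mul_assoc, hP.val_inv_mul, one_mul]

end CfsgLib.Geo.SL3.Engine
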