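import Cfsg.Agent.Lib.Geo.SL3.Engine.Cyclic

/-!
# Dihedral image: the rotations
-/

set_option autoImplicit false

namespace CfsgLib.Geo.SL3.Engine

variable {G : Type*} [Group G] {t : G} {B : Type*} [Group B]
  {π : Subgroup.centralizer ({t} : Set G) →* B} {n : ℕ} [NeZero n]

/-- Elements of the centraliser mapping to rotations. -/
def IsRot (π : Subgroup.centralizer ({t} : Set G) →* B) (φ : B ≃* DihedralGroup n) (x : G) : Prop :=
  ∃ hx : x * t = t * x, ∃ i, φ (π ⟨x, Subgroup.mem_centralizer_singleton_iff.2 hx⟩) = DihedralGroup.r i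

variable (D : CentData t π) (φ : B ≃* DihedralGroup n)

include D

omit [NeZero n] in
theorem isRot_iff {x : G} (hx : x * t = t * x) :
    IsRot π φ x ↔ ∃ i, φ (π (D.lift hx)) = DihedralGroup.r i := ⟨fun ⟨_, h⟩ => h, fun h => ⟨hx, h⟩⟩

omit [NeZero n] in
theorem rot_t : IsRot π φ t := ⟨rfl, 0, by
  rw [D.map_t _ rfl, map_one, DihedralGroup.one_def]⟩

omit [NeZero n] in
theorem rot_one : IsRot π φ 1 := ⟨by rw [one_mul, mul_one], 0, by
  rw [(D.map_eq_one_iff _).2 (Or.inl rfl), map_one, DihedralGroup.one_def]⟩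

omit [NeZero n] in
theorem rot_mul {x y : G} (hx : IsRot π φ x) (hy : IsRot π φ y) : IsRot π φ (x * y) := by
  obtain ⟨hx, i, hi⟩ := hx
  obtain ⟨hy, j, hj⟩ := hy
  refine ⟨(show Commute x t from hx).mul_left (show Commute y t from hy), i + j, ?_⟩
  rw [show (⟨x * y, _⟩ : Subgroup.centralizer ({t} : Set G)) = D.lift hx * D.lift hy from rfl, map_mul,
    map_mul, hi, hj, DihedralGroup.r_mul_r]

omit [NeZero n] in
theorem rot_inv {x : G} (hx : IsRot π φ x) : IsRot π φ x⁻¹ := by
  obtain ⟨hx, i, hi⟩ := hx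
  refine ⟨(show Commute x t from hx).inv_left, -i, ?_⟩
  rw [show (⟨x⁻¹, _⟩ : Subgroup.centralizer ({t} : Set G)) = (D.lift hx)⁻¹ from rfl, map_inv, map_inv, hi,
    DihedralGroup.inv_r]

/-- The rotations as a subgroup. -/
def rotGroup : Subgroup G where
  carrier := {x | IsRot π φ x}
  one_mem' := rot_one D φ
  mul_mem' := fun hx hy => rot_mul D φ hx hy
  inv_mem' := fun hx => rot_inv D φ hx

omit [NeZero n] in
theorem mem_rotGroup {x : G} : x ∈ rotGroup D φ ↔ IsRot π φ x := Iff.rfl

/-- Rotations commute. -/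
theorem rot_comm {x y : G} (hx : IsRot π φ x) (hy : IsRot π φ y) : x * y = y * x := by
  obtain ⟨hx, i, hi⟩ := hx
  obtain ⟨hy, j, hj⟩ := hy
  obtain ⟨Z, hZ⟩ := D.surj (φ.symm (DihedralGroup.r 1))
  have key : ∀ {w : G} (hw : w * t = t * w) (l : ZMod n), φ (π (D.lift hw)) = DihedralGroup.r l →
      ∃ e : G, (e = 1 ∨ e = t) ∧ w = (Z : G) ^ l.val * e := by
    intro w hw l hl
    rcases D.eq_or_eq (x := D.lift hw) (y := Z ^ l.val) (by
      refine φ.injective ?_
      rw [hl, map_pow, map_pow, hZ, φ.apply_symm_apply, DihedralGroup.r_one_pow, ZMod.natCast_val,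
        ZMod.cast_id]) with h | h
    · exact ⟨1, Or.inl rfl, by rw [mul_one]; exact h⟩
    · exact ⟨t, Or.inr rfl, h⟩
  obtain ⟨e, he, rfl⟩ := key hx i hi
  obtain ⟨e', he', rfl⟩ := key hy j hj
  have hZt : Commute (Z : G) t := D.comm_t Z
  have hc : ∀ e : G, e = 1 ∨ e = t → Commute (Z : G) e := by
    rintro e (rfl | rfl)
    exacts [Commute.one_right _, hZt]
  have hee : Commute e e' := by
    rcases he with rfl | rfl
    · exact Commute.one_left _
    · rcases he' with rfl | rfl
      exacts [Commute.one_right _, Commute.refl _]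
  exact Commute.mul_left (Commute.mul_right (Commute.pow_pow (Commute.refl _) _ _) ((hc e' he').pow_left _))
    (Commute.mul_right ((hc e he).symm.pow_right _) hee)

omit [NeZero n] in
/-- The product of two elements outside the rotations is a rotation. -/
theorem rot_of_out {u v : G} (hu : u * t = t * u) (hu' : ¬ IsRot π φ u) (hv : v * t = t * v)
    (hv' : ¬ IsRot π φ v) : IsRot π φ (u * v) := by
  refine ⟨(show Commute u t from hu).mul_left (show Commute v t from hv), ?_⟩
  rw [show (⟨u * v, _⟩ : Subgroup.centralizer ({t} : Set G)) = D.lift hu * D.lift hv from rfl, map_mul,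
    map_mul]
  rcases hi : φ (π (D.lift hu)) with i | i
  · exact absurd ⟨hu, i, hi⟩ hu'
  rcases hj : φ (π (D.lift hv)) with j | j
  · exact absurd ⟨hv, j, hj⟩ hv'
  exact ⟨j - i, DihedralGroup.sr_mul_sr i j⟩

omit [NeZero n] in
theorem out_of_mul {u x : G} (hu : ¬ IsRot π φ u) (hx : IsRot π φ x) : ¬ IsRot π φ (u * x) :=
  fun h => hu (by
    have := rot_mul D φ h (rot_inv D φ hx)
    rwa [mul_inv_cancel_right] at this)

omit [NeZero n] in
/-- An element outside inverts the rotations up to `t`. -/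
theorem conj_out {u x : G} (hu : u * t = t * u) (hu' : ¬ IsRot π φ u) (hx : IsRot π φ x) :
    u * x * u⁻¹ = x⁻¹ ∨ u * x * u⁻¹ = x⁻¹ * t := by
  obtain ⟨hx, i, hi⟩ := hx
  rcases hj : φ (π (D.lift hu)) with j | j
  · exact absurd ⟨hu, j, hj⟩ hu'
  have h := D.eq_or_eq (x := D.lift hu * D.lift hx * (D.lift hu)⁻¹) (y := (D.lift hx)⁻¹) (φ.injective (by
    simp only [map_mul, map_inv, hi, hj]
    rw [DihedralGroup.inv_sr, DihedralGroup.sr_mul_r, DihedralGroup.sr_mul_sr, DihedralGroup.inv_r]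
    congr 1
    ring))
  exact h

omit [NeZero n] in
theorem rot_conj {g x : G} (hg : g * t = t * g) (hx : IsRot π φ x) : IsRot π φ (g * x * g⁻¹) := by
  by_cases hg' : IsRot π φ g
  · exact rot_mul D φ (rot_mul D φ hg' hx) (rot_inv D φ hg')
  · rcases conj_out D φ hg hg' hx with h | h <;> rw [h]
    exacts [rot_inv D φ hx, rot_mul D φ (rot_inv D φ hx) (rot_t D φ)]

omit [NeZero n] in
theorem exists_out : ∃ u : G, u * t = t * u ∧ ¬ IsRot π φ u := by
  obtain ⟨U, hU⟩ := D.surj (φ.symm (DihedralGroup.sr 0))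
  refine ⟨U, D.comm_t U, fun ⟨_, i, hi⟩ => ?_⟩
  change φ (π U) = _ at hi
  rw [hU, φ.apply_symm_apply] at hi
  cases hi

omit [NeZero n] in
theorem relIndex_rotGroup : (rotGroup D φ).relIndex (Subgroup.centralizer ({t} : Set G)) = 2 := by
  obtain ⟨u, hu, hu'⟩ := exists_out D φ
  refine Subgroup.index_eq_two_iff.2 ⟨D.lift hu, fun b => ?_⟩
  simp only [Subgroup.mem_subgroupOf, mem_rotGroup]
  by_cases hb : IsRot π φ (b : G)
  · refine Or.inr ⟨hb, fun h => hu' ?_⟩
    have := rot_mul D φ (rot_inv D φ hb) h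
    rwa [Subgroup.coe_mul, inv_mul_cancel_left] at this
  · exact Or.inl ⟨rot_of_out D φ (D.comm_t b) hb hu hu', hb⟩

variable [Finite G]

omit [NeZero n] in
theorem card_rotGroup : Nat.card B = Nat.card (rotGroup D φ) := by
  have hle : rotGroup D φ ≤ Subgroup.centralizer ({t} : Set G) :=
    fun x hx => Subgroup.mem_centralizer_singleton_iff.2 hx.1
  have h := Subgroup.card_mul_index ((rotGroup D φ).subgroupOf (Subgroup.centralizer ({t} : Set G)))
  rw [Nat.card_congr (Subgroup.subgroupOfEquivOfLe hle).toEquiv, ← Subgroup.relIndex] at h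
  rw [relIndex_rotGroup D φ, D.card_cent] at h
  omega

omit [NeZero n] in
/-- Elements of odd order are rotations. -/
theorem rot_of_odd {y : G} (hy : y * t = t * y) (hodd : Odd (orderOf y)) : IsRot π φ y := by
  by_contra hy'
  obtain ⟨m, hm⟩ := hodd
  have h2 : IsRot π φ (y * y) := rot_of_out D φ hy hy' hy hy'
  have h3 : IsRot π φ ((y * y) ^ (m + 1)) := (rotGroup D φ).pow_mem h2 _
  rw [← pow_two, ← pow_mul, show 2 * (m + 1) = orderOf y + 1 by omega, pow_succ, pow_orderOf_eq_one,
    one_mul] at h3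
  exact hy' h3

omit [NeZero n] in
/-- Outer elements invert the elements of odd order. -/
theorem inverts_odd {u y : G} (hu : u * t = t * u) (hu' : ¬ IsRot π φ u) (hy : y * t = t * y)
    (hodd : Odd (orderOf y)) : u * y * u⁻¹ = y⁻¹ := by
  rcases conj_out D φ hu hu' (rot_of_odd D φ hy hodd) with h | h
  · exact h
  exfalso
  have h1 : orderOf (y⁻¹ * t) = orderOf y := by
    rw [← h, ← MulAut.conj_apply, MulEquiv.orderOf_eq]
  rw [Commute.orderOf_mul_eq_mul_orderOf_of_coprime (show Commute y t from hy).inv_left (by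
    rw [orderOf_inv, D.ord]; exact Nat.coprime_two_right.2 hodd), orderOf_inv, D.ord] at h1
  have := orderOf_pos y
  omega

variable [IsSimpleGroup G] (S : Sylow 2 G) (hSC : ∀ s ∈ (S : Subgroup G), s * t = t * s)
include hSC

omit [NeZero n] [IsSimpleGroup G] in
/-- A Sylow 2-subgroup contains an element outside the rotations. -/
theorem exists_out_sylow : ∃ u ∈ (S : Subgroup G), ¬ IsRot π φ u := by
  haveI : Fact (Nat.Prime 2) := ⟨Nat.prime_two⟩
  by_contra hno
  push Not at hno
  have hle : (S : Subgroup G) ≤ rotGroup D φ := hno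
  have hle' : rotGroup D φ ≤ Subgroup.centralizer ({t} : Set G) :=
    fun x hx => Subgroup.mem_centralizer_singleton_iff.2 hx.1
  refine S.not_dvd_index ?_
  rw [← Subgroup.relIndex_mul_index (hle.trans hle'), ← Subgroup.relIndex_mul_relIndex _ _ _ hle hle',
    relIndex_rotGroup D φ]
  exact Dvd.dvd.mul_right (dvd_mul_left 2 _) _

end CfsgLib.Geo.SL3.Engine
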