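import Mathlib

/-!
# There is no simple group of order 3672
-/

set_option autoImplicit false

namespace CfsgLib.Geo.SL3.Engine

open scoped Pointwise

/-- A finite simple group does not have order `3672`. -/
theorem card_ne_3672 {G : Type*} [Group G] [Finite G] [IsSimpleGroup G]
    (hnc : ¬ ∀ a b : G, a * b = b * a) : Nat.card G ≠ 3672 := by
  intro hG
  haveI : Fact (Nat.Prime 17) := ⟨by norm_num⟩
  haveI : Fact (Nat.Prime 3) := ⟨Nat.prime_three⟩
  obtain ⟨P⟩ : Nonempty (Sylow 17 G) := inferInstance
  have hP : Nat.card (P : Subgroup G) = 17 := by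
    rw [P.card_eq_multiplicity, hG,
      show (3672 : ℕ) = 17 ^ 1 * 216 by norm_num, Nat.factorization_mul (by norm_num) (by norm_num),
      Nat.Prime.factorization_pow (by norm_num), Finsupp.add_apply, Finsupp.single_eq_same,
      Nat.factorization_eq_zero_of_not_dvd (by norm_num)]
    norm_num
  have hnorm : ¬ (P : Subgroup G).Normal := fun hn => by
    rcases hn.eq_bot_or_eq_top with h | h
    · rw [h, Subgroup.card_bot] at hP; norm_num at hP
    · rw [h, Subgroup.card_top, hG] at hP; norm_num at hP
  -- there are eighteen Sylow subgroups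
  set N := Subgroup.normalizer ((P : Subgroup G) : Set G) with hN
  have hidx : Nat.card (Sylow 17 G) = N.index := P.card_eq_index_normalizer
  have hdvd : Nat.card (Sylow 17 G) ∣ 216 := by
    have h := P.card_dvd_index
    have h2 := Subgroup.card_mul_index (P : Subgroup G)
    rw [hP, hG] at h2
    rwa [show (P : Subgroup G).index = 216 by omega] at h
  have hmod : Nat.card (Sylow 17 G) % 17 = 1 := card_sylow_modEq_one 17 G
  have hne1 : Nat.card (Sylow 17 G) ≠ 1 := fun h => hnorm (Subgroup.normalizer_eq_top_iff.1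
    (Subgroup.index_eq_one.1 (hidx ▸ h)))
  have h18 : Nat.card (Sylow 17 G) = 18 := by
    have hm := Nat.mem_divisors.2 ⟨hdvd, by norm_num⟩
    have hall : ∀ d ∈ Nat.divisors 216, d % 17 = 1 → d ≠ 1 → d = 18 := by decide +kernel
    exact hall _ hm hmod hne1
  have hcN : Nat.card N = 204 := by
    have h := Subgroup.card_mul_index N
    rw [← hidx, h18, hG] at h
    omega
  -- an element of order three centralising `P`
  let f : N →* MulAut (P : Subgroup G) := Subgroup.normalizerMonoidHom (P : Subgroup G)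
  haveI : IsCyclic (P : Subgroup G) := isCyclic_of_prime_card hP
  have hAut : Nat.card (MulAut (P : Subgroup G)) = 16 := by
    rw [IsCyclic.card_mulAut, hP]; rfl
  have h3 : 3 ∣ Nat.card f.ker := by
    have h := Subgroup.card_eq_card_quotient_mul_card_subgroup f.ker
    rw [hcN, Nat.card_congr (QuotientGroup.quotientKerEquivRange f).toEquiv] at h
    have hr : Nat.card f.range ∣ 16 := hAut ▸ Subgroup.card_subgroup_dvd_card f.range
    have hc : (3 : ℕ).Coprime (Nat.card f.range) := (Nat.Coprime.coprime_dvd_right hr (by norm_num))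
    exact hc.dvd_of_dvd_mul_left (h ▸ (by norm_num : (3 : ℕ) ∣ 204))
  obtain ⟨a, ha⟩ := exists_prime_orderOf_dvd_card' 3 h3
  set x : G := ((a : N) : G) with hx
  have hxo : orderOf x = 3 := by rw [hx, Subgroup.orderOf_coe, Subgroup.orderOf_coe, ha]
  have hxP : ∀ z ∈ (P : Subgroup G), x * z * x⁻¹ = z := fun z hz => by
    have h := congrArg (fun g : MulAut (P : Subgroup G) => ((g ⟨z, hz⟩ : (P : Subgroup G)) : G))
      (MonoidHom.mem_ker.1 a.2)
    exact h
  -- it fixes every Sylow subgroup
  have hfix : ∀ Q : Sylow 17 G, x • Q = Q := by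
    intro Q
    by_cases hQ : Q = P
    · rw [hQ]; exact Sylow.smul_eq_iff_mem_normalizer.2 (a : N).2
    have hstab : ∀ z ∈ (P : Subgroup G), z • Q = Q → z = 1 := by
      intro z hz hzQ
      by_contra hz1
      have hzN := Sylow.smul_eq_iff_mem_normalizer.1 hzQ
      have hgen : Subgroup.zpowers z = (P : Subgroup G) := by
        refine Subgroup.eq_of_le_of_card_ge (Subgroup.zpowers_le.2 hz) ?_
        rw [hP, Nat.card_zpowers]
        have h1 := Subgroup.orderOf_dvd_natCard _ hz
        rw [hP] at h1
        rcases (Nat.dvd_prime (by norm_num)).1 h1 with h | h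
        · exact absurd (orderOf_eq_one_iff.1 h) hz1
        · omega
      have hle : (P : Subgroup G) ≤ Subgroup.normalizer ((Q : Subgroup G) : Set G) :=
        hgen ▸ Subgroup.zpowers_le.2 hzN
      have hQP := IsPGroup.to_sup_of_normal_right' P.2 Q.2 hle
      exact hQ (Sylow.ext ((P.3 hQP le_sup_left).symm.trans (Q.3 hQP le_sup_right)).symm)
    -- `P` is transitive on the other Sylow subgroups
    have hneP : ∀ z : (P : Subgroup G), (z : G) • Q ≠ P := fun z e => hQ
      (calc Q = (z : G)⁻¹ • ((z : G) • Q) := (inv_smul_smul _ _).symm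
        _ = (z : G)⁻¹ • P := congrArg (fun R => (z : G)⁻¹ • R) e
        _ = P := Sylow.smul_eq_iff_mem_normalizer.2 (Subgroup.le_normalizer (inv_mem z.2)))
    have hinj : Function.Injective fun z : (P : Subgroup G) =>
        (⟨(z : G) • Q, hneP z⟩ : {R : Sylow 17 G // R ≠ P}) := fun z w e => by
      have h := congrArg (fun R : {R : Sylow 17 G // R ≠ P} => (w : G)⁻¹ • (R : Sylow 17 G)) e
      simp only [smul_smul, inv_mul_cancel, one_smul] at h
      exact Subtype.ext (inv_mul_eq_one.1 (hstab _ (mul_mem (inv_mem w.2) z.2) h)).symm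
    have hbij := (Nat.bijective_iff_injective_and_card _).2 ⟨hinj, by
      haveI := Fintype.ofFinite (Sylow 17 G)
      classical
      rw [hP, Nat.card_eq_fintype_card, Fintype.card_subtype_compl, Fintype.card_subtype_eq,
        ← Nat.card_eq_fintype_card, h18]⟩
    have hne : x • Q ≠ P := fun e => hQ (by
      rw [← inv_smul_smul x Q, e]
      exact Sylow.smul_eq_iff_mem_normalizer.2 (inv_mem (a : N).2))
    obtain ⟨z, hz⟩ := hbij.2 ⟨x • Q, hne⟩
    have hz' : (z : G) • Q = x • Q := congrArg Subtype.val hz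
    have hc : Commute x (z : G) := mul_inv_eq_iff_eq_mul.1 (hxP z z.2)
    have hpow : ∀ k : ℕ, (x ^ k) • Q = ((z : G) ^ k) • Q := fun k => by
      induction k with
      | zero => rw [pow_zero, pow_zero]
      | succ k ih => rw [pow_succ, mul_smul, ← hz', ← mul_smul, (hc.pow_left k).eq, mul_smul, ih, ← mul_smul,
          ← pow_succ']
    have h2 : Q = ((z : G) * z * z) • Q := by
      rw [show (z : G) * z * z = (z : G) ^ 3 from (pow_three' _).symm, ← hpow, ← hxo, pow_orderOf_eq_one, one_smul]
    have h3' := hstab _ (mul_mem (mul_mem z.2 z.2) z.2) h2.symm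
    have hz3 : (z : G) ^ 3 = 1 := by rw [pow_three']; exact h3'
    have hz17 : (z : G) ^ 17 = 1 := by
      have := pow_card_eq_one' (x := z)
      rw [hP] at this
      exact congrArg Subtype.val this
    have hz1 : (z : G) = 1 := by
      rw [← orderOf_eq_one_iff]
      exact Nat.eq_one_of_dvd_coprimes (by norm_num : Nat.Coprime 3 17) (orderOf_dvd_of_pow_eq_one hz3)
        (orderOf_dvd_of_pow_eq_one hz17)
    rw [← hz', hz1, one_smul]
  -- hence it is trivial
  let ρ : G →* Equiv.Perm (Sylow 17 G) := MulAction.toPermHom G (Sylow 17 G)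
  have hxker : x ∈ ρ.ker := MonoidHom.mem_ker.2 (Equiv.ext fun Q => hfix Q)
  rcases (inferInstance : ρ.ker.Normal).eq_bot_or_eq_top with h | h
  · rw [h, Subgroup.mem_bot] at hxker
    rw [hxker, orderOf_one] at hxo
    omega
  · refine hne1 ?_
    rw [Nat.card_eq_one_iff_unique]
    refine ⟨⟨fun Q R => ?_⟩, ⟨P⟩⟩
    obtain ⟨g, hg⟩ := MulAction.exists_smul_eq G Q R
    rw [← hg]
    exact (congrArg (fun e : Equiv.Perm (Sylow 17 G) => e Q) (MonoidHom.mem_ker.1 (h ▸ Subgroup.mem_top g :
      g ∈ ρ.ker))).symm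

end CfsgLib.Geo.SL3.Engine
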