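import Cfsg.Agent.Lib.Geo.SL3.Engine.DihedralSylow
import Cfsg.Agent.Lib.Geo.SL3.Engine.NotOrder3672
import Cfsg.Agent.Lib.Transfer.ThompsonTransfer
import Cfsg.Agent.Lib.ZStar.PrincipalBlock
import Cfsg.Agent.S4481
import Cfsg.Agent.S4482

/-!
# Dihedral image: a four group among the rotations
-/

set_option autoImplicit false
set_option maxHeartbeats 400000

namespace CfsgLib.Geo.SL3.Engine

variable {G : Type*} [Group G] [Finite G] [IsSimpleGroup G] {t : G} {B : Type*} [Group B]
  {π : Subgroup.centralizer ({t} : Set G) →* B} {n : ℕ} [NeZero n]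
  (D : CentData t π) (φ : B ≃* DihedralGroup n)
  (S : Sylow 2 G) (htS : t ∈ (S : Subgroup G)) (hSC : ∀ s ∈ (S : Subgroup G), s * t = t * s)

include D

omit [Finite G] [IsSimpleGroup G] D in
/-- At most one non-zero element of `ZMod n` is its own negative. -/
theorem eq_of_neg_eq {i j : ZMod n} (hi : i + i = 0) (hj : j + j = 0) (hi0 : i ≠ 0) (hj0 : j ≠ 0) : i = j := by
  have h1 := ((ZMod.neg_eq_self_iff i).1 (neg_eq_of_add_eq_zero_left hi)).resolve_left hi0
  have h2 := ((ZMod.neg_eq_self_iff j).1 (neg_eq_of_add_eq_zero_left hj)).resolve_left hj0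
  exact ZMod.val_injective n (by omega)

omit [IsSimpleGroup G] in
/-- The involutions among the rotations. -/
theorem rot_involutions {x w : G} (hx : IsRot π φ x) (hx2 : x * x = 1) (hx1 : x ≠ 1) (hxt : x ≠ t)
    (hw : IsRot π φ w) (hw2 : w * w = 1) : w = 1 ∨ w = t ∨ w = x ∨ w = x * t := by
  have key : ∀ {y : G} (hy : y * t = t * y) (i : ZMod n), φ (π (D.lift hy)) = DihedralGroup.r i →
      y * y = 1 → i + i = 0 := by
    intro y hy i hi hyy
    have h : φ (π (D.lift hy * D.lift hy)) = DihedralGroup.r (i + i) := by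
      rw [map_mul, map_mul, hi, DihedralGroup.r_mul_r]
    rw [show D.lift hy * D.lift hy = 1 from Subtype.ext hyy, map_one, map_one, DihedralGroup.one_def] at h
    exact (DihedralGroup.r.injEq _ _ ▸ h).symm
  obtain ⟨hxC, i, hi⟩ := hx
  obtain ⟨hwC, j, hj⟩ := hw
  by_cases hj0 : j = 0
  · rcases D.ker _ (φ.injective (by rw [hj, hj0, map_one, DihedralGroup.one_def]) : π (D.lift hwC) = 1) with h | h
    exacts [Or.inl h, Or.inr (Or.inl h)]
  have hi0 : i ≠ 0 := fun e => by
    rcases D.ker _ (φ.injective (by rw [hi, e, map_one, DihedralGroup.one_def]) : π (D.lift hxC) = 1) with h | h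
    exacts [hx1 h, hxt h]
  have hij := eq_of_neg_eq (key hwC j hj hw2) (key hxC i hi hx2) hj0 hi0
  rcases D.eq_or_eq (φ.injective (by rw [hj, hi, hij]) : π (D.lift hwC) = π (D.lift hxC)) with h | h
  exacts [Or.inr (Or.inr (Or.inl h)), Or.inr (Or.inr (Or.inr h))]

variable (hnc : ¬ ∀ a b : G, a * b = b * a)
include htS hSC hnc

/-- The case of a four group among the rotations. -/
theorem conclusion_of_klein {x : G} (hx : IsRot π φ x) (hx2 : x * x = 1) (hx1 : x ≠ 1) (hxt : x ≠ t) :
    Conclusion G := by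
  classical
  haveI : Fact (Nat.Prime 2) := ⟨Nat.prime_two⟩
  have htt := D.t_sq
  have hxC : x * t = t * x := hx.1
  have hxt2 : (x * t) * (x * t) = 1 := by rw [mul_assoc, ← mul_assoc t, ← hxC, mul_assoc x t, htt, mul_one, hx2]
  have hxtne : x * t ≠ 1 := fun e => hxt (by rw [eq_inv_of_mul_eq_one_left e, inv_eq_of_mul_eq_one_right htt])
  have hswap : ∀ u, u * t = t * u → ¬ IsRot π φ u → u * x * u⁻¹ = x * t := by
    intro u hu hu'
    rcases conj_out D φ hu hu' hx with h | h <;> rw [inv_eq_of_mul_eq_one_right hx2] at h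
    · exfalso
      have huu : IsRot π φ (u * u) := rot_of_out D φ hu hu' hu hu'
      obtain ⟨_, i, hi⟩ := hx
      obtain ⟨_, j, hj⟩ : ∃ h : True, ∃ j, φ (π (D.lift hu)) = DihedralGroup.sr j := by
        rcases hj : φ (π (D.lift hu)) with j | j
        · exact absurd ⟨hu, j, hj⟩ hu'
        · exact ⟨trivial, j, rfl⟩
      have e := D.klein (D.lift hu) (D.lift hxC) (mul_inv_eq_iff_eq_mul.1 h)
        (φ.injective (by rw [map_pow, hj, map_one, pow_two, DihedralGroup.sr_mul_sr, sub_self,
          DihedralGroup.one_def]))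
        (by rw [← map_pow, show D.lift hxC ^ 2 = 1 from Subtype.ext (by show x ^ 2 = 1; rw [pow_two, hx2]),
          map_one])
        (fun e => hu' ⟨hu, 0, by rw [e, map_one, DihedralGroup.one_def]⟩)
        (fun e => by rcases D.ker _ e with h | h; exacts [hx1 h, hxt h])
      exact hu' ⟨hu, i, by rw [e]; exact hi⟩
    · exact h
  -- neither `t` nor `x` nor `x t` is the square of a rotation
  have hnsq : ∀ v, IsRot π φ v → v * v = 1 ∨ (v * v) * (v * v) ≠ 1 := by
    intro v hv
    by_contra hcon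
    push Not at hcon
    obtain ⟨h1, h4⟩ := hcon
    obtain ⟨u, hu, hu'⟩ := exists_out D φ
    have hfix : u * (v * v) * u⁻¹ = v * v := by
      rw [← conj_mul]
      rcases conj_out D φ hu hu' hv with h | h <;> rw [h]
      · rw [← mul_inv_rev, inv_eq_of_mul_eq_one_right h4]
      · rw [(show Commute t v⁻¹ from (show Commute v t from hv.1).inv_left.symm).mul_mul_mul_comm v⁻¹ t, htt,
          mul_one, ← mul_inv_rev, inv_eq_of_mul_eq_one_right h4]
    rcases rot_involutions D φ hx hx2 hx1 hxt (rot_mul D φ hv hv) h4 with h | h | h | h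
    · exact h1 h
    · -- `t` is not such a square
      obtain ⟨hvC, i, hi⟩ := hv
      have h0 : φ (π (D.lift hvC * D.lift hvC)) = 1 := by
        rw [D.map_t _ h, map_one]
      rw [map_mul, map_mul, hi, DihedralGroup.r_mul_r, DihedralGroup.one_def] at h0
      injection h0 with h0
      by_cases hi0 : i = 0
      · rcases D.ker _ (φ.injective (by rw [hi, hi0, map_one, DihedralGroup.one_def]) : π (D.lift hvC) = 1) with
          h' | h' <;> replace h' : v = _ := h' <;> subst v
        · exact h1 (mul_one 1)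
        · exact h1 htt
      · obtain ⟨hxC', l, hl⟩ := hx
        have hl0 : l ≠ 0 := fun e => by
          rcases D.ker _ (φ.injective (by rw [hl, e, map_one, DihedralGroup.one_def]) : π (D.lift hxC') = 1) with
            h' | h'
          exacts [hx1 h', hxt h']
        have hll : l + l = 0 := by
          have h3 : φ (π (D.lift hxC' * D.lift hxC')) = DihedralGroup.r (l + l) := by
            rw [map_mul, map_mul, hl, DihedralGroup.r_mul_r]
          rw [show D.lift hxC' * D.lift hxC' = 1 from Subtype.ext hx2, map_one, map_one,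
            DihedralGroup.one_def] at h3
          injection h3 with h3
          exact h3.symm
        rcases D.eq_or_eq (φ.injective (by rw [hi, hl, eq_of_neg_eq h0 hll hi0 hl0]) :
          π (D.lift hvC) = π (D.lift hxC')) with h' | h' <;> replace h' : v = _ := h' <;> subst v
        · exact h1 hx2
        · exact h1 hxt2
    · rw [h, hswap u hu hu'] at hfix
      exact D.t_ne (mul_eq_left.1 hfix)
    · rw [h, ← conj_mul, hswap u hu hu', show u * t * u⁻¹ = t from mul_inv_eq_iff_eq_mul.2 hu, mul_assoc,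
        htt, mul_one] at hfix
      exact D.t_ne (mul_eq_left.1 hfix.symm)
  -- the four group lies in the Sylow subgroup
  have hmemK : ∀ {w : G}, IsRot π φ w → w * w = 1 → w ∈ (S : Subgroup G) := by
    intro w hw hw2
    let K : Subgroup G :=
      { carrier := {w | IsRot π φ w ∧ w * w = 1}
        one_mem' := ⟨rot_one D φ, mul_one 1⟩
        mul_mem' := fun {a b} ha hb => ⟨rot_mul D φ ha.1 hb.1, by
          rw [(show Commute b a from rot_comm D φ hb.1 ha.1).mul_mul_mul_comm, ha.2, hb.2, mul_one]⟩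
        inv_mem' := fun {a} ha => ⟨rot_inv D φ ha.1, by rw [← mul_inv_rev, ha.2, inv_one]⟩ }
    have hK : IsPGroup 2 K := fun a => ⟨1, Subtype.ext (by
      show (a : G) ^ 2 ^ 1 = 1
      rw [pow_one, pow_two, a.2.2])⟩
    refine le_sylow_of_normalized S hK (fun g hg => Subgroup.mem_normalizer_iff.2 fun a => ⟨fun ha => ?_, fun ha => ?_⟩) ⟨hw, hw2⟩
    · exact ⟨rot_conj D φ (hSC g hg) ha.1, by rw [conj_mul, ha.2, mul_one, mul_inv_cancel]⟩
    · have h1 := rot_conj D φ (g := g⁻¹) (hSC _ (inv_mem hg)) ha.1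
      rw [inv_inv, show g⁻¹ * (g * a * g⁻¹) * g = a by group] at h1
      refine ⟨h1, ?_⟩
      have h2 := ha.2
      rw [conj_mul, conj_eq_one_iff] at h2
      exact h2
  have hxS : x ∈ (S : Subgroup G) := hmemK hx hx2
  -- the rotations of the Sylow subgroup have exponent two
  have hexp : ∀ v ∈ (S : Subgroup G), IsRot π φ v → v * v = 1 := by
    intro v hvS hv
    obtain ⟨j, hj⟩ := S.2 ⟨v, hvS⟩
    have hj' : v ^ 2 ^ j = 1 := congrArg Subtype.val hj
    clear hj hvS
    induction j generalizing v with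
    | zero => rw [pow_zero, pow_one] at hj'; rw [hj', mul_one]
    | succ j ih =>
      have h1 := ih (v * v) (rot_mul D φ hv hv) (by rw [← pow_two, ← pow_mul, ← pow_succ', hj'])
      exact (hnsq v hv).resolve_right (fun h => h h1)
  -- an involution outside
  obtain ⟨s, hsS, hs', hs2⟩ : ∃ s ∈ (S : Subgroup G), ¬ IsRot π φ s ∧ s * s = 1 := by
    obtain ⟨u, huS, hu'⟩ := exists_out_sylow D φ S hSC
    have hu := hSC u huS
    have huu : IsRot π φ (u * u) := rot_of_out D φ hu hu' hu hu'
    have h4 := hexp _ (mul_mem huS huS) huu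
    rcases rot_involutions D φ hx hx2 hx1 hxt huu h4 with h | h | h | h
    · exact ⟨u, huS, hu', h⟩
    · refine ⟨u * x, mul_mem huS hxS, out_of_mul D φ hu' hx, ?_⟩
      calc u * x * (u * x) = u * x * u⁻¹ * (u * u) * x := by group
        _ = x * t * t * x := by rw [hswap u hu hu', h]
        _ = 1 := by rw [mul_assoc x t t, htt, mul_one, hx2]
    all_goals
      exfalso
      have h5 : u * (u * u) * u⁻¹ = u * u := by group
      rw [h] at h5
    · rw [hswap u hu hu'] at h5
      exact D.t_ne (mul_eq_left.1 h5)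
    · rw [← conj_mul, hswap u hu hu', show u * t * u⁻¹ = t from mul_inv_eq_iff_eq_mul.2 hu, mul_assoc,
        htt, mul_one] at h5
      exact D.t_ne (mul_eq_left.1 h5.symm)
  have hs := hSC s hsS
  have hsinv : s⁻¹ = s := inv_eq_of_mul_eq_one_right hs2
  have hsx : s * x * s = x * t := by
    have := hswap s hs hs'
    rwa [hsinv] at this
  set σ := s * x with hσdef
  have hσS : σ ∈ (S : Subgroup G) := mul_mem hsS hxS
  have hσ2 : σ * σ = t := by
    rw [hσdef, ← mul_assoc, hsx, mul_assoc, ← hxC, ← mul_assoc, hx2, one_mul]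
  have hσ4 : σ ^ 2 ^ 2 = 1 := by rw [show 2 ^ 2 = 2 * 2 from rfl, pow_mul, pow_two σ, hσ2, pow_two, htt]
  have hσ2' : ¬ σ ^ 2 ^ 1 = 1 := by rw [pow_one, pow_two, hσ2]; exact D.t_ne
  have hσo : orderOf σ = 4 := orderOf_eq_prime_pow (p := 2) hσ2' hσ4
  have hσx : σ * x = s := by rw [hσdef, mul_assoc, hx2, mul_one]
  have hrel : s * σ * s⁻¹ = σ⁻¹ := by
    rw [hσdef, ← mul_assoc, hs2, one_mul, mul_inv_rev, inv_eq_of_mul_eq_one_right hx2]
  have hrelx : x * σ * x⁻¹ = σ⁻¹ := by
    rw [hσdef, mul_assoc, mul_assoc, mul_inv_cancel, mul_one, mul_inv_rev, inv_eq_of_mul_eq_one_right hx2, hsinv]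
  -- the elements of the Sylow subgroup
  have hS8 : ∀ g ∈ (S : Subgroup G), g = 1 ∨ g = t ∨ g = x ∨ g = x * t ∨ g * s = 1 ∨ g * s = t ∨ g * s = x ∨
      g * s = x * t := by
    intro g hg
    by_cases hg' : IsRot π φ g
    · rcases rot_involutions D φ hx hx2 hx1 hxt hg' (hexp g hg hg') with h | h | h | h <;> tauto
    · have h1 := rot_of_out D φ (hSC g hg) hg' hs hs'
      rcases rot_involutions D φ hx hx2 hx1 hxt h1 (hexp _ (mul_mem hg hsS) h1) with h | h | h | h <;> tauto
  have hgen : Subgroup.closure ({σ, x} : Set G) = (S : Subgroup G) := by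
    refine le_antisymm ((Subgroup.closure_le _).2 ?_) fun g hg => ?_
    · rintro y (rfl | rfl)
      exacts [hσS, hxS]
    · have hσm : σ ∈ Subgroup.closure ({σ, x} : Set G) := Subgroup.subset_closure (Set.mem_insert _ _)
      have hxm : x ∈ Subgroup.closure ({σ, x} : Set G) :=
        Subgroup.subset_closure (Set.mem_insert_of_mem _ rfl)
      have htm : t ∈ Subgroup.closure ({σ, x} : Set G) := hσ2 ▸ mul_mem hσm hσm
      have hsm : s ∈ Subgroup.closure ({σ, x} : Set G) := hσx ▸ mul_mem hσm hxm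
      have hgs : ∀ y ∈ Subgroup.closure ({σ, x} : Set G), g * s = y → g ∈ Subgroup.closure ({σ, x} : Set G) :=
        fun y hy e => by rw [← mul_inv_cancel_right g s, e]; exact mul_mem hy (inv_mem hsm)
      rcases hS8 g hg with h | h | h | h | h | h | h | h
      · rw [h]; exact one_mem _
      · rw [h]; exact htm
      · rw [h]; exact hxm
      · rw [h]; exact mul_mem hxm htm
      · exact hgs _ (one_mem _) h
      · exact hgs _ htm h
      · exact hgs _ hxm h
      · exact hgs _ (mul_mem hxm htm) h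
  have hnotσ : x ∉ Subgroup.zpowers σ := by
    intro h
    obtain ⟨i, hi⟩ := Subgroup.mem_zpowers_iff.1 h
    have hcm : Commute x σ := hi ▸ (Commute.refl σ).zpow_left i
    rw [mul_inv_eq_iff_eq_mul, hcm.eq] at hrelx
    have h2 := mul_right_cancel hrelx
    exact D.t_ne (by rw [← hσ2]; nth_rewrite 2 [h2]; rw [mul_inv_cancel])
  have hidx : (Subgroup.zpowers σ).relIndex (S : Subgroup G) = 2 := by
    have hσin : ∀ g ∈ (S : Subgroup G), g ∈ Subgroup.zpowers σ ∨ g * x ∈ Subgroup.zpowers σ := by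
      have ht' : t ∈ Subgroup.zpowers σ := hσ2 ▸ mul_mem (Subgroup.mem_zpowers σ) (Subgroup.mem_zpowers σ)
      have hσm := Subgroup.mem_zpowers σ
      intro g hg
      rcases hS8 g hg with h | h | h | h | h | h | h | h
      · exact Or.inl (h ▸ one_mem _)
      · exact Or.inl (h ▸ ht')
      · exact Or.inr (by rw [h, hx2]; exact one_mem _)
      · exact Or.inr (by rw [h, mul_assoc, ← hxC, ← mul_assoc, hx2, one_mul]; exact ht')
      all_goals rw [← mul_inv_cancel_right g s, h, hsinv]
      · exact Or.inr (by rw [one_mul]; exact hσm)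
      · exact Or.inr (by rw [mul_assoc]; exact mul_mem ht' hσm)
      · refine Or.inl ?_
        rw [show x * s = σ⁻¹ by rw [hσdef, mul_inv_rev, hsinv, inv_eq_of_mul_eq_one_right hx2]]
        exact inv_mem hσm
      · refine Or.inl ?_
        rw [hxC, mul_assoc, show x * s = σ⁻¹ by rw [hσdef, mul_inv_rev, hsinv, inv_eq_of_mul_eq_one_right hx2]]
        exact mul_mem ht' (inv_mem hσm)
    refine Subgroup.index_eq_two_iff.2 ⟨⟨x, hxS⟩, fun b => ?_⟩
    simp only [Subgroup.mem_subgroupOf, Subgroup.coe_mul]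
    rcases hσin b b.2 with h | h
    · refine Or.inr ⟨h, fun h' => hnotσ ?_⟩
      have := mul_mem (inv_mem h) h'
      rwa [inv_mul_cancel_left] at this
    · refine Or.inl ⟨h, fun h' => hnotσ ?_⟩
      have := mul_mem (inv_mem h') h
      rwa [inv_mul_cancel_left] at this
  have hcardS : Nat.card (S : Subgroup G) = 8 := by
    have hle : Subgroup.zpowers σ ≤ (S : Subgroup G) := Subgroup.zpowers_le.2 hσS
    have h := Subgroup.card_mul_index ((Subgroup.zpowers σ).subgroupOf (S : Subgroup G))
    rw [Nat.card_congr (Subgroup.subgroupOfEquivOfLe hle).toEquiv, ← Subgroup.relIndex, hidx, Nat.card_zpowers,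
      hσo] at h
    omega
  have hDih : Nonempty ((S : Subgroup G) ≃* DihedralGroup 4) :=
    CfsgLib.TwoGroups.nonempty_mulEquiv_dihedralGroup (a := (⟨σ, hσS⟩ : (S : Subgroup G)))
      (b := ⟨x, hxS⟩) (by rw [← Subgroup.orderOf_coe]; exact hσo) (Subtype.ext hx2)
      (by rintro ⟨i, hi⟩; exact hnotσ ⟨i, congrArg Subtype.val hi⟩) (Subtype.ext hrelx) (by rw [hcardS])
  -- a single class of involutions
  have hfus : ∀ u ∈ (S : Subgroup G), u * u = 1 → u ≠ 1 → IsConj t u := by
    intro u _ hu2 hu1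
    rcases CfsgLib.Transfer.thompson_transfer S (Subgroup.zpowers σ) hidx (u := u)
      (orderOf_eq_prime (by rw [pow_two, hu2]) hu1) with ⟨M, hM, hMi, -⟩ | ⟨g, hg⟩
    · haveI := hM
      exact (false_of_index_two hnc hMi).elim
    · refine (isConj_iff.2 ⟨g, ?_⟩).symm
      obtain ⟨i, hi⟩ := Subgroup.mem_zpowers_iff.1 hg
      have h1 : σ ^ i * σ ^ i = 1 := by rw [hi, conj_mul, hu2, mul_one, mul_inv_cancel]
      have h2 : (orderOf σ : ℤ) ∣ i + i := by rw [orderOf_dvd_iff_zpow_eq_one, zpow_add, h1]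
      rw [hσo] at h2
      obtain ⟨l, rfl⟩ : (2 : ℤ) ∣ i := by omega
      rw [← hi, zpow_mul, zpow_two, hσ2]
      rcases Int.even_or_odd l with ⟨r, rfl⟩ | ⟨r, rfl⟩
      · exfalso
        rw [zpow_mul, zpow_two, hσ2, ← two_mul, zpow_mul, zpow_two, htt, one_zpow] at hi
        exact hu1 (conj_eq_one_iff.1 hi.symm)
      · rw [zpow_add_one, zpow_mul, zpow_two, htt, one_zpow, one_mul]
  -- the rotations of odd order
  have hcube : ∀ y : G, y * t = t * y → Odd (orderOf y) → y ^ 3 = 1 := by
    intro y hy hodd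
    by_cases hy1 : y = 1
    · rw [hy1, one_pow]
    obtain ⟨g, hg⟩ := isConj_iff.1 (hfus x hxS hx2 hx1)
    have hcomm : Commute y x := rot_comm D φ (rot_of_odd D φ hy hodd) hx
    have hy' : g⁻¹ * y * g * t = t * (g⁻¹ * y * g) := by
      have h := hcomm.map (MulAut.conj g⁻¹).toMonoidHom
      change Commute (g⁻¹ * y * g⁻¹⁻¹) (g⁻¹ * x * g⁻¹⁻¹) at h
      rw [← hg, inv_inv, show g⁻¹ * (g * t * g⁻¹) * g = t by group] at h
      exact h.eq
    have hodd' : Odd (orderOf (g⁻¹ * y * g)) := by
      rw [show g⁻¹ * y * g = MulAut.conj g⁻¹ y by rw [MulAut.conj_apply, inv_inv], MulEquiv.orderOf_eq]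
      exact hodd
    rcases D.cube y (g⁻¹ * y * g) s s g⁻¹ hy hy' hy1 hs hs hodd (inverts_odd D φ hs hs' hy hodd)
      (inverts_odd D φ hs hs' hy' hodd') (by rw [inv_inv]) with h | h
    · exfalso
      refine hxt (hg.symm.trans ?_)
      have h' := (show Commute g⁻¹ t from h).inv_left
      rw [inv_inv] at h'
      exact mul_inv_eq_iff_eq_mul.2 h'.eq
    · exact h
  -- the rotations of order `n`
  obtain ⟨hxC', l, hl⟩ := hx
  have hl0 : l ≠ 0 := fun e => by
    rcases D.ker _ (φ.injective (by rw [hl, e, map_one, DihedralGroup.one_def]) : π (D.lift hxC') = 1) with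
      h' | h'
    exacts [hx1 h', hxt h']
  have hll : l + l = 0 := by
    have h3 : φ (π (D.lift hxC' * D.lift hxC')) = DihedralGroup.r (l + l) := by
      rw [map_mul, map_mul, hl, DihedralGroup.r_mul_r]
    rw [show D.lift hxC' * D.lift hxC' = 1 from Subtype.ext hx2, map_one, map_one, DihedralGroup.one_def] at h3
    injection h3 with h3
    exact h3.symm
  obtain ⟨m, hnm⟩ : ∃ m, n = 2 * m :=
    ⟨l.val, (((ZMod.neg_eq_self_iff l).1 (neg_eq_of_add_eq_zero_left hll)).resolve_left hl0).symm⟩
  have hlm : l = (m : ZMod n) := by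
    refine eq_of_neg_eq hll ?_ hl0 ?_
    · rw [← Nat.cast_add, ← two_mul, ← hnm, ZMod.natCast_self]
    · rw [Ne, ZMod.natCast_eq_zero_iff]
      intro h
      have := Nat.le_of_dvd (by have := NeZero.ne n; omega) h
      have := NeZero.ne n
      omega
  have hmodd : Odd m := by
    by_contra he
    obtain ⟨r, hr⟩ := Nat.not_odd_iff_even.1 he
    obtain ⟨V, hV⟩ := D.surj (φ.symm (DihedralGroup.r (r : ZMod n)))
    have hV' : φ (π V) = DihedralGroup.r (r : ZMod n) := by rw [hV, φ.apply_symm_apply]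
    have hVr : IsRot π φ (V : G) := ⟨D.comm_t V, r, hV'⟩
    have hVV : π (V * V) = π (D.lift hxC') := φ.injective (by
      rw [map_mul, map_mul, hV', DihedralGroup.r_mul_r, ← Nat.cast_add, ← hr, hl, hlm])
    rcases hnsq _ hVr with h | h
    · have h0 : π (V * V) = 1 := by rw [show V * V = 1 from Subtype.ext h, map_one]
      rw [hVV] at h0
      rcases D.ker _ h0 with h' | h'
      exacts [hx1 h', hxt h']
    · rcases D.eq_or_eq hVV with h' | h'
      · exact h (by rw [show (V : G) * V = x from h']; exact hx2)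
      · exact h (by rw [show (V : G) * V = x * t from h']; exact hxt2)
  obtain ⟨Y, hY⟩ := D.surj (φ.symm (DihedralGroup.r 2))
  have hY' : φ (π Y) = DihedralGroup.r 2 := by rw [hY, φ.apply_symm_apply]
  have hYm : ((Y : G) * Y) ^ m = 1 := by
    have h0 : π (Y ^ m) = 1 := φ.injective (by
      rw [map_pow, map_pow, hY', DihedralGroup.r_pow, map_one, DihedralGroup.one_def,
        show (2 : ZMod n) * (m : ℕ) = ((2 * m : ℕ) : ZMod n) by push_cast; ring, ← hnm, ZMod.natCast_self])
    rw [← pow_two, ← pow_mul, mul_comm, pow_mul]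
    rcases D.ker _ h0 with h | h <;> rw [Subgroup.coe_pow] at h <;> rw [h]
    exacts [one_pow 2, by rw [pow_two, htt]]
  have hn12 : n ∣ 12 := by
    have hy3 := hcube ((Y : G) * Y) ((show Commute (Y : G) t from D.comm_t Y).mul_left (D.comm_t Y)).eq
      (hmodd.of_dvd_nat (orderOf_dvd_of_pow_eq_one hYm))
    have h1 : φ (π ((Y * Y) ^ 3)) = 1 := by
      rw [show (Y * Y) ^ 3 = 1 from Subtype.ext (by simpa using hy3), map_one, map_one]
    rw [map_pow, map_pow, map_mul, map_mul, hY', DihedralGroup.r_mul_r, DihedralGroup.r_pow,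
      DihedralGroup.one_def] at h1
    injection h1 with h1
    rw [show ((2 : ZMod n) + 2) * ((3 : ℕ) : ZMod n) = ((12 : ℕ) : ZMod n) by push_cast; ring,
      ZMod.natCast_eq_zero_iff] at h1
    exact h1
  rw [hnm] at hn12
  have hm13 : m = 1 ∨ m = 3 := by
    obtain ⟨c, hc⟩ := hn12
    obtain ⟨d, hd⟩ := hmodd
    have : m ≤ 6 := by
      rcases Nat.eq_zero_or_pos c with rfl | hc0
      · omega
      · nlinarith
    interval_cases m <;> omega
  rcases hm13 with hm | hm
  · refine conclusion_of_bsw D φ S htS hSC (N := 4) (by norm_num) hDih (Or.inl fun y hy hodd => ?_)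
    obtain ⟨hyC, i, hi⟩ := rot_of_odd D φ hy hodd
    have h2 : φ (π (D.lift hyC)) ^ 2 = 1 := by
      rw [hi, DihedralGroup.r_pow, show ((2 : ℕ) : ZMod n) = ((n : ℕ) : ZMod n) by rw [hnm, hm],
        ZMod.natCast_self, mul_zero, DihedralGroup.one_def]
    rw [← map_pow, ← map_pow, ← map_one φ] at h2
    have hy2 := D.ker _ (φ.injective h2)
    rw [Subgroup.coe_pow] at hy2
    obtain ⟨d, hd⟩ := hodd
    have h6 := pow_orderOf_eq_one y
    rw [hd, pow_succ, pow_mul] at h6
    rcases hy2 with h | h <;> replace h : y ^ 2 = _ := h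
    · rwa [h, one_pow, one_mul] at h6
    · exfalso
      have h7 : y ^ orderOf y = 1 := pow_orderOf_eq_one y
      have h8 : t ^ orderOf y = 1 := by rw [← h, ← pow_mul, mul_comm, pow_mul, h7, one_pow]
      have h9 := orderOf_dvd_of_pow_eq_one h8
      rw [D.ord, hd] at h9
      omega
  -- the order formula
  right
  have hn6 : n = 6 := by rw [hnm, hm]
  have hcardB : Nat.card B = 12 := by
    rw [Nat.card_congr φ.toEquiv, DihedralGroup.nat_card, hn6]
  have hCt : Nat.card (Subgroup.centralizer ({t} : Set G)) = 24 := by rw [D.card_cent, hcardB]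
  have hxr : IsRot π φ x := ⟨hxC', l, hl⟩
  have hCtx : Nat.card (Subgroup.centralizer ({t, x} : Set G)) = 12 := by
    rw [← hcardB, card_rotGroup D φ]
    congr 1
    suffices h : Subgroup.centralizer ({t, x} : Set G) = rotGroup D φ by rw [h]
    refine le_antisymm (fun g hg => ?_) fun g hg => ?_
    · have hgt : g * t = t * g := (Subgroup.mem_centralizer_iff.1 hg t (Set.mem_insert _ _)).symm
      by_contra hg'
      have h1 := hswap g hgt hg'
      rw [← Subgroup.mem_centralizer_iff.1 hg x (Set.mem_insert_of_mem _ rfl), mul_inv_cancel_right] at h1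
      exact D.t_ne (mul_eq_left.1 h1.symm)
    · refine Subgroup.mem_centralizer_iff.2 ?_
      rintro _ (rfl | rfl)
      exacts [hg.1.symm, (rot_comm D φ hg hxr).symm]
  have hCts : Nat.card (Subgroup.centralizer ({t, σ * x} : Set G)) = 4 := by
    rw [hσx]
    have hrotc : ∀ g, IsRot π φ g → g * s = s * g → g = 1 ∨ g = t := by
      intro g hg hgs
      have hgg : g * g = 1 ∨ g * g = t := by
        have h1 : s * g * s⁻¹ = g := by rw [← hgs, mul_inv_cancel_right]
        rcases conj_out D φ hs hs' hg with h | h <;> rw [h1] at h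
        · exact Or.inl (by nth_rewrite 2 [h]; rw [mul_inv_cancel])
        · exact Or.inr (by nth_rewrite 2 [h]; rw [mul_inv_cancel_left])
      rcases hgg with h | h
      · rcases rot_involutions D φ hxr hx2 hx1 hxt hg h with e | e | e | e
        · exact Or.inl e
        · exact Or.inr e
        all_goals
          exfalso
          subst g
        · have h4 : σ * s = x := (congrArg (· * s) hgs.symm).trans (by rw [mul_assoc, hs2, mul_one])
          exact D.t_ne (mul_eq_left.1 (hsx.symm.trans h4))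
        · have h4 : s * (x * t) * s = x * t :=
            (congrArg (· * s) hgs.symm).trans (by rw [mul_assoc, hs2, mul_one])
          have h5 : s * (x * t) * s = x := by
            calc s * (x * t) * s = σ * (t * s) := by simp only [hσdef, mul_assoc]
              _ = σ * s * t := by rw [← hs]; simp only [hσdef, mul_assoc]
              _ = x := by rw [hsx, mul_assoc, htt, mul_one]
          exact D.t_ne (mul_eq_left.1 (h4.symm.trans h5))
      · rcases hnsq g hg with e | e
        · rw [h] at e; exact absurd e D.t_ne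
        · rw [h] at e; exact absurd htt e
    have hset : (Subgroup.centralizer ({t, s} : Set G) : Set G) = {1, t, s, t * s} := by
      ext g
      simp only [Set.mem_insert_iff, Set.mem_singleton_iff, SetLike.mem_coe, Subgroup.mem_centralizer_iff]
      refine ⟨fun h => ?_, ?_⟩
      · have h1 := (h t (Or.inl rfl)).symm
        have h2 := (h s (Or.inr rfl)).symm
        by_cases hg : IsRot π φ g
        · rcases hrotc g hg h2 with e | e <;> tauto
        · have h3 : g = g * s * s := by rw [mul_assoc, hs2, mul_one]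
          rcases hrotc (g * s) (rot_of_out D φ h1 hg hs hs') (by
            rw [h2, mul_assoc, h2]) with e | e
          · rw [e, one_mul] at h3; tauto
          · rw [e] at h3; tauto
      · rintro (rfl | rfl | rfl | rfl) y (rfl | rfl)
        · simp
        · simp
        · rfl
        · exact hs
        · exact hs.symm
        · rfl
        · rw [← mul_assoc, htt, one_mul, mul_assoc, hs, ← mul_assoc, htt, one_mul]
        · rw [← mul_assoc, hs, mul_assoc]
    rw [← SetLike.coe_sort_coe, hset, Nat.card_coe_set_eq]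
    have h1 : (1 : G) ∉ ({t, s, t * s} : Set G) := by
      simp only [Set.mem_insert_iff, Set.mem_singleton_iff]
      rintro (h | h | h)
      · exact D.t_ne h.symm
      · exact hs' (h ▸ rot_one D φ)
      · exact hs' (by rw [← inv_eq_of_mul_eq_one_right h.symm]; exact rot_inv D φ (rot_t D φ))
    have h2 : t ∉ ({s, t * s} : Set G) := by
      simp only [Set.mem_insert_iff, Set.mem_singleton_iff]
      rintro (h | h)
      · exact hs' (h ▸ rot_t D φ)
      · exact hs' (mul_eq_left.1 h.symm ▸ rot_one D φ)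
    have h3 : s ≠ t * s := fun h => D.t_ne (mul_eq_right.1 h.symm)
    rw [Set.ncard_insert_of_notMem h1, Set.ncard_insert_of_notMem h2, Set.ncard_pair h3]
  obtain ⟨M, hM⟩ := CfsgLib.ZStar.exists_isPModular Nat.prime_two
  have hζ : IsPrimitiveRoot (Complex.exp (2 * Real.pi * Complex.I / (4 : ℕ))) (2 ^ (3 - 1)) :=
    Complex.isPrimitiveRoot_exp 4 (by norm_num)
  obtain ⟨-, χ₁, χ₂, χ₃, χ', δ₁, δ₂, δ₃, hδ₁, -, -, -, hne1, -, -, -, -, -, -, hblock, hval, -⟩ :=
    Cfsg.Agent.S4481.result M hM 3 le_rfl S hDih σ hσS hσo _ hζ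
  have hσpow : σ ^ 2 ^ (3 - 2) = t := by rw [show 2 ^ (3 - 2) = 2 from rfl, pow_two, hσ2]
  obtain ⟨hδne, hform⟩ := Cfsg.Agent.S4482.result M hM 3 le_rfl S σ x hσS hxS hσo
    (orderOf_eq_prime (by rw [pow_two, hx2]) hx1) hrelx hgen
    ⟨by rw [hσpow]; exact hfus x hxS hx2 hx1,
      by rw [hσpow, hσx]; exact hfus s hsS hs2 fun e => hs' (e ▸ rot_one D φ)⟩
    χ₁ (by rw [hblock]; exact Or.inr (Or.inl rfl)) hne1 δ₁ hδ₁ fun l hl0 hl1 => (hval l hl0 hl1).1
  rw [hσpow, hCt, hCtx, hCts] at hform
  -- arithmetic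
  have hCle : (S : Subgroup G) ≤ Subgroup.centralizer ({t} : Set G) :=
    fun y hy => Subgroup.mem_centralizer_singleton_iff.2 (hSC y hy)
  have hC := Subgroup.card_mul_index (Subgroup.centralizer ({t} : Set G))
  rw [hCt] at hC
  have hkodd : Odd (Subgroup.centralizer ({t} : Set G)).index := by
    rw [← Nat.not_even_iff_odd, even_iff_two_dvd]
    exact fun h => S.not_dvd_index (h.trans (Subgroup.index_dvd_of_le hCle))
  set k := (Subgroup.centralizer ({t} : Set G)).index
  set X := Cfsg.charDegree (χ₁ : G → ℂ)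
  have hZ : (k : ℤ) * ((X : ℤ) - δ₁) ^ 2 = 128 * (X : ℤ) * ((X : ℤ) + δ₁) := by
    rw [← hC] at hform
    push_cast at hform
    have h : ((k : ℤ) * ((X : ℤ) - δ₁) ^ 2 : ℚ) = (128 * (X : ℤ) * ((X : ℤ) + δ₁) : ℤ) := by
      push_cast
      linarith
    exact_mod_cast h
  rcases order_formula hkodd hδ₁ hδne hZ with hk | hk
  · rw [← hC, hk]
  · exact absurd (by rw [← hC, hk]) (card_ne_3672 hnc)
where
  order_formula {k X : ℕ} {δ : ℤ} (hk : Odd k) (hδ : δ = 1 ∨ δ = -1) (hne : (X : ℤ) ≠ δ)
      (h : (k : ℤ) * ((X : ℤ) - δ) ^ 2 = 128 * (X : ℤ) * ((X : ℤ) + δ)) : k = 105 ∨ k = 153 := by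
    set u := (X : ℤ) - δ with hu
    have hu0 : 0 < u := by
      rcases hδ with rfl | rfl
      · rcases Nat.eq_zero_or_pos X with h0 | h0
        · subst h0
          norm_num [hu] at h
          obtain ⟨d, hd⟩ := hk
          omega
        · omega
      · omega
    have hδ2 : δ * δ = 1 := by rcases hδ with rfl | rfl <;> norm_num
    have hdvd : u ∣ 256 := ⟨(k : ℤ) * u - 128 * (u + 3 * δ), by
      linear_combination -h + (-256) * hδ2⟩
    have hle : u ≤ 256 := Int.le_of_dvd (by norm_num) hdvd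
    obtain ⟨u', hu'⟩ : ∃ u' : ℕ, u = u' := ⟨u.natAbs, by omega⟩
    have hdvd' : u' ∣ 2 ^ 8 := by
      rw [hu'] at hdvd
      exact_mod_cast hdvd
    obtain ⟨i, hi, rfl⟩ := (Nat.dvd_prime_pow Nat.prime_two).1 hdvd'
    obtain ⟨d, hd⟩ := hk
    have hX : (X : ℤ) = (2 ^ i : ℕ) + δ := by rw [← hu', hu]; ring
    rw [hu', hX] at h
    rcases hδ with rfl | rfl <;> interval_cases i <;> norm_num at h <;> omega

end CfsgLib.Geo.SL3.Engine
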