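import Cfsg.Agent.Lib.Geo.SL3.Engine.DihedralBasic
import Cfsg.Agent.Lib.Recog.PSLOrderSpectrum.TransferFour
import Cfsg.Agent.Lib.TwoGroups.Recognition
import Cfsg.Agent.Lib.Core.Cores
import Cfsg.Agent.S0508

/-!
# Dihedral image: a single involution among the rotations
-/

set_option autoImplicit false
set_option maxHeartbeats 400000

namespace CfsgLib.Geo.SL3.Engine

open scoped Pointwise

variable {G : Type*} [Group G] [Finite G] [IsSimpleGroup G] {t : G} {B : Type*} [Group B]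
  {π : Subgroup.centralizer ({t} : Set G) →* B} {n : ℕ} [NeZero n]
  (D : CentData t π) (φ : B ≃* DihedralGroup n)
  (S : Sylow 2 G) (htS : t ∈ (S : Subgroup G)) (hSC : ∀ s ∈ (S : Subgroup G), s * t = t * s)

include D htS hSC

omit htS hSC [IsSimpleGroup G] in
/-- An element centralising an element of odd order of the centraliser and with a single involution among the
rotations centralises `t`. -/
theorem commute_of_centralizes (huniq : ∀ w, IsRot π φ w → w * w = 1 → w ≠ 1 → w = t) {y g : G}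
    (hy : y * t = t * y) (hy1 : y ≠ 1) (hodd : Odd (orderOf y)) (hg : g * y = y * g) : g * t = t * g := by
  obtain ⟨u, hu, hu'⟩ := exists_out D φ
  have hinv := inverts_odd D φ hu hu' hy hodd
  have h1 : g * t * g⁻¹ * t = t * (g * t * g⁻¹) :=
    (D.pair y u hy hy1 hu hodd hinv).2 g t hg rfl hy.symm
  have h2 : g * t * g⁻¹ * y = y * (g * t * g⁻¹) := by
    have h3 : Commute g y := hg
    exact ((h3.mul_left (show Commute t y from hy.symm)).mul_left h3.inv_left).eq
  have hsq : g * t * g⁻¹ * (g * t * g⁻¹) = 1 := by rw [conj_mul, D.t_sq, mul_one, mul_inv_cancel]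
  have hne : g * t * g⁻¹ ≠ 1 := fun e => D.t_ne (conj_eq_one_iff.1 e)
  have hrot : IsRot π φ (g * t * g⁻¹) := by
    by_contra hno
    have h4 := inverts_odd D φ h1 hno hy hodd
    rw [h2, mul_inv_cancel_right] at h4
    have h5 : y ^ 2 = 1 := by rw [pow_two]; nth_rewrite 2 [h4]; rw [mul_inv_cancel]
    obtain ⟨m, hm⟩ := hodd
    have h6 := pow_orderOf_eq_one y
    rw [hm, pow_succ, pow_mul, h5, one_pow, one_mul] at h6
    exact hy1 h6
  exact mul_inv_eq_iff_eq_mul.1 (huniq _ hrot hsq hne)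

/-- The Brauer–Suzuki–Wall conclusion. -/
theorem conclusion_of_bsw {N : ℕ} (hN : 2 ≤ N) (hS : Nonempty ((S : Subgroup G) ≃* DihedralGroup N))
    (hcase : (∀ y : G, y * t = t * y → Odd (orderOf y) → y = 1) ∨
      ((∀ w, IsRot π φ w → w * w = 1 → w ≠ 1 → w = t) ∧ IsCyclic ((S : Subgroup G) ⊓ rotGroup D φ : Subgroup G))) :
    Conclusion G := by
  classical
  haveI : Fact (Nat.Prime 2) := ⟨Nat.prime_two⟩
  set O := (Cfsg.oddCore (Subgroup.centralizer ({t} : Set G))).map
    (Subgroup.centralizer ({t} : Set G)).subtype with hO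
  have hOmem : ∀ y ∈ O, y * t = t * y ∧ Odd (orderOf y) := by
    rintro _ ⟨z, hz, rfl⟩
    refine ⟨D.comm_t z, ?_⟩
    have h1 := (CfsgLib.Core.coprime_card_pPrimeCore 2 (Subgroup.centralizer ({t} : Set G))).coprime_dvd_left
      (Subgroup.orderOf_dvd_natCard _ hz)
    rw [show orderOf ((Subgroup.centralizer ({t} : Set G)).subtype z) = orderOf z from Subgroup.orderOf_coe z]
    exact Nat.coprime_two_right.1 h1
  have hout : ∀ s ∈ (S : Subgroup G), ¬ IsRot π φ s → ∀ y ∈ O, s * y * s⁻¹ = y⁻¹ := fun s hs hs' y hy =>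
    inverts_odd D φ (hSC s hs) hs' (hOmem y hy).1 (hOmem y hy).2
  have hrotC : ∀ s, IsRot π φ s → s ∈ Subgroup.centralizer (O : Set G) := fun s hs =>
    Subgroup.mem_centralizer_iff.2 fun y hy => rot_comm D φ (rot_of_odd D φ (hOmem y hy).1 (hOmem y hy).2) hs
  refine Or.inl (Cfsg.Agent.S0508.result S N hN hS t D.ord htS hSC O hO ?_ ?_ ?_)
  · intro hne
    rcases hcase with hcase | ⟨-, hcyc⟩
    · exact absurd ((Subgroup.eq_bot_iff_forall _).2 fun y hy => hcase y (hOmem y hy).1 (hOmem y hy).2) hne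
    have hinf : (S : Subgroup G) ⊓ Subgroup.centralizer (O : Set G) = (S : Subgroup G) ⊓ rotGroup D φ := by
      refine le_antisymm (fun s hs => ⟨hs.1, ?_⟩) (fun s hs => ⟨hs.1, hrotC s hs.2⟩)
      by_contra hs'
      obtain ⟨y, hy, hy1⟩ := (Subgroup.ne_bot_iff_exists_ne_one.1 hne) |> fun ⟨y, hy⟩ =>
        (⟨(y : G), y.2, fun e => hy (Subtype.ext e)⟩ : ∃ y ∈ O, y ≠ 1)
      have h4 := hout s hs.1 hs' y hy
      rw [← Subgroup.mem_centralizer_iff.1 hs.2 y hy, mul_inv_cancel_right] at h4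
      obtain ⟨m, hm⟩ := (hOmem y hy).2
      have h5 : y ^ 2 = 1 := by rw [pow_two]; nth_rewrite 2 [h4]; rw [mul_inv_cancel]
      have h6 := pow_orderOf_eq_one y
      rw [hm, pow_succ, pow_mul, h5, one_pow, one_mul] at h6
      exact hy1 h6
    rw [hinf]
    refine ⟨hcyc, ?_⟩
    obtain ⟨u, huS, hu'⟩ := exists_out_sylow D φ S hSC
    refine Subgroup.index_eq_two_iff.2 ⟨⟨u, huS⟩, fun b => ?_⟩
    have key : ∀ x : (S : Subgroup G),
        x ∈ ((S : Subgroup G) ⊓ rotGroup D φ).subgroupOf (S : Subgroup G) ↔ IsRot π φ (x : G) := fun x =>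
      ⟨fun h => h.2, fun h => ⟨x.2, h⟩⟩
    rw [key, key]
    by_cases hb : IsRot π φ (b : G)
    · refine Or.inr ⟨hb, fun h => hu' ?_⟩
      have := rot_mul D φ (rot_inv D φ hb) h
      rwa [Subgroup.coe_mul, inv_mul_cancel_left] at this
    · exact Or.inl ⟨rot_of_out D φ (hSC _ b.2) hb (hSC u huS) hu', hb⟩
  · exact fun s hs hs' y hy => hout s hs (fun h => hs' (hrotC s h)) y hy
  · intro Y hYO hYne g hg
    rcases hcase with hcase | ⟨huniq, -⟩
    · exact absurd ((Subgroup.eq_bot_iff_forall _).2 fun y hy =>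
        hcase y (hOmem y (hYO hy)).1 (hOmem y (hYO hy)).2) hYne
    obtain ⟨⟨y, hyY⟩, hy1⟩ := Subgroup.ne_bot_iff_exists_ne_one.1 hYne
    have hy1' : y ≠ 1 := fun e => hy1 (Subtype.ext e)
    have hgy : g⁻¹ * y * g ∈ Y := by
      have := (Subgroup.mem_normalizer_iff.1 (inv_mem hg) y).1 hyY
      rwa [inv_inv] at this
    obtain ⟨hy', hyodd'⟩ := hOmem _ (hYO hgy)
    -- the conjugate of `t` centralises `y`
    have hcomm : Commute (g * t * g⁻¹) y := by
      have h := (show Commute t (g⁻¹ * y * g) from hy'.symm).map (MulAut.conj g).toMonoidHom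
      change Commute (g * t * g⁻¹) (g * (g⁻¹ * y * g) * g⁻¹) at h
      rwa [show g * (g⁻¹ * y * g) * g⁻¹ = y by group] at h
    have hct := commute_of_centralizes D φ huniq (hOmem y (hYO hyY)).1 hy1' (hOmem y (hYO hyY)).2 hcomm
    have hrot : IsRot π φ (g * t * g⁻¹) := by
      by_contra hno
      have h4 := inverts_odd D φ hct hno (hOmem y (hYO hyY)).1 (hOmem y (hYO hyY)).2
      rw [hcomm.eq, mul_inv_cancel_right] at h4
      obtain ⟨m, hm⟩ := (hOmem y (hYO hyY)).2
      have h5 : y ^ 2 = 1 := by rw [pow_two]; nth_rewrite 2 [h4]; rw [mul_inv_cancel]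
      have h6 := pow_orderOf_eq_one y
      rw [hm, pow_succ, pow_mul, h5, one_pow, one_mul] at h6
      exact hy1' h6
    exact Subgroup.mem_centralizer_singleton_iff.2 (mul_inv_eq_iff_eq_mul.1
      (huniq _ hrot (by rw [conj_mul, D.t_sq, mul_one, mul_inv_cancel]) fun e => D.t_ne (conj_eq_one_iff.1 e)))

/-- The case of a single involution among the rotations. -/
theorem conclusion_of_single (hnc : ¬ ∀ a b : G, a * b = b * a)
    (huniq : ∀ w, IsRot π φ w → w * w = 1 → w ≠ 1 → w = t) : Conclusion G := by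
  classical
  haveI : Fact (Nat.Prime 2) := ⟨Nat.prime_two⟩
  obtain ⟨s, hsS, hs2, hs1, hst⟩ := D.exists_involution hnc S
  have hs' : ¬ IsRot π φ s := fun h => hst (huniq s h hs2 hs1)
  set P := (S : Subgroup G) ⊓ rotGroup D φ
  -- the rotations in the Sylow subgroup form a cyclic group
  obtain ⟨σ, hσP, hmax⟩ : ∃ σ ∈ P, ∀ x ∈ P, orderOf x ≤ orderOf σ := by
    obtain ⟨x, hx⟩ := Finite.exists_max (fun x : P => orderOf (x : G))
    exact ⟨x, x.2, fun y hy => hx ⟨y, hy⟩⟩
  have htP : t ∈ P := ⟨htS, rot_t D φ⟩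
  obtain ⟨k, hk⟩ : ∃ k, orderOf σ = 2 ^ k := by
    obtain ⟨j, hj⟩ := S.2 ⟨σ, hσP.1⟩
    obtain ⟨a, -, ha⟩ := (Nat.dvd_prime_pow Nat.prime_two).1
      (orderOf_dvd_of_pow_eq_one (show σ ^ 2 ^ j = 1 from congrArg Subtype.val hj))
    exact ⟨a, ha⟩
  have hk1 : 1 ≤ k := by
    have := hmax t htP
    rw [D.ord, hk] at this
    rcases Nat.eq_zero_or_pos k with h | h
    · rw [h] at this; norm_num at this
    · exact h
  have hσt : σ ^ 2 ^ (k - 1) = t := by
    refine huniq _ ((rotGroup D φ).pow_mem hσP.2 _) ?_ ?_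
    · rw [← pow_add, ← two_mul, ← pow_succ', Nat.sub_add_cancel hk1, ← hk, pow_orderOf_eq_one]
    · intro e
      have := Nat.le_of_dvd (by positivity) (hk ▸ orderOf_dvd_of_pow_eq_one e)
      have : 2 ^ (k - 1) < 2 ^ k := Nat.pow_lt_pow_right one_lt_two (by omega)
      omega
  have hgen : ∀ j, ∀ x ∈ P, x ^ 2 ^ j = 1 → x ∈ Subgroup.zpowers σ := by
    intro j
    induction j with
    | zero =>
      intro x _ hx
      rw [pow_zero, pow_one] at hx
      rw [hx]; exact one_mem _
    | succ j ih =>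
      intro x hx hxj
      obtain ⟨i, hi⟩ := Subgroup.mem_zpowers_iff.1 (ih (x * x) (mul_mem hx hx) (by
        rw [← pow_two, ← pow_mul, ← pow_succ', hxj]))
      rcases Int.even_or_odd i with ⟨l, rfl⟩ | ⟨l, rfl⟩
      · -- `x σ ^ (-l)` squares to one
        have hc : Commute x (σ ^ (-l)) := rot_comm D φ hx.2 ((rotGroup D φ).zpow_mem hσP.2 _)
        have h1 : x * σ ^ (-l) * (x * σ ^ (-l)) = 1 := by
          rw [hc.symm.mul_mul_mul_comm, ← hi, ← zpow_add, ← zpow_add]
          simp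
        by_cases h2 : x * σ ^ (-l) = 1
        · exact ⟨l, by simp only; rw [eq_inv_of_mul_eq_one_left h2, zpow_neg, inv_inv]⟩
        · have h3 := huniq _ (rot_mul D φ hx.2 ((rotGroup D φ).zpow_mem hσP.2 _)) h1 h2
          refine ⟨(2 ^ (k - 1) : ℕ) + l, ?_⟩
          simp only
          rw [zpow_add, zpow_natCast, hσt, ← h3, zpow_neg, inv_mul_cancel_right]
      · exfalso
        -- then the order of `x` is too large
        have hx0 : x * x = σ ^ (2 * l + 1) := hi.symm
        have h1 : orderOf (x * x) = orderOf σ := by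
          rw [hx0]
          refine Nat.dvd_antisymm (orderOf_dvd_of_pow_eq_one ?_) ?_
          · rw [← zpow_natCast, ← zpow_mul, mul_comm, zpow_mul, zpow_natCast, pow_orderOf_eq_one, one_zpow]
          · have h2 : (orderOf σ : ℤ) ∣ (2 * l + 1) * orderOf (σ ^ (2 * l + 1)) := by
              rw [orderOf_dvd_iff_zpow_eq_one, zpow_mul, zpow_natCast, pow_orderOf_eq_one]
            have h3 : IsCoprime (orderOf σ : ℤ) (2 * l + 1) := by
              rw [hk, Nat.cast_pow]
              exact IsCoprime.pow_left ⟨-l, 1, by push_cast; ring⟩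
            exact Int.natCast_dvd_natCast.1 (h3.dvd_of_dvd_mul_left h2)
        have hxo : orderOf x = 2 * orderOf (x * x) := by
          obtain ⟨b, -, hb⟩ := (Nat.dvd_prime_pow Nat.prime_two).1 (orderOf_dvd_of_pow_eq_one hxj)
          rcases Nat.eq_zero_or_pos b with rfl | hb0
          · rw [pow_zero, orderOf_eq_one_iff] at hb
            rw [hb, one_mul, orderOf_one] at h1
            rw [hk] at h1
            have : 2 ≤ 2 ^ k := Nat.le_self_pow (by omega) 2
            omega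
          · rw [← pow_two, orderOf_pow' x (by norm_num), hb,
              Nat.gcd_eq_right (dvd_pow_self 2 (by omega)), Nat.mul_div_cancel' (dvd_pow_self 2 (by omega))]
        have := hmax x hx
        have := orderOf_pos σ
        omega
  have hPeq : P = Subgroup.zpowers σ := by
    refine le_antisymm (fun x hx => ?_) (Subgroup.zpowers_le.2 hσP)
    obtain ⟨j, hj⟩ := S.2 ⟨x, hx.1⟩
    exact hgen j x hx (congrArg Subtype.val hj)
  have hsinv : s⁻¹ = s := inv_eq_of_mul_eq_one_right hs2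
  have hdecomp : ∀ x ∈ (S : Subgroup G), x ∈ Subgroup.zpowers σ ∨ x * s ∈ Subgroup.zpowers σ := fun x hx => by
    rw [← hPeq]
    by_cases hx' : IsRot π φ x
    · exact Or.inl ⟨hx, hx'⟩
    · exact Or.inr ⟨mul_mem hx hsS, rot_of_out D φ (hSC x hx) hx' (hSC s hsS) hs'⟩
  have hnot : s ∉ Subgroup.zpowers σ := fun h => hs' (show IsRot π φ s from (hPeq.ge h).2)
  rcases conj_out D φ (hSC s hsS) hs' hσP.2 with hrel | hrel
  · -- dihedral Sylow subgroup
    have hcard : Nat.card (S : Subgroup G) = 2 * 2 ^ k := by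
      have hidx : (Subgroup.zpowers σ).relIndex (S : Subgroup G) = 2 := by
        refine Subgroup.index_eq_two_iff.2 ⟨⟨s, hsS⟩, fun b => ?_⟩
        simp only [Subgroup.mem_subgroupOf, Subgroup.coe_mul]
        rcases hdecomp b b.2 with h | h
        · refine Or.inr ⟨h, fun h' => hnot ?_⟩
          have := mul_mem (inv_mem h) h'
          rwa [inv_mul_cancel_left] at this
        · refine Or.inl ⟨h, fun h' => hnot ?_⟩
          have := mul_mem (inv_mem h') h
          rwa [inv_mul_cancel_left] at this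
      have hle : Subgroup.zpowers σ ≤ (S : Subgroup G) := Subgroup.zpowers_le.2 hσP.1
      have h := Subgroup.card_mul_index ((Subgroup.zpowers σ).subgroupOf (S : Subgroup G))
      rw [Nat.card_congr (Subgroup.subgroupOfEquivOfLe hle).toEquiv, ← Subgroup.relIndex, hidx,
        Nat.card_zpowers, hk] at h
      rw [← h, mul_comm]
    refine conclusion_of_bsw D φ S htS hSC (N := 2 ^ k) ?_ ?_ (Or.inr ⟨huniq, ?_⟩)
    · exact le_trans (by norm_num) (Nat.pow_le_pow_right (by norm_num : 0 < 2) hk1)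
    · haveI : NeZero (2 ^ k) := ⟨by positivity⟩
      refine CfsgLib.TwoGroups.nonempty_mulEquiv_dihedralGroup (a := (⟨σ, hσP.1⟩ : (S : Subgroup G)))
        (b := ⟨s, hsS⟩) ?_ (Subtype.ext hs2) ?_ (Subtype.ext ?_) hcard
      · rw [← Subgroup.orderOf_coe]; exact hk
      · rintro ⟨i, hi⟩
        exact hnot ⟨i, congrArg Subtype.val hi⟩
      · show s * σ * s⁻¹ = σ⁻¹
        exact hrel
    · rw [show (S : Subgroup G) ⊓ rotGroup D φ = Subgroup.zpowers σ from hPeq]; infer_instance
  -- otherwise there is a subgroup of index two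
  exfalso
  have htt := D.t_sq
  have hσt' : Commute σ t := hσP.2.1
  have hconj : ∀ j : ℤ, s * σ ^ j * s = σ ^ (-j) * t ^ j := fun j => by
    have h1 : s * σ ^ j * s = (s * σ * s) ^ j := by
      conv_rhs => rw [show s * σ * s = MulAut.conj s σ by rw [MulAut.conj_apply, hsinv], ← map_zpow]
      rw [MulAut.conj_apply, hsinv]
    have h2 : s * σ * s = σ⁻¹ * t := by rw [← hrel, hsinv]
    rw [h1, h2, hσt'.inv_left.mul_zpow, inv_zpow, zpow_neg]
  have hk2 : 2 ≤ k := by
    by_contra hk'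
    have hk' : k = 1 := by omega
    rw [hk', Nat.sub_self, pow_zero, pow_one] at hσt
    rw [hσt, inv_eq_of_mul_eq_one_right htt, htt, conj_eq_one_iff] at hrel
    exact D.t_ne hrel
  have ht_even : ∀ i : ℤ, t ^ (2 * i) = 1 := fun i => by rw [zpow_mul, zpow_two, htt, one_zpow]
  let Q : Subgroup G :=
    { carrier := {x | ∃ i : ℤ, x = σ ^ (2 * i) ∨ x = σ ^ (2 * i) * s}
      one_mem' := ⟨0, Or.inl (by simp)⟩
      mul_mem' := by
        rintro a b ⟨i, rfl | rfl⟩ ⟨j, rfl | rfl⟩
        · exact ⟨i + j, Or.inl (by rw [← zpow_add]; ring_nf)⟩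
        · exact ⟨i + j, Or.inr (by rw [← mul_assoc, ← zpow_add]; ring_nf)⟩
        · refine ⟨i - j, Or.inr ?_⟩
          have h1 := hconj (2 * j)
          rw [ht_even, mul_one] at h1
          calc σ ^ (2 * i) * s * σ ^ (2 * j) = σ ^ (2 * i) * (s * σ ^ (2 * j) * s) * s := by
                simp only [mul_assoc, hs2, mul_one]
            _ = σ ^ (2 * (i - j)) * s := by rw [h1, ← zpow_add]; ring_nf
        · refine ⟨i - j, Or.inl ?_⟩
          have h1 := hconj (2 * j)
          rw [ht_even, mul_one] at h1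
          calc σ ^ (2 * i) * s * (σ ^ (2 * j) * s) = σ ^ (2 * i) * (s * σ ^ (2 * j) * s) := by
                simp only [mul_assoc]
            _ = σ ^ (2 * (i - j)) := by rw [h1, ← zpow_add]; ring_nf
      inv_mem' := by
        rintro a ⟨i, rfl | rfl⟩
        · exact ⟨-i, Or.inl (by rw [← zpow_neg]; ring_nf)⟩
        · refine ⟨i, Or.inr ?_⟩
          have h1 := hconj (2 * i)
          rw [ht_even, mul_one] at h1
          refine inv_eq_of_mul_eq_one_right ?_
          calc σ ^ (2 * i) * s * (σ ^ (2 * i) * s) = σ ^ (2 * i) * (s * σ ^ (2 * i) * s) := by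
                simp only [mul_assoc]
            _ = 1 := by rw [h1, ← zpow_add, add_neg_cancel, zpow_zero] }
  have hQ : ∀ {x : G}, x ∈ Q ↔ ∃ i : ℤ, x = σ ^ (2 * i) ∨ x = σ ^ (2 * i) * s := Iff.rfl
  have hpar : ∀ j : ℤ, σ ^ j ∈ Q ↔ Even j := by
    intro j
    refine ⟨fun hj => ?_, fun ⟨l, hl⟩ => hQ.2 ⟨l, Or.inl (by rw [hl, two_mul])⟩⟩
    obtain ⟨i, h | h⟩ := hQ.1 hj
    · have h1 : (orderOf σ : ℤ) ∣ j - 2 * i := by
        rw [orderOf_dvd_iff_zpow_eq_one, zpow_sub, h, mul_inv_cancel]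
      rw [hk, Nat.cast_pow] at h1
      have h2 : (2 : ℤ) ∣ j - 2 * i := (dvd_pow_self (2 : ℤ) (show k ≠ 0 by omega)).trans (by exact_mod_cast h1)
      rw [even_iff_two_dvd]
      omega
    · exfalso
      refine hnot ⟨-(2 * i) + j, ?_⟩
      simp only
      rw [zpow_add, h, zpow_neg, inv_mul_cancel_left]
  have hpar' : ∀ j : ℤ, σ ^ j * s ∈ Q ↔ Even j := by
    intro j
    have hsQ : s ∈ Q := hQ.2 ⟨0, Or.inr (by simp)⟩
    exact ⟨fun h => (hpar j).1 (by simpa [mul_assoc, hs2] using mul_mem h hsQ),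
      fun h => mul_mem ((hpar j).2 h) hsQ⟩
  have hstd : ∀ x ∈ (S : Subgroup G), ∃ j : ℤ, x = σ ^ j ∨ x = σ ^ j * s := fun x hx => by
    rcases hdecomp x hx with ⟨j, hj⟩ | ⟨j, hj⟩
    · exact ⟨j, Or.inl hj.symm⟩
    · exact ⟨j, Or.inr (by rw [show σ ^ j = x * s from hj, mul_assoc, hs2, mul_one])⟩
  obtain ⟨e, he⟩ : Even (2 ^ (k - 1)) := even_iff_two_dvd.2 (dvd_pow_self 2 (by omega))
  have htQ : t ∈ Q := hQ.2 ⟨e, Or.inl (by rw [← hσt, he, ← zpow_natCast]; push_cast; ring_nf)⟩
  have hQS : Q ≤ (S : Subgroup G) := fun x hx => by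
    obtain ⟨i, h | h⟩ := hQ.1 hx <;> rw [h]
    exacts [Subgroup.zpow_mem _ hσP.1 _, mul_mem (Subgroup.zpow_mem _ hσP.1 _) hsS]
  have hidx : Q.relIndex (S : Subgroup G) = 2 := by
    refine Subgroup.index_eq_two_iff.2 ⟨⟨σ, hσP.1⟩, fun b => ?_⟩
    simp only [Subgroup.mem_subgroupOf, Subgroup.coe_mul]
    obtain ⟨j, hj | hj⟩ := hstd b b.2 <;> rw [hj]
    · rw [show σ ^ j * σ = σ ^ (j + 1) by rw [zpow_add, zpow_one], hpar, hpar]
      rcases Int.even_or_odd j with h | h
      · exact Or.inr ⟨h, by simpa [parity_simps] using h⟩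
      · exact Or.inl ⟨h.add_one, Int.not_even_iff_odd.2 h⟩
    · have h1 : σ ^ j * s * σ = σ ^ (j - 1 + 2 ^ (k - 1)) * s := by
        have h2 := hconj 1
        rw [zpow_one, zpow_one, zpow_neg_one] at h2
        calc σ ^ j * s * σ = σ ^ j * (s * σ * s) * s := by simp only [mul_assoc, hs2, mul_one]
          _ = σ ^ (j - 1 + 2 ^ (k - 1)) * s := by
            rw [h2, ← hσt, ← zpow_natCast, ← zpow_neg_one, ← zpow_add, ← zpow_add]
            push_cast
            ring_nf
      rw [h1, hpar', hpar']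
      have he' : Even ((2 : ℤ) ^ (k - 1)) := even_iff_two_dvd.2 (dvd_pow_self 2 (by omega))
      rcases Int.even_or_odd j with h | h
      · exact Or.inr ⟨h, Int.not_even_iff_odd.2 ((h.sub_odd odd_one).add_even he')⟩
      · exact Or.inl ⟨(h.sub_odd odd_one).add he', Int.not_even_iff_odd.2 h⟩
  set u := σ * s with hu
  have hu2 : u * u = t := by
    have h2 := hconj 1
    rw [zpow_one, zpow_one, zpow_neg_one] at h2
    rw [hu, mul_assoc, ← mul_assoc s, h2, ← mul_assoc, mul_inv_cancel, one_mul]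
  have huC : u * t = t * u := (hσt'.mul_left (show Commute s t from hSC s hsS)).eq
  have hurot : ¬ IsRot π φ u := fun h => hs' (by
    have := rot_mul D φ (rot_inv D φ hσP.2) h
    rwa [hu, inv_mul_cancel_left] at this)
  obtain ⟨M, hM, hMi, -⟩ := CfsgLib.PSLOrderSpectrum.transfer_four S Q hidx (u := u)
    (by rw [show (4 : ℕ) = 2 * 2 from rfl, pow_mul, pow_two u, hu2, pow_two, htt])
    (fun g hgQ => by
      have hq2 : (g * u * g⁻¹) * (g * u * g⁻¹) = g * t * g⁻¹ := by rw [conj_mul, hu2]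
      have hq1 : g * t * g⁻¹ ≠ 1 := fun e => D.t_ne (conj_eq_one_iff.1 e)
      obtain ⟨i, h | h⟩ := hQ.1 hgQ
      · have hrot : IsRot π φ (g * u * g⁻¹) := by rw [h]; exact (rotGroup D φ).zpow_mem hσP.2 _
        have hsq : IsRot π φ (g * t * g⁻¹) := hq2 ▸ rot_mul D φ hrot hrot
        have hgt := huniq _ hsq (by rw [conj_mul, htt, mul_one, mul_inv_cancel]) hq1
        have hgC : g⁻¹ * t = t * g⁻¹ := ((show Commute g t from mul_inv_eq_iff_eq_mul.1 hgt).inv_left).eq
        refine hurot ?_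
        have := rot_conj D φ hgC hrot
        rwa [show g⁻¹ * (g * u * g⁻¹) * g⁻¹⁻¹ = u by group] at this
      · refine hq1 ?_
        rw [← hq2, h]
        have h3 := hconj (2 * i)
        rw [ht_even, mul_one] at h3
        calc σ ^ (2 * i) * s * (σ ^ (2 * i) * s) = σ ^ (2 * i) * (s * σ ^ (2 * i) * s) := by
              simp only [mul_assoc]
          _ = 1 := by rw [h3, ← zpow_add, add_neg_cancel, zpow_zero])
    (fun g hg => by
      rw [hu2] at hg ⊢
      have hsq : (g * t * g⁻¹) * (g * t * g⁻¹) = 1 := by rw [conj_mul, htt, mul_one, mul_inv_cancel]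
      have hne : g * t * g⁻¹ ≠ 1 := fun e => D.t_ne (conj_eq_one_iff.1 e)
      obtain ⟨j, hj | hj⟩ := hstd _ hg
      · rw [huniq _ (by rw [hj]; exact (rotGroup D φ).zpow_mem hσP.2 _) hsq hne]
        exact htQ
      · rw [hj, hpar']
        rw [hj] at hsq
        have h3 : t ^ j = 1 := by
          rw [← hsq]
          calc t ^ j = σ ^ j * (σ ^ (-j) * t ^ j) := by rw [← mul_assoc, ← zpow_add, add_neg_cancel, zpow_zero, one_mul]
            _ = σ ^ j * s * (σ ^ j * s) := by rw [← hconj]; simp only [mul_assoc]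
        have h4 : (orderOf t : ℤ) ∣ j := orderOf_dvd_iff_zpow_eq_one.2 h3
        rw [D.ord] at h4
        exact even_iff_two_dvd.2 (by exact_mod_cast h4))
  haveI := hM
  exact false_of_index_two hnc hMi

end CfsgLib.Geo.SL3.Engine
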