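import Cfsg.Agent.Lib.Geo.SL3.Engine.Basic

/-!
# Change of basis and rank one tools
-/

set_option autoImplicit false

namespace CfsgLib.Geo.SL3.Engine

open Matrix

variable {k : Type*} [Field k] {L : Subgroup (GL (Fin 3) k)}

/-- The hypotheses survive a change of basis. -/
theorem Hyp.exists_conj (h : Hyp L) (B : GL (Fin 3) k) :
    ∃ (L' : Subgroup (GL (Fin 3) k)) (e : L ≃* L'), Hyp L' ∧
      ∀ g : L, mat (e g) = ((B⁻¹ : GL (Fin 3) k) : M3 k) * mat g * (B : M3 k) := by
  let c : GL (Fin 3) k ≃* GL (Fin 3) k := MulAut.conj B⁻¹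
  let L' := L.map c.toMonoidHom
  let e : L ≃* L' := L.equivMapOfInjective c.toMonoidHom c.injective
  have he : ∀ g : L, mat (e g) = ((B⁻¹ : GL (Fin 3) k) : M3 k) * mat g * (B : M3 k) := fun g => by
    show (((c (g : GL (Fin 3) k)) : GL (Fin 3) k) : M3 k) = _
    simp [c, mat_apply, mul_assoc]
  have hsq : ∀ X : M3 k, (((B⁻¹ : GL (Fin 3) k) : M3 k) * X * (B : M3 k) - 1) =
      ((B⁻¹ : GL (Fin 3) k) : M3 k) * (X - 1) * (B : M3 k) := fun X => by
    rw [mul_sub, sub_mul, mul_one, Units.inv_mul]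
  let ec : L ⧸ Subgroup.center L ≃* L' ⧸ Subgroup.center L' :=
    QuotientGroup.congr (Subgroup.center L) (Subgroup.center L') e (by
      refine le_antisymm ?_ ?_
      · rintro _ ⟨z, hz, rfl⟩
        refine Subgroup.mem_center_iff.2 fun g => ?_
        obtain ⟨g', rfl⟩ := e.surjective g
        show e g' * e z = e z * e g'
        rw [← map_mul, ← map_mul, Subgroup.mem_center_iff.1 hz g']
      · intro z hz
        obtain ⟨z', rfl⟩ := e.surjective z
        refine ⟨z', Subgroup.mem_center_iff.2 fun g => e.injective ?_, rfl⟩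
        rw [map_mul, map_mul, Subgroup.mem_center_iff.1 hz (e g)])
  refine ⟨L', e, ⟨?_, fun g => ?_, fun W hW => ?_, fun g hg => ?_, ?_, ?_, ?_⟩, he⟩
  · haveI := h.finite
    exact Finite.of_surjective e e.surjective
  · obtain ⟨g', rfl⟩ := e.surjective g
    rw [← mat_apply, he, Matrix.det_mul, Matrix.det_mul, h.det_mat, mul_one, ← Matrix.det_mul, Units.inv_mul,
      Matrix.det_one]
  · have h1 := h.irred (W.map (Matrix.toLin' (B : M3 k))) fun g v hv => by
      obtain ⟨w, hw, rfl⟩ := hv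
      refine ⟨mat (e g) *ᵥ w, hW (e g) w hw, ?_⟩
      rw [he, Matrix.toLin'_apply, Matrix.toLin'_apply, Matrix.mulVec_mulVec, Matrix.mulVec_mulVec,
        ← mul_assoc, ← mul_assoc, Units.mul_inv, one_mul]
      rfl
    have hinj : Function.Injective (Matrix.toLin' (B : M3 k)) := fun a b hab => by
      have := congrArg (((B⁻¹ : GL (Fin 3) k) : M3 k) *ᵥ ·) hab
      simpa [Matrix.toLin'_apply, Matrix.mulVec_mulVec] using this
    rcases h1 with h0 | h0
    · exact Or.inl ((Submodule.eq_bot_iff _).2 fun w hw => hinj (by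
        rw [map_zero]; exact (Submodule.eq_bot_iff _).1 h0 _ (Submodule.mem_map_of_mem hw)))
    · refine Or.inr (eq_top_iff.2 fun w _ => ?_)
      obtain ⟨w', hw', e'⟩ := (h0 ▸ Submodule.mem_top :
        Matrix.toLin' (B : M3 k) w ∈ W.map (Matrix.toLin' (B : M3 k)))
      exact hinj e' ▸ hw'
  · obtain ⟨g', rfl⟩ := e.surjective g
    rw [← mat_apply, he, hsq] at hg
    have h0 : (mat g' - 1) ^ 2 = 0 := by
      set X := mat g' - 1
      calc X ^ 2 = (B : M3 k) * (((B⁻¹ : GL (Fin 3) k) : M3 k) * X * (B : M3 k)) ^ 2 *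
            ((B⁻¹ : GL (Fin 3) k) : M3 k) := by
            simp only [pow_two, mul_assoc, Units.mul_inv_cancel_left, Units.mul_inv, mul_one]
        _ = 0 := by rw [hg, mul_zero, zero_mul]
    rw [h.noTransvection g' h0, map_one]
  · haveI := h.simple
    haveI : Nontrivial (L' ⧸ Subgroup.center L') := ec.symm.toEquiv.nontrivial
    exact IsSimpleGroup.isSimpleGroup_of_surjective ec.toMonoidHom ec.surjective
  · intro hc
    refine h.not_comm fun a b => ec.injective ?_
    rw [map_mul, map_mul, hc]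
  · rw [commutator_def, ← Subgroup.map_top_of_surjective e.toMonoidHom e.surjective, ← Subgroup.map_commutator,
      ← commutator_def, h.perfect]

/-- A matrix of determinant one differing from one by a rank one matrix is unipotent of degree two. -/
theorem sq_eq_zero_of_rank_one {g b : M3 k} (hg : g.det = 1) {v ψ : Fin 3 → k}
    (hd : (g - 1) * b = Matrix.vecMulVec v ψ) (hb : IsUnit b) : (g - 1) ^ 2 = 0 := by
  obtain ⟨bu, rfl⟩ := hb
  have h1 : g - 1 = Matrix.vecMulVec v (ψ ᵥ* ((bu⁻¹ : (M3 k)ˣ) : M3 k)) := by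
    rw [← Matrix.vecMulVec_mul, ← hd, Units.mul_inv_cancel_right]
  set θ := ψ ᵥ* ((bu⁻¹ : (M3 k)ˣ) : M3 k)
  have h2 : θ ⬝ᵥ v = 0 := by
    have h3 : g = 1 + Matrix.vecMulVec v θ := by rw [← h1, add_sub_cancel]
    rw [h3, Matrix.vecMulVec_eq Unit, Matrix.det_one_add_replicateCol_mul_replicateRow] at hg
    linear_combination hg
  rw [h1, pow_two, Matrix.vecMulVec_mul_vecMulVec, h2, zero_smul, Matrix.vecMulVec_zero]

end CfsgLib.Geo.SL3.Engine
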