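import Cfsg.Agent.Lib.Geo.SL3.Engine.Blocks
import Cfsg.Agent.Lib.Geo.SL3.Engine.Transport
import Cfsg.Agent.S0200

/-!
# The homologies with the centre and axis of an involution

An element acting as a scalar on the axis of an involution `t` and fixing its centre lies in `⟨t⟩` up to
scalars.
-/

set_option autoImplicit false
set_option maxHeartbeats 1600000

namespace CfsgLib.Geo.SL3.Engine

open Matrix CfsgLib.Classical.Dickson
open scoped MatrixGroups

variable {k : Type*} [Field k] [IsAlgClosed k] {L : Subgroup (GL (Fin 3) k)}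
variable (p : ℕ) [Fact p.Prime] [CharP k p]

/-- Two elements whose matrix commutator has rank one commute. -/
theorem commute_of_rank_one (h : Hyp L) {g g' : L} {v ψ : Fin 3 → k}
    (hd : mat g * mat g' - mat g' * mat g = Matrix.vecMulVec v ψ) : Commute g g' := by
  have e1 : g * g' * g⁻¹ * g'⁻¹ = 1 := by
    refine h.noTransvection _ ?_
    refine sq_eq_zero_of_rank_one (b := mat (g' * g)) (v := v) (ψ := ψ) (h.det _) ?_ ?_
    · rw [← mat_apply, sub_mul, one_mul, ← map_mul]
      rw [show g * g' * g⁻¹ * g'⁻¹ * (g' * g) = g * g' by group, map_mul, map_mul, hd]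
    · exact ⟨⟨mat (g' * g), mat (g' * g)⁻¹, by rw [← map_mul, mul_inv_cancel, map_one],
        by rw [← map_mul, inv_mul_cancel, map_one]⟩, rfl⟩
  show g * g' = g' * g
  calc g * g' = g * g' * g⁻¹ * g'⁻¹ * (g' * g) := by group
    _ = g' * g := by rw [e1, one_mul]

omit [IsAlgClosed k] in
theorem two_mul_vecMulVec (c φ c' φ' : Fin 3 → k) :
    Matrix.vecMulVec c φ * Matrix.vecMulVec c' φ' - Matrix.vecMulVec c' φ' * Matrix.vecMulVec c φ =
      (φ ⬝ᵥ c') • Matrix.vecMulVec c φ' - (φ' ⬝ᵥ c) • Matrix.vecMulVec c' φ := by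
  rw [Matrix.vecMulVec_mul_vecMulVec, Matrix.vecMulVec_mul_vecMulVec, Matrix.vecMulVec_smul,
    Matrix.vecMulVec_smul]

omit [IsAlgClosed k] in
theorem homology_comm (lam α : k) (P P' : M3 k) :
    (lam • 1 + α • P) * (lam • 1 + α • P') - (lam • 1 + α • P') * (lam • 1 + α • P) =
      (α * α) • (P * P' - P' * P) := by
  simp only [add_mul, mul_add, smul_mul_assoc, mul_smul_comm, smul_smul, one_mul, mul_one, smul_sub,
    smul_add]
  rw [mul_comm lam α]
  abel

theorem alt_four_order : ∀ x : alternatingGroup (Fin 4), x ^ 2 = 1 ∨ x ^ 3 = 1 := by decide +kernel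
theorem alt_five_order : ∀ x : alternatingGroup (Fin 5), x ^ 2 = 1 ∨ x ^ 3 = 1 ∨ x ^ 5 = 1 := by decide +kernel
theorem perm_four_order : ∀ x : Equiv.Perm (Fin 4), x ^ 3 = 1 ∨ x ^ 4 = 1 := by decide +kernel
theorem perm_four_sq : ∀ x y : Equiv.Perm (Fin 4), x ^ 4 = 1 → y ^ 4 = 1 → x ^ 2 * y ^ 2 = y ^ 2 * x ^ 2 := by
  decide +kernel

/-- In a finite subgroup of `PGL(2, k)` of order prime to `p` the involutory powers of two elements of the
same even order at least four commute. -/
theorem commute_half_pow (K : Subgroup (Mob k)) [Finite K] (hK : ¬ p ∣ Nat.card K) (x y : K) (m : ℕ)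
    (hm : 2 ≤ m) (hx : orderOf x = 2 * m) (hy : orderOf y = 2 * m) : Commute (x ^ m) (y ^ m) := by
  have big : ∀ {H : Type} [Group H] (φ : K ≃* H), (∀ z : H, ∃ d, d < 2 * m ∧ 0 < d ∧ z ^ d = 1) → False := by
    intro H _ φ hall
    obtain ⟨d, hd, hd0, hd1⟩ := hall (φ x)
    have h1 : orderOf (φ x) = 2 * m := by rw [φ.orderOf_eq, hx]
    have := Nat.le_of_dvd hd0 (h1 ▸ orderOf_dvd_of_pow_eq_one hd1)
    omega
  rcases structure_cases (G := K) (p := p) with ⟨hc, -⟩ | ⟨hd, -⟩ | ⟨n, -, -, -, ⟨φ⟩⟩ | ⟨⟨φ⟩⟩ | ⟨⟨φ⟩⟩ | ⟨⟨φ⟩⟩ | hs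
  · obtain ⟨w, hw⟩ := hc.exists_generator
    obtain ⟨i, rfl⟩ := Subgroup.mem_zpowers_iff.1 (hw x)
    obtain ⟨j, rfl⟩ := Subgroup.mem_zpowers_iff.1 (hw y)
    exact ((Commute.refl w).zpow_zpow i j).pow_pow m m
  · exact absurd hd hK
  · refine Commute.pow_pow ?_ m m
    have hr : ∀ z : K, orderOf z = 2 * m → ∃ i, φ z = DihedralGroup.r i := fun z hz => by
      rcases hφ : φ z with i | i
      · exact ⟨i, rfl⟩
      · have h1 : orderOf (φ z) = 2 := by rw [hφ, DihedralGroup.orderOf_sr]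
        rw [φ.orderOf_eq, hz] at h1
        omega
    obtain ⟨i, hi⟩ := hr x hx
    obtain ⟨j, hj⟩ := hr y hy
    refine φ.injective ?_
    rw [map_mul, map_mul, hi, hj, DihedralGroup.r_mul_r, DihedralGroup.r_mul_r, add_comm]
  · refine (big φ fun z => ?_).elim
    rcases alt_four_order z with h | h
    exacts [⟨2, by omega, by omega, h⟩, ⟨3, by omega, by omega, h⟩]
  · have hm2 : m = 2 := by
      rcases perm_four_order (φ x) with h | h <;>
        have h1 := orderOf_dvd_of_pow_eq_one h <;> rw [φ.orderOf_eq, hx] at h1 <;>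
        have := Nat.le_of_dvd (by norm_num) h1 <;> omega
    subst hm2
    refine φ.injective ?_
    have h4 : ∀ z : K, orderOf z = 2 * 2 → φ z ^ 4 = 1 := fun z hz => by
      have e : z ^ 4 = 1 := by simpa [hz] using pow_orderOf_eq_one z
      rw [← map_pow, e, map_one]
    rw [map_mul, map_mul, map_pow, map_pow, perm_four_sq _ _ (h4 x hx) (h4 y hy)]
  · obtain ⟨d, hd1, hd⟩ : ∃ d, (φ x) ^ d = 1 ∧ (d = 2 ∨ d = 3 ∨ d = 5) := by
      rcases alt_five_order (φ x) with h | h | h
      exacts [⟨2, h, by omega⟩, ⟨3, h, by omega⟩, ⟨5, h, by omega⟩]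
    have h1 := orderOf_dvd_of_pow_eq_one hd1
    rw [φ.orderOf_eq, hx] at h1
    have := Nat.le_of_dvd (by omega) h1
    obtain ⟨r, hr⟩ := h1
    obtain rfl : m = 2 := by omega
    omega
  · exfalso
    obtain ⟨-, -, a, e, -, h3, -, -, -, hcard, -⟩ := hs
    refine hK ?_
    rw [hcard]
    rcases a with _ | a
    · simp at h3
    · exact (Dvd.dvd.mul_right (dvd_pow_self p (Nat.succ_ne_zero a)) e).mul_left _

include p in
/-- Two homologies in general position. -/
theorem pow_four_generic (h : Hyp L) (h2 : (2 : k) ≠ 0) {g g' t t' : L} {lam mu a b : k} (m : ℕ) (hm : 2 ≤ m)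
    (hlam : lam ≠ 0) (hκ : orderOf (mu / lam) = 2 * m) (ha : a ≠ 0)
    (hg : mat g = lam • 1 + (mu - lam) • !![0, 0, 0; 0, 1, a; 0, 0, 0])
    (hg' : mat g' = lam • 1 + (mu - lam) • !![0, 0, 0; 0, 0, 0; 0, b, 1])
    (ht : mat t = (2 : k) • !![0, 0, 0; 0, 1, a; 0, 0, 0] - 1)
    (ht' : mat t' = (2 : k) • !![0, 0, 0; 0, 0, 0; 0, b, 1] - 1) : (t * t') ^ 4 = 1 := by
  haveI := h.finite
  have hb : ∀ z : L, ∀ P : M3 k, ∀ c d : k, mat z = c • 1 + d • P → IsBlock P → z ∈ blockGroup h :=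
    fun z P c d hz hP => by
      obtain ⟨p1, p2, p3, p4⟩ := hP
      refine mem_blockGroup.2 ?_
      rw [hz]
      simp [IsBlock, Matrix.add_apply, Matrix.smul_apply, *]
  set P : M3 k := !![0, 0, 0; 0, 1, a; 0, 0, 0] with hP
  set P' : M3 k := !![0, 0, 0; 0, 0, 0; 0, b, 1] with hP'
  have hPb : IsBlock P := by simp [hP, IsBlock]
  have hPb' : IsBlock P' := by simp [hP', IsBlock]
  have hPP : P * P = P := by
    ext i j; fin_cases i <;> fin_cases j <;> simp [hP, Matrix.mul_apply, Fin.sum_univ_three]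
  have hPP' : P' * P' = P' := by
    ext i j; fin_cases i <;> fin_cases j <;> simp [hP', Matrix.mul_apply, Fin.sum_univ_three]
  have htneg : ∀ Q : M3 k, (2 : k) • Q - 1 = (-1 : k) • (1 : M3 k) + (2 : k) • Q := fun Q => by
    rw [neg_one_smul]; abel
  set G : blockGroup h := ⟨g, hb g P _ _ hg hPb⟩
  set G' : blockGroup h := ⟨g', hb g' P' _ _ hg' hPb'⟩
  set T : blockGroup h := ⟨t, hb t P _ _ (ht.trans (htneg P)) hPb⟩
  set T' : blockGroup h := ⟨t', hb t' P' _ _ (ht'.trans (htneg P')) hPb'⟩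
  have hpow : ∀ (Q : M3 k), Q * Q = Q → ∀ (z : L), mat z = lam • 1 + (mu - lam) • Q → ∀ n : ℕ,
      mat (z ^ n) = lam ^ n • 1 + (mu ^ n - lam ^ n) • Q := fun Q hQ z hz n => by
    induction n with
    | zero => simp
    | succ n ih =>
      rw [pow_succ, map_mul, ih, hz]
      simp only [add_mul, mul_add, smul_mul_assoc, mul_smul_comm, smul_smul, one_mul, mul_one, hQ, smul_add]
      module
  -- the order on the line and the middle power
  have key : ∀ (Q : M3 k) (hQb : IsBlock Q), Q * Q = Q → (∃ i j : Fin 2, plane Q i j ≠ 0 ∧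
      ((i ≠ j) ∨ plane Q 0 0 ≠ plane Q 1 1)) → ∀ (Z W : blockGroup h),
      mat (Z : L) = lam • 1 + (mu - lam) • Q → mat (W : L) = (2 : k) • Q - 1 →
      orderOf (mobHom h Z) = 2 * m ∧ mobHom h Z ^ m = mobHom h W := by
    intro Q hQb hQ hne Z W hZ hW
    have hm' : ∀ n : ℕ, mobHom h Z ^ n = 1 ↔ (mu / lam) ^ n = 1 := by
      intro n
      rw [← map_pow, mobHom_eq_one_iff, Subgroup.coe_pow, hpow Q hQ _ hZ, div_pow,
        div_eq_one_iff_eq (pow_ne_zero _ hlam)]
      constructor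
      · rintro ⟨c, hc⟩
        obtain ⟨i, j, hij, hsep⟩ := hne
        have e := fun i' j' => congrFun (congrFun hc i') j'
        by_contra hne'
        have hd : mu ^ n - lam ^ n ≠ 0 := sub_ne_zero.2 hne'
        rcases hsep with hij' | hdiag
        · have := e i j
          fin_cases i <;> fin_cases j <;> simp [plane, Matrix.add_apply, Matrix.smul_apply] at this hij hij' <;>
            rcases this with h0 | h0 <;> simp_all
        · have e0 := e 0 0
          have e1 := e 1 1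
          simp [plane, Matrix.add_apply, Matrix.smul_apply] at e0 e1
          have e2 : (mu ^ n - lam ^ n) * Q 1 1 = (mu ^ n - lam ^ n) * Q 2 2 := by
            linear_combination e0 - e1
          exact hdiag (by simpa [plane] using mul_left_cancel₀ hd e2)
      · intro he
        refine ⟨lam ^ n, ?_⟩
        rw [he, sub_self, zero_smul, add_zero]
        ext i' j'
        fin_cases i' <;> fin_cases j' <;> simp [plane, Matrix.smul_apply]
    refine ⟨?_, ?_⟩
    · rw [← hκ, orderOf_eq_orderOf_iff]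
      exact hm'
    · rw [← map_pow, mobHom_apply, mobHom_apply]
      have hkm : mu ^ m = -lam ^ m := by
        have h1 : (mu / lam) ^ m = -1 := by
          have h2m : ((mu / lam) ^ m) ^ 2 = 1 := by
            rw [← pow_mul, mul_comm, ← hκ, pow_orderOf_eq_one]
          rcases sq_eq_one_iff.1 h2m with h0 | h0
          · have := Nat.le_of_dvd (by omega) (hκ ▸ orderOf_dvd_of_pow_eq_one h0)
            omega
          · exact h0
        rw [div_pow, div_eq_iff (pow_ne_zero _ hlam)] at h1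
        rw [h1]; ring
      refine mk_eq_of_smul (Units.mk0 (-(lam ^ m)⁻¹) (neg_ne_zero.2 (inv_ne_zero (pow_ne_zero _ hlam)))) ?_
      rw [planeHom_coe, planeHom_coe, Subgroup.coe_pow, hpow Q hQ _ hZ, hW, hkm]
      ext i' j'
      fin_cases i' <;> fin_cases j' <;>
        simp [plane, Matrix.add_apply, Matrix.sub_apply, Matrix.smul_apply] <;> field_simp <;> ring
  obtain ⟨o1, p1⟩ := key P hPb hPP ⟨0, 1, by simpa [plane, hP] using ha, Or.inl (by decide)⟩ G T hg ht
  obtain ⟨o2, p2⟩ := key P' hPb' hPP' ⟨1, 1, by simp [plane, hP'], Or.inr (by simp [plane, hP'])⟩ G' T' hg' ht'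
  haveI : Finite (mobHom h).range := Finite.of_surjective _ (mobHom h).rangeRestrict_surjective
  have hcomm := commute_half_pow p (mobHom h).range (not_dvd_card_mobHom h p)
    ((mobHom h).rangeRestrict G) ((mobHom h).rangeRestrict G') m hm
    (by rw [← Subgroup.orderOf_coe]; exact o1) (by rw [← Subgroup.orderOf_coe]; exact o2)
  have hcomm' : Commute (mobHom h T) (mobHom h T') := by
    rw [← p1, ← p2]
    exact congrArg Subtype.val hcomm.eq
  have hT : plane (mat (T : L)) = !![1, 2 * a; 0, -1] := by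
    rw [show (T : L) = t from rfl, ht]
    ext i j; fin_cases i <;> fin_cases j <;>
      simp [plane, hP, Matrix.sub_apply, Matrix.smul_apply] <;> ring
  have hT' : plane (mat (T' : L)) = !![-1, 0; 2 * b, 1] := by
    rw [show (T' : L) = t' from rfl, ht']
    ext i j; fin_cases i <;> fin_cases j <;>
      simp [plane, hP', Matrix.sub_apply, Matrix.smul_apply] <;> ring
  have hTT : (T * T') ^ 4 = 1 := by
    refine planeHom_injective h (Units.ext ?_)
    rw [map_pow, map_one, Units.val_pow_eq_pow_val, Units.val_one, map_mul, Units.val_mul, planeHom_coe,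
      planeHom_coe]
    rcases commute_or_anticommute h hcomm' with e | e
    · exfalso
      rw [hT, hT'] at e
      have e01 := congrFun (congrFun e 0) 1
      simp [Matrix.mul_apply, Fin.sum_univ_two] at e01
      refine mul_ne_zero (mul_ne_zero h2 h2) ha ?_
      linear_combination e01
    · set X := plane (mat (T : L))
      set Y := plane (mat (T' : L))
      have hX : X * X = 1 := by
        rw [hT]; ext i j; fin_cases i <;> fin_cases j <;> simp [Matrix.mul_apply, Fin.sum_univ_two]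
      have hY : Y * Y = 1 := by
        rw [hT']; ext i j; fin_cases i <;> fin_cases j <;> simp [Matrix.mul_apply, Fin.sum_univ_two]
      have hsq : X * Y * (X * Y) = -1 := by
        rw [show X * Y * (X * Y) = X * (Y * X) * Y by simp only [mul_assoc],
          show Y * X = -(X * Y) by rw [e, neg_neg], mul_neg, neg_mul, ← mul_assoc X X Y, hX, one_mul, hY]
      rw [show (4 : ℕ) = 2 * 2 from rfl, pow_mul, pow_two (X * Y), hsq, pow_two, neg_mul_neg, one_mul]
  exact congrArg Subtype.val hTT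

include p in
/-- Two homologies with `φ(c') φ'(c) = 1` cannot occur. -/
theorem false_of_tangent (h : Hyp L) {g g' : L} {lam mu a b : k} (hlam : lam ≠ 0) (hmu : mu ≠ 0)
    (hκ : mu ^ 2 ≠ lam ^ 2) (hab : a * b = 1)
    (hg : mat g = lam • 1 + (mu - lam) • !![0, 0, 0; 0, 1, 0; 0, 0, 0])
    (hg' : mat g' = lam • 1 + (mu - lam) • !![0, b, 1; 0, a * b, a; 0, 0, 0]) : False := by
  haveI := h.finite
  have ha : a ≠ 0 := left_ne_zero_of_mul_eq_one hab
  have hb : b ≠ 0 := right_ne_zero_of_mul_eq_one hab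
  set α := mu - lam with hα
  have hα0 : α ≠ 0 := fun e => hκ (by rw [show mu = lam by linear_combination (hα.symm.trans e)])
  set x := -(α * α * b) / mu ^ 2 with hx
  set y := α * α * a / lam ^ 2 with hy
  set z := -(x * α * a) / lam with hz
  let ut : k → k → k → M3 k := fun x y z => !![1, x, z; 0, 1, y; 0, 0, 1]
  obtain ⟨u, hu⟩ : ∃ u, u = g * g' * g⁻¹ * g'⁻¹ := ⟨_, rfl⟩
  have hinv : ∀ w : L, IsUnit (mat w) := fun w => ⟨⟨mat w, mat w⁻¹, by rw [← map_mul, mul_inv_cancel, map_one],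
    by rw [← map_mul, inv_mul_cancel, map_one]⟩, rfl⟩
  have hu' : mat u = ut x y z := by
    refine (hinv (g' * g)).mul_right_cancel ?_
    rw [← map_mul, show u * (g' * g) = g * g' by rw [hu]; group, map_mul, map_mul, hg, hg', hab]
    ext i j
    fin_cases i <;> fin_cases j <;>
      simp [ut, Matrix.mul_apply, Fin.sum_univ_three, Matrix.add_apply, Matrix.smul_apply, hx, hy, hz, hα] <;>
      field_simp <;> ring
  obtain ⟨v, hv⟩ : ∃ v, v = g * u * g⁻¹ := ⟨_, rfl⟩
  have hv' : mat v = ut (x * lam / mu) (y * mu / lam) z := by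
    refine (hinv g).mul_right_cancel ?_
    rw [← map_mul, show v * g = g * u by rw [hv]; group, map_mul, hg, hu']
    ext i j
    fin_cases i <;> fin_cases j <;>
      simp [ut, Matrix.mul_apply, Fin.sum_univ_three, Matrix.add_apply, Matrix.smul_apply, hα] <;>
      field_simp
  set δ := x * (y * mu / lam) - x * lam / mu * y with hδ
  have hδ0 : δ ≠ 0 := by
    have hxy : x * y ≠ 0 := by
      rw [hx, hy]
      refine mul_ne_zero (div_ne_zero (neg_ne_zero.2 ?_) (pow_ne_zero _ hmu))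
        (div_ne_zero ?_ (pow_ne_zero _ hlam)) <;> simp [hα0, ha, hb]
    rw [hδ, show x * (y * mu / lam) - x * lam / mu * y = x * y * ((mu ^ 2 - lam ^ 2) / (lam * mu)) by
      field_simp]
    exact mul_ne_zero hxy (div_ne_zero (sub_ne_zero.2 hκ) (mul_ne_zero hlam hmu))
  obtain ⟨w, hw⟩ : ∃ w, w = u * v * u⁻¹ * v⁻¹ := ⟨_, rfl⟩
  have hw' : mat w = ut 0 0 δ := by
    refine (hinv (v * u)).mul_right_cancel ?_
    rw [← map_mul, show w * (v * u) = u * v by rw [hw]; group, map_mul, map_mul, hu', hv']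
    ext i j
    fin_cases i <;> fin_cases j <;> simp [ut, Matrix.mul_apply, Fin.sum_univ_three, hδ] <;> ring
  have h1 := h.noTransvection w (by
    rw [← mat_apply, hw']
    ext i j
    fin_cases i <;> fin_cases j <;> simp [ut, pow_two, Matrix.mul_apply, Fin.sum_univ_three, Matrix.one_apply])
  rw [h1, map_one] at hw'
  have := congrFun (congrFun hw' 0) 2
  simp [ut] at this
  exact hδ0 this.symm

omit [IsAlgClosed k] in
theorem vecMulVec_ne_one (c φ : Fin 3 → k) : Matrix.vecMulVec c φ ≠ 1 := fun e => by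
  have e00 := congrFun (congrFun e 0) 0
  have e11 := congrFun (congrFun e 1) 1
  have e01 := congrFun (congrFun e 0) 1
  simp [Matrix.vecMulVec_apply] at e00 e11 e01
  rcases e01 with h0 | h0 <;> simp [h0] at e00 e11

omit [IsAlgClosed k] in
/-- Three vectors as the columns of an invertible matrix. -/
theorem exists_basis_change (v : Fin 3 → Fin 3 → k)
    (hv : ∀ x : Fin 3 → k, x 0 • v 0 + x 1 • v 1 + x 2 • v 2 = 0 → x = 0) :
    ∃ B : GL (Fin 3) k, (∀ φ : Fin 3 → k, ∀ j, (φ ᵥ* (B : M3 k)) j = φ ⬝ᵥ v j) ∧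
      ∀ x : Fin 3 → k, ((B⁻¹ : GL (Fin 3) k) : M3 k) *ᵥ (x 0 • v 0 + x 1 • v 1 + x 2 • v 2) = x := by
  let A : M3 k := Matrix.of fun i j => v j i
  have hA : ∀ x, A *ᵥ x = x 0 • v 0 + x 1 • v 1 + x 2 • v 2 := fun x => by
    ext i
    simp [A, Matrix.mulVec, dotProduct, Fin.sum_univ_three, mul_comm]
  have hu : IsUnit A := Matrix.mulVec_injective_iff_isUnit.1 fun x y e => by
    refine sub_eq_zero.1 (hv _ ?_)
    rw [← hA, Matrix.mulVec_sub]
    exact sub_eq_zero.2 e
  refine ⟨hu.unit, fun φ j => ?_, fun x => ?_⟩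
  · simp [A, Matrix.vecMul, dotProduct]
  · rw [← hA, Matrix.mulVec_mulVec, hu.val_inv_mul, Matrix.one_mulVec]

omit [IsAlgClosed k] in
theorem conj_vecMulVec (B : GL (Fin 3) k) (c φ : Fin 3 → k) :
    ((B⁻¹ : GL (Fin 3) k) : M3 k) * Matrix.vecMulVec c φ * (B : M3 k) =
      Matrix.vecMulVec (((B⁻¹ : GL (Fin 3) k) : M3 k) *ᵥ c) (φ ᵥ* (B : M3 k)) := by
  rw [Matrix.mul_vecMulVec, Matrix.vecMulVec_mul]

include p in
/-- The product of two involutions attached to homologies with the same multipliers has order dividing four. -/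
theorem pow_four_of_pair (h : Hyp L) (h2 : (2 : k) ≠ 0) {g g' t t' : L} {c φ c' φ' : Fin 3 → k} {lam mu : k}
    (m : ℕ) (hm : 2 ≤ m) (hlam : lam ≠ 0) (hκ : orderOf (mu / lam) = 2 * m)
    (hc : φ ⬝ᵥ c = 1) (hc' : φ' ⬝ᵥ c' = 1)
    (hg : mat g = lam • 1 + (mu - lam) • Matrix.vecMulVec c φ)
    (hg' : mat g' = lam • 1 + (mu - lam) • Matrix.vecMulVec c' φ')
    (ht : mat t = (2 : k) • Matrix.vecMulVec c φ - 1) (ht' : mat t' = (2 : k) • Matrix.vecMulVec c' φ' - 1) :
    (t * t') ^ 4 = 1 := by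
  have hmu : mu ≠ 0 := fun e => by
    rw [e, zero_div] at hκ
    have h0 : orderOf (0 : k) = 0 := orderOf_zero k
    omega
  have hκ1 : mu ^ 2 ≠ lam ^ 2 := fun e => by
    have h1 : (mu / lam) ^ 2 = 1 := by rw [div_pow, e, div_self (pow_ne_zero _ hlam)]
    have := Nat.le_of_dvd two_pos (hκ ▸ orderOf_dvd_of_pow_eq_one h1)
    omega
  have hα : mu - lam ≠ 0 := fun e => hκ1 (by rw [sub_eq_zero.1 e])
  set a := φ ⬝ᵥ c' with hadef
  set b := φ' ⬝ᵥ c with hbdef
  set P := Matrix.vecMulVec c φ with hP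
  set P' := Matrix.vecMulVec c' φ' with hP'
  have hcomm : P * P' - P' * P = a • Matrix.vecMulVec c φ' - b • Matrix.vecMulVec c' φ :=
    two_mul_vecMulVec c φ c' φ'
  -- the degenerate case
  by_cases hdeg : ∃ v ψ : Fin 3 → k, P * P' - P' * P = Matrix.vecMulVec v ψ
  · obtain ⟨v, ψ, e⟩ := hdeg
    have h1 : Commute g g' := commute_of_rank_one h
      (v := ((mu - lam) * (mu - lam)) • v) (ψ := ψ) (by rw [hg, hg', homology_comm, e, Matrix.smul_vecMulVec])
    have h0 : P * P' - P' * P = 0 := by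
      have e1 := congrArg mat h1.eq
      rw [map_mul, map_mul, hg, hg', ← sub_eq_zero, homology_comm] at e1
      exact (smul_eq_zero.1 e1).resolve_left (mul_ne_zero hα hα)
    have htt : Commute t t' := mat_injective (by
      rw [map_mul, map_mul, ht, ht', ← sub_eq_zero]
      calc _ = ((2 : k) * 2) • (P * P' - P' * P) := by
            simp only [sub_mul, mul_sub, smul_mul_assoc, mul_smul_comm, smul_smul, one_mul, mul_one, smul_sub]
            abel
        _ = 0 := by rw [h0, smul_zero])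
    have hsq : ∀ (z : L) (u w : Fin 3 → k), w ⬝ᵥ u = 1 → mat z = (2 : k) • Matrix.vecMulVec u w - 1 →
        z ^ 4 = 1 := fun z u w huw hz => mat_injective (by
      have hQ : Matrix.vecMulVec u w * Matrix.vecMulVec u w = Matrix.vecMulVec u w := by
        rw [Matrix.vecMulVec_mul_vecMulVec, huw, one_smul]
      have h2' : mat z * mat z = 1 := by
        rw [hz]
        simp only [sub_mul, mul_sub, smul_mul_assoc, mul_smul_comm, smul_smul, one_mul, mul_one, hQ]
        module
      rw [map_pow, map_one, show (4 : ℕ) = 2 + 2 from rfl, pow_add, pow_two, h2', one_mul])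
    rw [htt.mul_pow, hsq t c φ hc ht, hsq t' c' φ' hc' ht', one_mul]
  simp only [not_exists] at hdeg
  have ha : a ≠ 0 := fun e => hdeg ((-b) • c') φ (by
    rw [hcomm, e, zero_smul, zero_sub, Matrix.smul_vecMulVec, neg_smul])
  have hb : b ≠ 0 := fun e => hdeg (a • c) φ' (by
    rw [hcomm, e, zero_smul, sub_zero, Matrix.smul_vecMulVec])
  have hcne : ∀ s : k, c' ≠ s • c := fun s e => hdeg c (a • φ' - (b * s) • φ) (by
    rw [hcomm, e, Matrix.smul_vecMulVec, smul_smul, Matrix.vecMulVec_sub, Matrix.vecMulVec_smul,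
      Matrix.vecMulVec_smul])
  have hφne : ∀ s : k, φ' ≠ s • φ := fun s e => hdeg ((a * s) • c - b • c') φ (by
    rw [hcomm, e, Matrix.vecMulVec_smul, smul_smul, Matrix.sub_vecMulVec, Matrix.smul_vecMulVec,
      Matrix.smul_vecMulVec])
  have htrans : ∀ (B : GL (Fin 3) k) (L' : Subgroup (GL (Fin 3) k)) (e : L ≃* L'),
      (∀ g : L, mat (e g) = ((B⁻¹ : GL (Fin 3) k) : M3 k) * mat g * (B : M3 k)) →
      (∀ (z : L) (l d : k) (u w : Fin 3 → k), mat z = l • 1 + d • Matrix.vecMulVec u w →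
        mat (e z) = l • 1 + d • Matrix.vecMulVec (((B⁻¹ : GL (Fin 3) k) : M3 k) *ᵥ u) (w ᵥ* (B : M3 k))) ∧
      ∀ (z : L) (u w : Fin 3 → k), mat z = (2 : k) • Matrix.vecMulVec u w - 1 →
        mat (e z) = (2 : k) • Matrix.vecMulVec (((B⁻¹ : GL (Fin 3) k) : M3 k) *ᵥ u) (w ᵥ* (B : M3 k)) - 1 := by
    intro B L' e he
    refine ⟨fun z l d u w hz => ?_, fun z u w hz => ?_⟩
    · rw [he, hz, mul_add, add_mul, mul_smul_comm, smul_mul_assoc, mul_one, Units.inv_mul, mul_smul_comm,
        smul_mul_assoc, conj_vecMulVec]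
    · rw [he, hz, mul_sub, sub_mul, mul_one, Units.inv_mul, mul_smul_comm, smul_mul_assoc, conj_vecMulVec]
  by_cases hab : a * b = 1
  · exfalso
    set d := c' - a • c with hd
    have hd0 : d ≠ 0 := fun e => hcne a (sub_eq_zero.1 e)
    have hφd : φ ⬝ᵥ d = 0 := by
      rw [hd, dotProduct_sub, dotProduct_smul, hc, ← hadef, smul_eq_mul, mul_one, sub_self]
    have hφd' : φ' ⬝ᵥ d = 0 := by
      rw [hd, dotProduct_sub, dotProduct_smul, hc', ← hbdef, smul_eq_mul, hab, sub_self]
    obtain ⟨i, hi⟩ : ∃ i, φ' i - b * φ i ≠ 0 := by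
      by_contra hall
      push Not at hall
      exact hφne b (funext fun i => by simpa [sub_eq_zero] using hall i)
    set z := (φ' i - b * φ i)⁻¹ • ((Pi.single i 1 : Fin 3 → k) - φ i • c) with hz
    have hφz : φ ⬝ᵥ z = 0 := by
      simp [hz, dotProduct_smul, dotProduct_sub, hc]
    have hφz' : φ' ⬝ᵥ z = 1 := by
      simp [hz, dotProduct_smul, dotProduct_sub, ← hbdef]
      field_simp
    obtain ⟨B, hB1, hB2⟩ := exists_basis_change ![d, c, z] fun x hx => by
      simp only [Matrix.cons_val_zero, Matrix.cons_val_one, Matrix.cons_val] at hx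
      have e1 := congrArg (φ ⬝ᵥ ·) hx
      have e2 := congrArg (φ' ⬝ᵥ ·) hx
      simp [dotProduct_add, dotProduct_smul, hφd, hφz, hc, hφd', hφz', ← hbdef] at e1 e2
      rw [e1, zero_mul, zero_add] at e2
      rw [e1, e2, zero_smul, zero_smul, add_zero, add_zero] at hx
      ext j
      fin_cases j
      exacts [(smul_eq_zero.1 hx).resolve_right hd0, e1, e2]
    obtain ⟨L', e, hL', he⟩ := h.exists_conj B
    obtain ⟨hc1, -⟩ := htrans B L' e he
    have hBc : ((B⁻¹ : GL (Fin 3) k) : M3 k) *ᵥ c = ![0, 1, 0] := by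
      simpa using hB2 ![0, 1, 0]
    have hBc' : ((B⁻¹ : GL (Fin 3) k) : M3 k) *ᵥ c' = ![1, a, 0] := by
      simpa [hd] using hB2 ![1, a, 0]
    have hBφ : φ ᵥ* (B : M3 k) = ![0, 1, 0] := funext fun j => by
      rw [hB1]; fin_cases j <;> simp [hφd, hc, hφz]
    have hBφ' : φ' ᵥ* (B : M3 k) = ![0, b, 1] := funext fun j => by
      rw [hB1]; fin_cases j <;> simp [hφd', hφz', ← hbdef]
    refine false_of_tangent p hL' (g := e g) (g' := e g') hlam hmu hκ1 hab ?_ ?_
    · rw [hc1 g _ _ _ _ hg, hBc, hBφ]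
      congr 2
      ext i j; fin_cases i <;> fin_cases j <;> simp [Matrix.vecMulVec_apply]
    · rw [hc1 g' _ _ _ _ hg', hBc', hBφ']
      congr 2
      ext i j; fin_cases i <;> fin_cases j <;> simp [Matrix.vecMulVec_apply]
  · have hli : LinearIndependent k ![φ, φ'] := by
      refine (LinearIndependent.pair_iff' ?_).2 fun s e => hφne s e.symm
      intro e
      rw [e, zero_dotProduct] at hc
      exact zero_ne_one hc
    have hd0 := crossProduct_ne_zero_iff_linearIndependent.2 hli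
    set d := crossProduct φ φ'
    have hφd : φ ⬝ᵥ d = 0 := dot_self_cross φ φ'
    have hφd' : φ' ⬝ᵥ d = 0 := dot_cross_self φ φ'
    obtain ⟨B, hB1, hB2⟩ := exists_basis_change ![d, c, c'] fun x hx => by
      simp only [Matrix.cons_val_zero, Matrix.cons_val_one, Matrix.cons_val] at hx
      have e1 := congrArg (φ ⬝ᵥ ·) hx
      have e2 := congrArg (φ' ⬝ᵥ ·) hx
      simp [dotProduct_add, dotProduct_smul, hφd, hc, hc', hφd', ← hbdef, ← hadef] at e1 e2
      have x2 : x 2 = 0 := (mul_eq_zero.1 (show x 2 * (1 - a * b) = 0 by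
        linear_combination e2 - b * e1)).resolve_right (sub_ne_zero.2 (Ne.symm hab))
      rw [x2, zero_mul, add_zero] at e1
      rw [e1, x2, zero_smul, zero_smul, add_zero, add_zero] at hx
      ext j
      fin_cases j
      exacts [(smul_eq_zero.1 hx).resolve_right hd0, e1, x2]
    obtain ⟨L', e, hL', he⟩ := h.exists_conj B
    obtain ⟨hc1, hc2⟩ := htrans B L' e he
    have hBc : ((B⁻¹ : GL (Fin 3) k) : M3 k) *ᵥ c = ![0, 1, 0] := by
      simpa using hB2 ![0, 1, 0]
    have hBc' : ((B⁻¹ : GL (Fin 3) k) : M3 k) *ᵥ c' = ![0, 0, 1] := by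
      simpa using hB2 ![0, 0, 1]
    have hBφ : φ ᵥ* (B : M3 k) = ![0, 1, a] := funext fun j => by
      rw [hB1]; fin_cases j <;> simp [hφd, hc, ← hadef]
    have hBφ' : φ' ᵥ* (B : M3 k) = ![0, b, 1] := funext fun j => by
      rw [hB1]; fin_cases j <;> simp [hφd', hc', ← hbdef]
    have hQ : Matrix.vecMulVec (![0, 1, 0] : Fin 3 → k) ![0, 1, a] = !![0, 0, 0; 0, 1, a; 0, 0, 0] := by
      ext i j; fin_cases i <;> fin_cases j <;> simp [Matrix.vecMulVec_apply]
    have hQ' : Matrix.vecMulVec (![0, 0, 1] : Fin 3 → k) ![0, b, 1] = !![0, 0, 0; 0, 0, 0; 0, b, 1] := by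
      ext i j; fin_cases i <;> fin_cases j <;> simp [Matrix.vecMulVec_apply]
    refine e.injective ?_
    rw [map_pow, map_mul, map_one]
    refine pow_four_generic p hL' h2 (g := e g) (g' := e g') m hm hlam hκ ha (b := b) ?_ ?_ ?_ ?_
    · rw [hc1 g _ _ _ _ hg, hBc, hBφ, hQ]
    · rw [hc1 g' _ _ _ _ hg', hBc', hBφ', hQ']
    · rw [hc2 t _ _ ht, hBc, hBφ, hQ]
    · rw [hc2 t' _ _ ht', hBc', hBφ', hQ']

include p in
/-- An element acting as a scalar on the axis of an involution and fixing its centre is the involution or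
one up to scalars. -/
theorem homology (h : Hyp L) (h2 : (2 : k) ≠ 0) {g t : L} {c φ : Fin 3 → k} {lam mu : k} (hc : φ ⬝ᵥ c = 1)
    (ht : mat t = (2 : k) • Matrix.vecMulVec c φ - 1)
    (hg : mat g = lam • 1 + (mu - lam) • Matrix.vecMulVec c φ) :
    g ∈ Subgroup.center L ∨ g * t ∈ Subgroup.center L := by
  haveI := h.finite
  set P := Matrix.vecMulVec c φ with hP
  have hPP : P * P = P := by rw [hP, Matrix.vecMulVec_mul_vecMulVec, hc, one_smul]
  have hgt : mat (g * t) = (-lam) • 1 + (mu - -lam) • P := by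
    rw [map_mul, hg, ht]
    simp only [add_mul, mul_sub, smul_mul_assoc, mul_smul_comm, smul_smul, one_mul, mul_one, hPP]
    module
  -- multiplicative orders
  obtain ⟨N, hN0, hN⟩ : ∃ N, 0 < N ∧ g ^ N = 1 := ⟨_, orderOf_pos g, pow_orderOf_eq_one g⟩
  have hgc : mat g *ᵥ c = mu • c := by
    rw [hg, Matrix.add_mulVec, Matrix.smul_mulVec, Matrix.smul_mulVec, hP, Matrix.one_mulVec,
      Matrix.vecMulVec_mulVec, hc, op_smul_eq_smul, one_smul, ← add_smul, add_sub_cancel]
  have hgQ : mat g * (1 - P) = lam • (1 - P) := by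
    rw [hg, add_mul, smul_mul_assoc, one_mul, smul_mul_assoc, mul_sub, mul_one, hPP, sub_self, smul_zero,
      add_zero]
  have hmu : mu ^ N = 1 := by
    have key : ∀ n : ℕ, mat (g ^ n) *ᵥ c = mu ^ n • c := fun n => by
      induction n with
      | zero => simp
      | succ n ih => rw [pow_succ, map_mul, ← Matrix.mulVec_mulVec, hgc, Matrix.mulVec_smul, ih, smul_smul, pow_succ']
    have h1 := congrArg (φ ⬝ᵥ ·) (key N)
    simp only [hN, map_one, Matrix.one_mulVec, dotProduct_smul, hc, smul_eq_mul, mul_one] at h1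
    exact h1.symm
  have hlam : lam ^ N = 1 := by
    have key : ∀ n : ℕ, mat (g ^ n) * (1 - P) = lam ^ n • (1 - P) := fun n => by
      induction n with
      | zero => simp
      | succ n ih => rw [pow_succ, map_mul, mul_assoc, hgQ, mul_smul_comm, ih, smul_smul, pow_succ']
    have h1 := key N
    rw [hN, map_one, one_mul] at h1
    by_contra hne
    refine vecMulVec_ne_one c φ (sub_eq_zero.1 ((smul_eq_zero.1 (show (lam ^ N - 1) • (1 - P) = 0 by
      rw [sub_smul, one_smul, ← h1, sub_self])).resolve_left (sub_ne_zero.2 hne))).symm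
  have hlam0 : lam ≠ 0 := fun e => by rw [e, zero_pow hN0.ne'] at hlam; exact zero_ne_one hlam
  by_cases he1 : mu = lam
  · exact Or.inl (h.mem_center_of_scalar (c := lam) (by rw [hg, he1, sub_self, zero_smul, add_zero]))
  by_cases he2 : mu = -lam
  · exact Or.inr (h.mem_center_of_scalar (c := -lam) (by rw [hgt, he2, sub_self, zero_smul, add_zero]))
  exfalso
  -- reduce to an even order at least four
  set κ := mu / lam with hκ
  have hκN : κ ^ N = 1 := by rw [hκ, div_pow, hmu, hlam, div_one]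
  have hκ1 : κ ≠ 1 := fun e => he1 ((div_eq_one_iff_eq hlam0).1 e)
  have hκm1 : κ ≠ -1 := fun e => he2 (by rw [hκ, div_eq_iff hlam0] at e; rw [e]; ring)
  have hn1 : orderOf κ ≠ 1 := fun e => hκ1 (orderOf_eq_one_iff.1 e)
  have hn2 : orderOf κ ≠ 2 := fun e => by
    have := pow_orderOf_eq_one κ
    rw [e] at this
    exact (sq_eq_one_iff.1 this).elim hκ1 hκm1
  have hn0 : 0 < orderOf κ := orderOf_pos_iff.2 (isOfFinOrder_iff_pow_eq_one.2 ⟨N, hN0, hκN⟩)
  obtain ⟨g₀, l₀, m₀, m, hm, hg₀, hl₀, hm₀⟩ : ∃ (g₀ : L) (l₀ m₀ : k) (m : ℕ), 2 ≤ m ∧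
      mat g₀ = l₀ • 1 + (m₀ - l₀) • P ∧ l₀ ≠ 0 ∧ orderOf (m₀ / l₀) = 2 * m := by
    rcases Nat.even_or_odd (orderOf κ) with ⟨r, hr⟩ | hodd
    · exact ⟨g, lam, mu, r, by omega, hg, hlam0, by rw [← hκ, hr]; ring⟩
    · refine ⟨g * t, -lam, mu, orderOf κ, by omega, hgt, neg_ne_zero.2 hlam0, ?_⟩
      have h1 : orderOf (-1 : k) = 2 := orderOf_eq_prime (by ring) fun e => h2 (by linear_combination -e)
      rw [div_neg, ← hκ, neg_eq_neg_one_mul, (Commute.neg_one_left κ).orderOf_mul_eq_mul_orderOf_of_coprime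
        (by rw [h1]; exact Nat.coprime_two_left.2 hodd), h1]
  have hconj : ∀ x : L, (t * (x * t * x⁻¹)) ^ 4 = 1 := fun x => by
    refine pow_four_of_pair p h h2 (g := g₀) (g' := x * g₀ * x⁻¹) (c := c) (φ := φ) (c' := mat x *ᵥ c)
      (φ' := φ ᵥ* mat x⁻¹) m hm hl₀ hm₀ hc ?_ hg₀ ?_ ht ?_
    · rw [Matrix.dotProduct_mulVec, Matrix.vecMul_vecMul, ← map_mul, inv_mul_cancel, map_one, Matrix.vecMul_one, hc]
    · rw [map_mul, map_mul, hg₀, mul_add, add_mul, mul_smul_comm, smul_mul_assoc, mul_one, ← map_mul,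
        mul_inv_cancel, map_one, mul_smul_comm, smul_mul_assoc, hP, Matrix.mul_vecMulVec, Matrix.vecMulVec_mul]
    · rw [map_mul, map_mul, ht, mul_sub, sub_mul, mul_one, ← map_mul, mul_inv_cancel, map_one, mul_smul_comm,
        smul_mul_assoc, hP, Matrix.mul_vecMulVec, Matrix.vecMulVec_mul]
  have htt : mat t * mat t = 1 := by
    rw [ht]
    simp only [sub_mul, mul_sub, smul_mul_assoc, mul_smul_comm, smul_smul, one_mul, mul_one, hPP]
    module
  have ht2 : t ^ 2 = 1 := mat_injective (by rw [pow_two, map_mul, htt, map_one])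
  have htc : ∀ s : k, mat t ≠ s • 1 := fun s e => by
    have hP2 : P = (2⁻¹ * (s + 1)) • (1 : M3 k) := by
      rw [mul_smul, add_smul, one_smul, ← e, ht, sub_add_cancel, inv_smul_smul₀ h2]
    have h1 := congrArg (φ ⬝ᵥ ·) (congrArg (· *ᵥ c) hP2)
    simp [hP, Matrix.vecMulVec_mulVec, Matrix.smul_mulVec, hc] at h1
    rw [← h1, one_smul, hP] at hP2
    exact vecMulVec_ne_one c φ hP2
  have htne : t ≠ 1 := fun e => htc 1 (by rw [e, map_one, one_smul])
  obtain ⟨x, hx1, hxodd, hinv⟩ := Cfsg.Agent.S0200.result t (orderOf_eq_prime ht2 htne) fun Nn hNn hp2 htN => by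
    haveI := hNn
    rcases h.normal_cases Nn with h0 | h0
    · obtain ⟨s, hs, -⟩ := h.exists_scalar (h0 htN)
      exact htc s hs
    · haveI := h.simple
      have htop : Nn.map (QuotientGroup.mk' (Subgroup.center L)) = ⊤ := by
        rw [← Subgroup.map_top_of_surjective _ (QuotientGroup.mk'_surjective (Subgroup.center L)), ← h0,
          Subgroup.map_sup]
        simp
      have hpq : IsPGroup 2 (L ⧸ Subgroup.center L) := by
        have := hp2.map (QuotientGroup.mk' (Subgroup.center L))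
        rw [htop] at this
        exact this.of_equiv Subgroup.topEquiv
      haveI : Fact (Nat.Prime 2) := ⟨Nat.prime_two⟩
      rcases ((inferInstance : (Subgroup.center (L ⧸ Subgroup.center L)).Normal)).eq_bot_or_eq_top with hZ | hZ
      · haveI := hpq.center_nontrivial
        exact (Subgroup.nontrivial_iff_ne_bot _).1 inferInstance hZ
      · exact h.not_comm fun a b => Subgroup.mem_center_iff.1 (hZ ▸ Subgroup.mem_top b) a
  have hti : t⁻¹ = t := inv_eq_of_mul_eq_one_right (by rw [← pow_two, ht2])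
  rw [hti] at hinv
  have h8 : x ^ 8 = 1 := by
    have h1 := hconj x
    rw [show t * (x * t * x⁻¹) = (t * x * t) * x⁻¹ by group, hinv, ← pow_two, ← pow_mul, inv_pow, inv_eq_one] at h1
    exact h1
  have h9 : (orderOf x).Coprime 8 := by
    rw [show (8 : ℕ) = 2 ^ 3 from rfl]
    exact (Nat.coprime_two_right.2 hxodd).pow_right 3
  exact hx1 (orderOf_eq_one_iff.1 (Nat.eq_one_of_dvd_coprimes h9 dvd_rfl (orderOf_dvd_of_pow_eq_one h8)))

end CfsgLib.Geo.SL3.Engine
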