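import Cfsg.Agent.Lib.Geo.SL3.Engine.Cyclic
import Cfsg.Agent.Lib.Recog.GLTwoThreeIso
import Cfsg.Agent.Lib.TwoGroups.Recognition
import Cfsg.Agent.S0197

/-!
# The image `S₄` is impossible
-/

set_option autoImplicit false

namespace CfsgLib.Geo.SL3.Engine

/-- The four group of `S₄`. -/
def vFour : Subgroup (Equiv.Perm (Fin 4)) where
  carrier := {v | v * v = 1 ∧ Equiv.Perm.sign v = 1}
  one_mem' := ⟨mul_one 1, map_one _⟩
  mul_mem' := fun {a b} ha hb => by
    have h : ∀ a b : Equiv.Perm (Fin 4), a * a = 1 ∧ Equiv.Perm.sign a = 1 → b * b = 1 ∧ Equiv.Perm.sign b = 1 →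
        (a * b) * (a * b) = 1 ∧ Equiv.Perm.sign (a * b) = 1 := by decide +kernel
    exact h a b ha hb
  inv_mem' := fun {a} ha => by
    have h : ∀ a : Equiv.Perm (Fin 4), a * a = 1 ∧ Equiv.Perm.sign a = 1 →
        a⁻¹ * a⁻¹ = 1 ∧ Equiv.Perm.sign a⁻¹ = 1 := by decide +kernel
    exact h a ha

theorem vFour_conj : ∀ g v : Equiv.Perm (Fin 4), v * v = 1 ∧ Equiv.Perm.sign v = 1 →
    (g * v * g⁻¹) * (g * v * g⁻¹) = 1 ∧ Equiv.Perm.sign (g * v * g⁻¹) = 1 := by decide +kernel

theorem vFour_self_centralizing : ∀ g : Equiv.Perm (Fin 4),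
    (∀ v, v * v = 1 ∧ Equiv.Perm.sign v = 1 → g * v = v * g) → g * g = 1 ∧ Equiv.Perm.sign g = 1 := by
  decide +kernel

theorem vFour_basis : ∃ a b : Equiv.Perm (Fin 4), (a * a = 1 ∧ Equiv.Perm.sign a = 1) ∧
    (b * b = 1 ∧ Equiv.Perm.sign b = 1) ∧ a ≠ 1 ∧ b ≠ 1 ∧ a ≠ b := by decide +kernel

theorem card_vFour : Nat.card vFour = 4 := by
  rw [← SetLike.coe_sort_coe, show (vFour : Set (Equiv.Perm (Fin 4))) =
    {v | v * v = 1 ∧ Equiv.Perm.sign v = 1} from rfl, Nat.card_eq_fintype_card]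
  decide +kernel

theorem centralizer_three : ∀ a g : Equiv.Perm (Fin 4), a ^ 3 = 1 → a ≠ 1 → g * a = a * g →
    g = 1 ∨ g = a ∨ g = a * a := by decide +kernel

variable {G : Type*} [Group G] [Finite G] [IsSimpleGroup G] {t : G} {B : Type*} [Group B]
  {π : Subgroup.centralizer ({t} : Set G) →* B} (D : CentData t π)
  (S : Sylow 2 G) (hSC : ∀ s ∈ (S : Subgroup G), s * t = t * s)

include D hSC

/-- The image is not `S₄`. -/
theorem false_of_octahedral (hnc : ¬ ∀ a b : G, a * b = b * a) (φ : B ≃* Equiv.Perm (Fin 4)) : False := by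
  classical
  set ψ := φ.toMonoidHom.comp π with hψ
  have hψs : Function.Surjective ψ := φ.surjective.comp D.surj
  have hψk : ∀ x, ψ x = 1 ↔ (x : G) = 1 ∨ (x : G) = t := fun x => by
    rw [← D.map_eq_one_iff x]
    exact ⟨fun h => φ.injective (h.trans (map_one φ).symm), fun h => (congrArg φ h).trans (map_one φ)⟩
  set T : Subgroup.centralizer ({t} : Set G) := D.lift rfl with hT
  have hTT : T * T = 1 := Subtype.ext D.t_sq
  have hT1 : T ≠ 1 := fun e => D.t_ne (congrArg Subtype.val e)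
  have hψk' : ∀ x, ψ x = 1 → x = 1 ∨ x = T := fun x hx =>
    ((hψk x).1 hx).imp (fun h => Subtype.ext h) fun h => Subtype.ext h
  obtain ⟨s₀, hsS, hs2, hs1, hst⟩ := D.exists_involution hnc S
  set s := D.lift (hSC s₀ hsS) with hsdef
  have hss : s * s = 1 := Subtype.ext hs2
  -- the preimage of the four group has a single involution
  set F : Subgroup (Subgroup.centralizer ({t} : Set G)) := vFour.comap ψ with hF
  haveI : F.Normal := ⟨fun x hx g => by
    show ψ (g * x * g⁻¹) * ψ (g * x * g⁻¹) = 1 ∧ Equiv.Perm.sign (ψ (g * x * g⁻¹)) = 1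
    rw [map_mul, map_mul, map_inv]
    exact vFour_conj _ _ hx⟩
  have hinvF : ∀ w ∈ F, w * w = 1 → w = 1 ∨ w = T := by
    intro w hw hww
    by_contra hcon
    have hw1 : ψ w ≠ 1 := fun e => hcon (hψk' w e)
    exact D.false_of_conj φ hww (fun e => hw1 ((congrArg φ e).trans (map_one φ)))
      (conj_sym_four _ hw.1 hw1 hw.2)
  have hsF : s ∉ F := fun h => by
    rcases hinvF s h hss with e | e
    · exact hs1 (congrArg Subtype.val e)
    · exact hst (congrArg Subtype.val e)
  have hTF : T ∈ F := by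
    show ψ T * ψ T = 1 ∧ Equiv.Perm.sign (ψ T) = 1
    rw [(hψk T).2 (Or.inr rfl)]
    exact ⟨mul_one 1, map_one _⟩
  -- the preimage is quaternion
  obtain ⟨a, b, ha, hb, ha1, hb1, hab⟩ := vFour_basis
  obtain ⟨I, hI⟩ := hψs a
  obtain ⟨J, hJ⟩ := hψs b
  have hIF : I ∈ F := by show ψ I * ψ I = 1 ∧ Equiv.Perm.sign (ψ I) = 1; rw [hI]; exact ha
  have hJF : J ∈ F := by show ψ J * ψ J = 1 ∧ Equiv.Perm.sign (ψ J) = 1; rw [hJ]; exact hb
  have hsq : ∀ X ∈ F, ψ X ≠ 1 → X * X = T := fun X hX hX1 => by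
    rcases hψk' (X * X) (by rw [map_mul]; exact hX.1) with h | h
    · rcases hinvF X hX h with e | e <;> rw [e] at hX1
      · exact absurd (map_one _) hX1
      · exact absurd ((hψk T).2 (Or.inr rfl)) hX1
    · exact h
  have hII : I * I = T := hsq I hIF (by rw [hI]; exact ha1)
  have hJJ : J * J = T := hsq J hJF (by rw [hJ]; exact hb1)
  have hIJ : I * J * (I * J) = T := hsq _ (mul_mem hIF hJF) (by
    rw [map_mul, hI, hJ]
    intro e
    exact hab ((eq_inv_of_mul_eq_one_left e).trans (inv_eq_of_mul_eq_one_right hb.1)))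
  have hrel : J * I * J⁻¹ = I⁻¹ := by
    have h1 : J * I * J = I := by
      refine mul_left_cancel (a := I) ?_
      rw [hII, ← hIJ]
      simp only [mul_assoc]
    have hIi : I⁻¹ = I * T := inv_eq_of_mul_eq_one_right (by rw [← mul_assoc, hII, hTT])
    calc J * I * J⁻¹ = (J * I * J) * (J * J)⁻¹ := by group
      _ = I⁻¹ := by rw [h1, hJJ, hIi, inv_eq_of_mul_eq_one_right hTT]
  have hcardF : Nat.card F = 8 := by
    have h := Subgroup.card_eq_card_quotient_mul_card_subgroup (ψ.domRestrict F).ker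
    have hr : (ψ.domRestrict F).range = vFour := by
      rw [MonoidHom.domRestrict_range]
      exact Subgroup.map_comap_eq_self_of_surjective hψs _
    rw [Nat.card_congr (QuotientGroup.quotientKerEquivRange (ψ.domRestrict F)).toEquiv, hr, card_vFour] at h
    have hk : Nat.card (ψ.domRestrict F).ker = 2 := by
      refine Nat.card_eq_two_iff.2 ⟨1, ⟨⟨T, hTF⟩, (hψk T).2 (Or.inr rfl)⟩, fun e => hT1 ?_,
        Set.eq_univ_of_forall fun x => ?_⟩
      · exact (congrArg (fun z : (ψ.domRestrict F).ker => ((z : F) : Subgroup.centralizer ({t} : Set G))) e).symm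
      · rcases hψk' ((x : F) : Subgroup.centralizer ({t} : Set G)) x.2 with e | e
        · exact Or.inl (Subtype.ext (Subtype.ext e))
        · exact Or.inr (Subtype.ext (Subtype.ext e))
    rw [h, hk]
  obtain ⟨e⟩ := CfsgLib.TwoGroups.nonempty_mulEquiv_quaternionGroup (H := F) (n := 2)
    (a := ⟨I, hIF⟩) (b := ⟨J, hJF⟩) (by
      rw [← Subgroup.orderOf_coe]
      exact orderOf_eq_prime_pow (p := 2) (n := 1) (by rw [pow_one, pow_two, hII]; exact hT1)
        (by rw [show 2 ^ (1 + 1) = 2 * 2 from rfl, pow_mul, pow_two I, hII, pow_two, hTT]))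
    (Subtype.ext (by show J * J = I ^ 2; rw [pow_two, hJJ, hII]))
    (by
      rintro ⟨i, hi⟩
      have hi' : I ^ i = J := congrArg Subtype.val hi
      have h2 := congrArg ψ hi'
      rw [map_zpow, hI, hJ] at h2
      rcases Int.even_or_odd' i with ⟨r, rfl | rfl⟩
      · rw [zpow_mul, zpow_two, ha.1, one_zpow] at h2
        exact hb1 h2.symm
      · rw [zpow_add_one, zpow_mul, zpow_two, ha.1, one_zpow, one_mul] at h2
        exact hab h2)
    (Subtype.ext hrel) (by rw [hcardF])
  have hC : Subgroup.centralizer (F : Set (Subgroup.centralizer ({t} : Set G))) ≤ F := by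
    intro g hg
    refine vFour_self_centralizing (ψ g) fun v hv => ?_
    obtain ⟨V, hV⟩ := hψs v
    rw [← hV, ← map_mul, ← map_mul, Subgroup.mem_centralizer_iff.1 hg V (by
      show ψ V * ψ V = 1 ∧ Equiv.Perm.sign (ψ V) = 1
      rw [hV]; exact hv)]
  have hcard : Nat.card (Subgroup.centralizer ({t} : Set G)) = 48 := by
    rw [D.card_cent, Nat.card_congr φ.toEquiv, Nat.card_perm, Nat.card_fin]
    decide
  have hs2' : ∀ z, CfsgLib.GLTwoThree.act F e.symm (s * s) z = z := fun z => by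
    rw [hss, map_one, MulAut.one_apply]
  obtain ⟨e', y, hy3, hyF, hy, hs⟩ := CfsgLib.GLTwoThree.exists_frame e.symm hC
    (by rw [hcard]; norm_num) hsF hs2'
  obtain ⟨iso⟩ := CfsgLib.GLTwoThree.glTwoThree_of_frame e' hC hy3 hyF hsF hy hs hcard hss
  have hinvy := CfsgLib.GLTwoThree.inverts e' hC hy3 hy hs
  have horder := Cfsg.Agent.S0197.result t D.ord iso
  -- but the Sylow 3-subgroups have order three
  haveI : Fact (Nat.Prime 3) := ⟨Nat.prime_three⟩
  have hy1 : (y : G) ≠ 1 := fun h => hyF (by rw [show y = 1 from Subtype.ext h]; exact one_mem _)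
  have hyo : orderOf (y : G) = 3 :=
    orderOf_eq_prime (by rw [← Subgroup.coe_pow, hy3, Subgroup.coe_one]) hy1
  have hψy1 : ψ y ≠ 1 := fun h => by
    rcases (hψk y).1 h with h' | h'
    · exact hy1 h'
    · rw [h', D.ord] at hyo; omega
  have hψy3 : ψ y ^ 3 = 1 := by rw [← map_pow, hy3, map_one]
  obtain ⟨hAc, hAn⟩ := D.pair (y : G) (s : G) (D.comm_t y) hy1 (D.comm_t s) (by rw [hyo]; decide)
    (congrArg Subtype.val hinvy)
  -- the centraliser of `y` centralises `t`
  have hCy : ∀ g : G, g * y = (y : G) * g → g * t = t * g := by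
    intro g hg
    have h1 := hAn g t hg rfl (D.comm_t y).symm
    have h2 : g * t * g⁻¹ * (y : G) = (y : G) * (g * t * g⁻¹) := by
      have h3 : Commute g (y : G) := hg
      exact ((h3.mul_left (show Commute t (y : G) from (D.comm_t y).symm)).mul_left h3.inv_left).eq
    set w := D.lift h1
    have hww : w * w = 1 := Subtype.ext (by
      show g * t * g⁻¹ * (g * t * g⁻¹) = 1
      rw [conj_mul, D.t_sq, mul_one, mul_inv_cancel])
    have hwy : ψ w * ψ y = ψ y * ψ w := by rw [← map_mul, ← map_mul, show w * y = y * w from Subtype.ext h2]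
    have hw2 : ψ w * ψ w = 1 := by rw [← map_mul, hww, map_one]
    have hw1 : ψ w = 1 := by
      rcases centralizer_three _ _ hψy3 hψy1 hwy with h | h | h
      · exact h
      · exfalso
        rw [h] at hw2
        rw [pow_succ, pow_two, hw2, one_mul] at hψy3
        exact hψy1 hψy3
      · exfalso
        rw [h] at hw2
        exact hψy1 (calc ψ y = ψ y * ψ y ^ 3 := by rw [hψy3, mul_one]
          _ = ψ y * ψ y * (ψ y * ψ y) := by rw [pow_succ, pow_two]; simp only [mul_assoc]
          _ = 1 := hw2)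
    rcases (hψk w).1 hw1 with h | h
    · exact absurd (conj_eq_one_iff.1 h) D.t_ne
    · exact mul_inv_eq_iff_eq_mul.1 h
  obtain ⟨P, hyP⟩ := (IsPGroup.of_card (n := 1) (p := 3) (G := Subgroup.zpowers (y : G))
    (by rw [Nat.card_zpowers, hyo, pow_one])).exists_le_sylow
  have hyP' : (y : G) ∈ (P : Subgroup G) := hyP (Subgroup.mem_zpowers _)
  -- elements of three-power order centralising `y` are powers of it
  have hpow : ∀ g : G, g * y = (y : G) * g → (∃ j, g ^ 3 ^ j = 1) → g = 1 ∨ g = y ∨ g = (y : G) * y := by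
    rintro g hg ⟨j, hj⟩
    set w := D.lift (hCy g hg)
    have hwy : ψ w * ψ y = ψ y * ψ w := by rw [← map_mul, ← map_mul, show w * y = y * w from Subtype.ext hg]
    obtain ⟨v, hv3, hv, hv'⟩ : ∃ v : Subgroup.centralizer ({t} : Set G), v ^ 3 = 1 ∧ ψ w = ψ v ∧
        ((v : G) = 1 ∨ (v : G) = y ∨ (v : G) = (y : G) * y) := by
      rcases centralizer_three _ _ hψy3 hψy1 hwy with h | h | h
      · exact ⟨1, one_pow 3, by rw [h, map_one], Or.inl rfl⟩
      · exact ⟨y, hy3, h, Or.inr (Or.inl rfl)⟩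
      · exact ⟨y * y, by rw [← pow_two, ← pow_mul, mul_comm, pow_mul, hy3, one_pow], by rw [h, map_mul],
          Or.inr (Or.inr rfl)⟩
    rcases D.eq_or_eq (φ.injective hv : π w = π v) with h | h <;> replace h : g = _ := h
    · rw [h]; exact hv'
    · exfalso
      have hj' : (g : G) ^ 3 ^ (j + 1) = 1 := by rw [pow_succ, pow_mul, hj, one_pow]
      have hv3' : (v : G) ^ 3 ^ (j + 1) = 1 := by
        rw [pow_succ', pow_mul, ← Subgroup.coe_pow, hv3, Subgroup.coe_one, one_pow]
      rw [h, (show Commute (v : G) t from D.comm_t v).mul_pow, hv3', one_mul] at hj'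
      have h5 := orderOf_dvd_of_pow_eq_one hj'
      rw [D.ord] at h5
      exact absurd (Nat.prime_two.dvd_of_dvd_pow h5) (by norm_num)
  have hP : ∀ g ∈ (P : Subgroup G), g * y = (y : G) * g := by
    have hne : (P : Subgroup G) ≠ ⊥ := fun h => hy1 (by rw [h] at hyP'; exact hyP')
    haveI : Nontrivial (P : Subgroup G) := (Subgroup.nontrivial_iff_ne_bot _).2 hne
    haveI := P.2.center_nontrivial
    obtain ⟨z, hz⟩ := exists_ne (1 : Subgroup.center (P : Subgroup G))
    have hzc : ∀ g ∈ (P : Subgroup G), g * ((z : (P : Subgroup G)) : G) = ((z : (P : Subgroup G)) : G) * g :=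
      fun g hg => congrArg Subtype.val (Subgroup.mem_center_iff.1 z.2 ⟨g, hg⟩)
    obtain ⟨j, hj⟩ := P.2 z.1
    rcases hpow _ (hzc y hyP').symm ⟨j, congrArg Subtype.val hj⟩ with h | h | h
    · exact absurd (Subtype.ext (Subtype.ext h)) hz
    · intro g hg; rw [← h]; exact hzc g hg
    · intro g hg
      have h3 : (y : G) = ((y : G) * y) * ((y : G) * y) := by
        have : (y : G) ^ 3 = 1 := by rw [← hyo, pow_orderOf_eq_one]
        calc (y : G) = (y : G) * (y : G) ^ 3 := by rw [this, mul_one]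
          _ = ((y : G) * y) * ((y : G) * y) := by rw [pow_succ, pow_two]; simp only [mul_assoc]
      rw [h3, ← h]
      exact ((show Commute g _ from hzc g hg).mul_right (show Commute g _ from hzc g hg)).eq
  have hle : Nat.card (P : Subgroup G) ≤ 3 := by
    have hsub : ((P : Subgroup G) : Set G) ⊆ {1, (y : G), (y : G) * y} := fun g hg => by
      obtain ⟨j, hj⟩ := P.2 ⟨g, hg⟩
      rcases hpow g (hP g hg) ⟨j, congrArg Subtype.val hj⟩ with h | h | h <;> simp [h]
    rw [← SetLike.coe_sort_coe, Nat.card_coe_set_eq]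
    refine (Set.ncard_le_ncard hsub (Set.toFinite _)).trans ?_
    exact (Set.ncard_insert_le _ _).trans (by
      have := Set.ncard_insert_le (y : G) ({(y : G) * y} : Set G)
      rw [Set.ncard_singleton] at this
      omega)
  have h9 : 3 ^ 2 ∣ Nat.card (P : Subgroup G) :=
    P.pow_dvd_card_of_pow_dvd_card (by rcases horder with h | h <;> rw [h] <;> norm_num)
  have := Nat.le_of_dvd Nat.card_pos h9
  omega

end CfsgLib.Geo.SL3.Engine
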