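import Cfsg.Agent.Lib.Geo.SL3.Engine.Homology

/-!
# The centraliser of an involution in the simple quotient
-/

set_option autoImplicit false
set_option maxHeartbeats 800000

namespace CfsgLib.Geo.SL3.Engine

open Matrix CfsgLib.Classical.Dickson
open scoped MatrixGroups

variable {k : Type*} [Field k] {L : Subgroup (GL (Fin 3) k)}

/-- The standard involution. -/
def stdT : M3 k := Matrix.diagonal ![1, -1, -1]

theorem stdT_eq : (stdT : M3 k) = (2 : k) • Matrix.vecMulVec ![1, 0, 0] ![1, 0, 0] - 1 := by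
  ext i j
  fin_cases i <;> fin_cases j <;> simp [stdT, Matrix.vecMulVec_apply] <;> norm_num

theorem isBlock_iff_commute (h2 : (2 : k) ≠ 0) (A : M3 k) : IsBlock A ↔ A * stdT = stdT * A := by
  constructor
  · rintro ⟨a1, a2, a3, a4⟩
    ext i j
    fin_cases i <;> fin_cases j <;> simp [stdT, Matrix.mul_apply, Fin.sum_univ_three, *]
  · intro e
    have e' := fun i j => congrFun (congrFun e i) j
    have e01 := e' 0 1
    have e02 := e' 0 2
    have e10 := e' 1 0
    have e20 := e' 2 0
    simp [stdT, Matrix.mul_apply, Fin.sum_univ_three] at e01 e02 e10 e20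
    refine ⟨?_, ?_, ?_, ?_⟩ <;> refine (mul_eq_zero.1 ?_).resolve_left h2
    exacts [by linear_combination -e01, by linear_combination -e02, by linear_combination e10,
      by linear_combination e20]

/-- The entry on the fixed line. -/
def corner (h : Hyp L) : blockGroup h →* k where
  toFun X := mat (X : L) 0 0
  map_one' := by simp
  map_mul' X Y := by
    obtain ⟨a1, a2, -, -⟩ := mem_blockGroup.1 X.2
    simp [Matrix.mul_apply, Fin.sum_univ_three, a1, a2]

theorem corner_apply {h : Hyp L} (X : blockGroup h) : corner h X = mat (X : L) 0 0 := rfl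

theorem corner_eq_one_of_central [IsAlgClosed k] {h : Hyp L} (X : blockGroup h)
    (hX : (X : L) ∈ Subgroup.center L) (hc : corner h X = 1) : X = 1 := by
  obtain ⟨c, hc', -⟩ := h.exists_scalar hX
  rw [corner_apply, hc', Matrix.smul_apply, Matrix.one_apply_eq, smul_eq_mul, mul_one] at hc
  refine Subtype.ext (mat_injective ?_)
  rw [hc', hc, one_smul, Subgroup.coe_one, map_one]

theorem mem_blockGroup_of_central [IsAlgClosed k] (h : Hyp L) {z : L} (hz : z ∈ Subgroup.center L) :
    z ∈ blockGroup h := by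
  obtain ⟨c, hc, -⟩ := h.exists_scalar hz
  rw [mem_blockGroup, hc]
  simp [IsBlock]

theorem eq_mul_central {a b : L} (e : (a : L ⧸ Subgroup.center L) = b) :
    ∃ z ∈ Subgroup.center L, a = b * z :=
  ⟨b⁻¹ * a, QuotientGroup.eq.1 e.symm, (mul_inv_cancel_left _ _).symm⟩

/-- An element of the block group inverted modulo the centre has a cube root of unity in the corner. -/
theorem corner_pow_three [IsAlgClosed k] {h : Hyp L} (S Y : blockGroup h) {n : ℕ} (hn : Odd n) (hYn : Y ^ n = 1)
    (hS : S * Y * S⁻¹ * Y ∈ (Subgroup.center L).subgroupOf (blockGroup h)) : corner h Y ^ 3 = 1 := by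
  obtain ⟨c, hc, hc3⟩ := h.exists_scalar (Subgroup.mem_subgroupOf.1 hS)
  have e1 : corner h Y * corner h Y = c := by
    have h1 : corner h (S * Y * S⁻¹ * Y) = c := by
      rw [corner_apply, hc, Matrix.smul_apply, Matrix.one_apply_eq, smul_eq_mul, mul_one]
    have hSS : corner h S * corner h S⁻¹ = 1 := by rw [← map_mul, mul_inv_cancel, map_one]
    rw [map_mul, map_mul, map_mul] at h1
    linear_combination h1 - corner h Y * corner h Y * hSS
  have e6 : corner h Y ^ (2 * 3) = 1 := by rw [pow_mul, pow_two, e1, hc3]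
  have en : corner h Y ^ n = 1 := by rw [← map_pow, hYn, map_one]
  refine orderOf_dvd_iff_pow_eq_one.1 (Nat.Coprime.dvd_of_dvd_mul_left ?_ (orderOf_dvd_of_pow_eq_one e6))
  exact Nat.Coprime.coprime_dvd_left (orderOf_dvd_of_pow_eq_one en) (Nat.coprime_two_right.2 hn)

section Std

variable [IsAlgClosed k] (h : Hyp L) (h2 : (2 : k) ≠ 0) {t : L} (ht : mat t = stdT)

include h h2 ht

theorem t_sq : t ^ 2 = 1 := mat_injective (by
  rw [pow_two, map_mul, map_one, ht]
  ext i j
  fin_cases i <;> fin_cases j <;> simp [stdT])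

theorem t_not_central : t ∉ Subgroup.center L := fun e => by
  obtain ⟨c, hc, -⟩ := h.exists_scalar e
  rw [ht] at hc
  have e0 := congrFun (congrFun hc 0) 0
  have e1 := congrFun (congrFun hc 1) 1
  simp [stdT] at e0 e1
  exact h2 (by linear_combination e0 - e1)

theorem orderOf_quot_t : orderOf (t : L ⧸ Subgroup.center L) = 2 := by
  refine orderOf_eq_prime (by rw [← QuotientGroup.mk_pow, t_sq h h2 ht, QuotientGroup.mk_one]) fun e => ?_
  exact t_not_central h h2 ht ((QuotientGroup.eq_one_iff t).1 e)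

theorem t_mem_block : t ∈ blockGroup h := by
  rw [mem_blockGroup, ht]; simp [IsBlock, stdT]

theorem mem_block_of_commute {g : L}
    (e : (g : L ⧸ Subgroup.center L) * t = t * (g : L ⧸ Subgroup.center L)) : g ∈ blockGroup h := by
  rw [← QuotientGroup.mk_mul, ← QuotientGroup.mk_mul] at e
  obtain ⟨z, hz, hgz⟩ := eq_mul_central e
  have hzc := Subgroup.mem_center_iff.1 hz
  have ht2 := t_sq h h2 ht
  have h1 : g * t * g⁻¹ = t * z := by
    rw [hgz, mul_assoc, mul_assoc, ← hzc g⁻¹, mul_inv_cancel_left]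
  have hz2 : z ^ 2 = 1 := by
    have h3 : (t * z) ^ 2 = 1 := by rw [← h1, conj_pow, ht2, mul_one, mul_inv_cancel]
    rwa [(show Commute t z from hzc t).mul_pow, ht2, one_mul] at h3
  have hz1 : z = 1 := by
    have := h.pow_three_center hz
    rwa [pow_succ, hz2, one_mul] at this
  rw [hz1, mul_one] at hgz
  rw [mem_blockGroup, isBlock_iff_commute h2, ← ht, ← map_mul, ← map_mul, hgz]

/-- The projection onto the centraliser of the involution. -/
def toCent : blockGroup h →* Subgroup.centralizer ({(t : L ⧸ Subgroup.center L)} : Set (L ⧸ Subgroup.center L)) :=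
  ((QuotientGroup.mk' (Subgroup.center L)).comp (blockGroup h).subtype).codRestrict _ fun X => by
    have e : mat ((X : L) * t) = mat (t * (X : L)) := by
      rw [map_mul, map_mul, ht]
      exact (isBlock_iff_commute h2 _).1 (mem_blockGroup.1 X.2)
    refine Subgroup.mem_centralizer_singleton_iff.2 ?_
    show ((X : L) : L ⧸ Subgroup.center L) * t = t * ((X : L) : L ⧸ Subgroup.center L)
    rw [← QuotientGroup.mk_mul, ← QuotientGroup.mk_mul, mat_injective e]

omit [IsAlgClosed k] in
theorem toCent_coe (X : blockGroup h) :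
    (toCent h h2 ht X : L ⧸ Subgroup.center L) = ((X : L) : L ⧸ Subgroup.center L) := rfl

theorem toCent_surjective : Function.Surjective (toCent h h2 ht) := fun x => by
  obtain ⟨g, hg⟩ := QuotientGroup.mk_surjective (x : L ⧸ Subgroup.center L)
  refine ⟨⟨g, mem_block_of_commute h h2 ht ?_⟩, Subtype.ext hg⟩
  rw [hg]
  exact Subgroup.mem_centralizer_singleton_iff.1 x.2

theorem toCent_eq_one {X : blockGroup h} (e : toCent h h2 ht X = 1) : (X : L) ∈ Subgroup.center L :=
  (QuotientGroup.eq_one_iff _).1 (congrArg Subtype.val e)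

/-- The action of the centraliser on the projective line. -/
noncomputable def lineHom :
    Subgroup.centralizer ({(t : L ⧸ Subgroup.center L)} : Set (L ⧸ Subgroup.center L)) →* (mobHom h).range :=
  (toCent h h2 ht).liftOfSurjective (toCent_surjective h h2 ht)
    ⟨(mobHom h).rangeRestrict, fun X hX => by
      obtain ⟨c, hc, -⟩ := h.exists_scalar (toCent_eq_one h h2 ht hX)
      refine MonoidHom.mem_ker.2 (Subtype.ext ?_)
      show mobHom h X = 1
      refine (mobHom_eq_one_iff h X).2 ⟨c, ?_⟩
      rw [hc]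
      ext i j
      fin_cases i <;> fin_cases j <;> simp [plane]⟩

theorem lineHom_toCent (X : blockGroup h) :
    (lineHom h h2 ht (toCent h h2 ht X) : Mob k) = mobHom h X :=
  congrArg Subtype.val (MonoidHom.liftOfRightInverse_comp_apply _ _ _ _ X)

theorem lineHom_surjective : Function.Surjective (lineHom h h2 ht) := fun b => by
  obtain ⟨X, hX⟩ := b.2
  exact ⟨toCent h h2 ht X, Subtype.ext (by rw [lineHom_toCent, hX])⟩

theorem lineHom_ker (p : ℕ) [Fact p.Prime] [CharP k p]
    (x : Subgroup.centralizer ({(t : L ⧸ Subgroup.center L)} : Set (L ⧸ Subgroup.center L)))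
    (hx : lineHom h h2 ht x = 1) : (x : L ⧸ Subgroup.center L) = 1 ∨ (x : L ⧸ Subgroup.center L) = t := by
  obtain ⟨X, rfl⟩ := toCent_surjective h h2 ht x
  have hm : mobHom h X = 1 := by rw [← lineHom_toCent h h2 ht, hx]; rfl
  obtain ⟨c, hc⟩ := (mobHom_eq_one_iff h X).1 hm
  obtain ⟨a1, a2, a3, a4⟩ := mem_blockGroup.1 X.2
  have e := fun i j => congrFun (congrFun hc i) j
  have e00 := e 0 0
  have e01 := e 0 1
  have e10 := e 1 0
  have e11 := e 1 1
  simp [plane] at e00 e01 e10 e11
  have hg : mat (X : L) = c • 1 + (mat (X : L) 0 0 - c) • Matrix.vecMulVec ![1, 0, 0] ![1, 0, 0] := by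
    ext i j
    fin_cases i <;> fin_cases j <;> simp [Matrix.vecMulVec_apply, *]
  rcases homology p h h2 (g := (X : L)) (t := t) (c := ![1, 0, 0]) (φ := ![1, 0, 0])
    (by simp [dotProduct, Fin.sum_univ_three]) (by rw [ht, stdT_eq]) hg with h0 | h0
  · left
    rw [toCent_coe]
    exact (QuotientGroup.eq_one_iff _).2 h0
  · right
    rw [toCent_coe]
    have h1 : ((X : L) : L ⧸ Subgroup.center L) * t = 1 := by
      rw [← QuotientGroup.mk_mul]; exact (QuotientGroup.eq_one_iff _).2 h0
    rw [eq_inv_of_mul_eq_one_left h1, ← QuotientGroup.mk_inv,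
      inv_eq_of_mul_eq_one_right (show t * t = 1 by rw [← pow_two, t_sq h h2 ht])]

/-- Commuting elements of the centraliser with involutory images have the same image. -/
theorem klein (x y : Subgroup.centralizer ({(t : L ⧸ Subgroup.center L)} : Set (L ⧸ Subgroup.center L)))
    (hxy : (x : L ⧸ Subgroup.center L) * y = y * x) (hx : lineHom h h2 ht x ^ 2 = 1)
    (hy : lineHom h h2 ht y ^ 2 = 1) (hx1 : lineHom h h2 ht x ≠ 1) (hy1 : lineHom h h2 ht y ≠ 1) :
    lineHom h h2 ht x = lineHom h h2 ht y := by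
  obtain ⟨X, rfl⟩ := toCent_surjective h h2 ht x
  obtain ⟨Y, rfl⟩ := toCent_surjective h h2 ht y
  have hXY : X * Y = Y * X := by
    rw [← mul_inv_eq_one]
    refine corner_eq_one_of_central _ (toCent_eq_one h h2 ht ?_) ?_
    · rw [map_mul, map_inv, mul_inv_eq_one, map_mul, map_mul]
      exact Subtype.ext hxy
    · rw [map_mul]
      have h1 : corner h (Y * X) * corner h (Y * X)⁻¹ = 1 := by rw [← map_mul, mul_inv_cancel, map_one]
      rwa [map_mul, mul_comm (corner h X), ← map_mul]
  have key : ∀ Z : blockGroup h, lineHom h h2 ht (toCent h h2 ht Z) ^ 2 = 1 →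
      lineHom h h2 ht (toCent h h2 ht Z) ≠ 1 → plane (mat (Z : L)) 1 1 = -plane (mat (Z : L)) 0 0 ∧
        ¬ (plane (mat (Z : L)) 0 0 = 0 ∧ plane (mat (Z : L)) 0 1 = 0 ∧ plane (mat (Z : L)) 1 0 = 0) := by
    intro Z hZ hZ1
    have hm : mobHom h (Z ^ 2) = 1 := by
      rw [map_pow, ← lineHom_toCent h h2 ht, ← Subgroup.coe_pow, hZ, Subgroup.coe_one]
    obtain ⟨c, hc⟩ := (mobHom_eq_one_iff h _).1 hm
    rw [Subgroup.coe_pow, map_pow, pow_two, plane_mul (mem_blockGroup.1 Z.2)] at hc
    have hd := plane_det_ne_zero h Z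
    have hns : ¬ ∃ d : k, plane (mat (Z : L)) = d • 1 := fun hd' => hZ1 (Subtype.ext (by
      rw [lineHom_toCent]; exact (mobHom_eq_one_iff h Z).2 hd'))
    generalize plane (mat (Z : L)) = A at hc hd hns ⊢
    have e := fun i j => congrFun (congrFun hc i) j
    have e00 := e 0 0
    have e01 := e 0 1
    have e10 := e 1 0
    have e11 := e 1 1
    simp [Matrix.mul_apply, Fin.sum_univ_two] at e00 e01 e10 e11
    have htr : A 1 1 = -A 0 0 := by
      by_contra hne
      have hs : A 0 0 + A 1 1 ≠ 0 := fun e => hne (eq_neg_of_add_eq_zero_right e)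
      have b0 : A 0 1 = 0 := (mul_eq_zero.1 (show A 0 1 * (A 0 0 + A 1 1) = 0 by
        linear_combination e01)).resolve_right hs
      have c0 : A 1 0 = 0 := (mul_eq_zero.1 (show A 1 0 * (A 0 0 + A 1 1) = 0 by
        linear_combination e10)).resolve_right hs
      refine hns ⟨A 0 0, ?_⟩
      have ad : A 1 1 = A 0 0 := sub_eq_zero.1 ((mul_eq_zero.1
        (show (A 1 1 - A 0 0) * (A 0 0 + A 1 1) = 0 by linear_combination e11 - e00)).resolve_right hs)
      ext i j
      fin_cases i <;> fin_cases j <;> simp [b0, c0, ad]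
    refine ⟨htr, fun ⟨a0, b0, c0⟩ => hd ?_⟩
    rw [Matrix.det_fin_two, htr, a0, b0, c0]
    ring
  obtain ⟨tX, nX⟩ := key X hx hx1
  obtain ⟨tY, nY⟩ := key Y hy hy1
  have hc : plane (mat (X : L)) * plane (mat (Y : L)) = plane (mat (Y : L)) * plane (mat (X : L)) := by
    rw [← plane_mul (mem_blockGroup.1 X.2), ← plane_mul (mem_blockGroup.1 Y.2), ← map_mul, ← map_mul,
      ← Subgroup.coe_mul, ← Subgroup.coe_mul, hXY]
  refine Subtype.ext ?_
  rw [lineHom_toCent, lineHom_toCent, mobHom_apply, mobHom_apply]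
  have hdY := plane_det_ne_zero h Y
  suffices hu : ∃ u : k, plane (mat (Y : L)) = u • plane (mat (X : L)) by
    obtain ⟨u, hu⟩ := hu
    have hu0 : u ≠ 0 := fun e => by rw [hu, e, zero_smul, Matrix.det_zero] at hdY; exact hdY rfl
    exact mk_eq_of_smul (Units.mk0 u hu0) (by rw [planeHom_coe, planeHom_coe, hu]; rfl)
  generalize plane (mat (X : L)) = A at hc tX nX ⊢
  generalize plane (mat (Y : L)) = B at hc tY nY ⊢
  have e := fun i j => congrFun (congrFun hc i) j
  have e00 := e 0 0
  have e01 := e 0 1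
  have e10 := e 1 0
  simp [Matrix.mul_apply, Fin.sum_univ_two, tX, tY] at e00 e01 e10
  have bf : A 0 1 * B 1 0 = A 1 0 * B 0 1 := by linear_combination e00
  have ae : A 0 0 * B 0 1 = A 0 1 * B 0 0 := mul_left_cancel₀ h2 (by linear_combination e01)
  have af : A 0 0 * B 1 0 = A 1 0 * B 0 0 := mul_left_cancel₀ h2 (by linear_combination -e10)
  by_cases a0 : A 0 0 = 0
  · by_cases b0 : A 0 1 = 0
    · have c0 : A 1 0 ≠ 0 := fun e => nX ⟨a0, b0, e⟩
      refine ⟨B 1 0 / A 1 0, ?_⟩
      rw [a0, zero_mul] at af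
      rw [b0, zero_mul] at bf
      have d0 : B 0 0 = 0 := (mul_eq_zero.1 af.symm).resolve_left c0
      have f0 : B 0 1 = 0 := (mul_eq_zero.1 bf.symm).resolve_left c0
      ext i j
      fin_cases i <;> fin_cases j <;> simp [tX, tY, a0, b0, d0, f0, c0]
    · refine ⟨B 0 1 / A 0 1, ?_⟩
      rw [a0, zero_mul] at ae
      have d0 : B 0 0 = 0 := (mul_eq_zero.1 ae.symm).resolve_left b0
      have f0 : B 1 0 = B 0 1 / A 0 1 * A 1 0 := by field_simp; linear_combination bf
      ext i j
      fin_cases i <;> fin_cases j <;> simp [tX, tY, a0, d0, f0, b0]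
  · refine ⟨B 0 0 / A 0 0, ?_⟩
    have e0 : B 0 1 = B 0 0 / A 0 0 * A 0 1 := by field_simp; linear_combination ae
    have f0 : B 1 0 = B 0 0 / A 0 0 * A 1 0 := by field_simp; linear_combination af
    ext i j
    fin_cases i <;> fin_cases j <;> simp [tX, tY, e0, f0, a0]

/-- The lift of an inverted element of odd order. -/
theorem exists_lift {y s : L ⧸ Subgroup.center L} (hy : y * t = t * y) (hs : s * t = t * s)
    (hodd : Odd (orderOf y)) (hinv : s * y * s⁻¹ = y⁻¹) :
    ∃ S Y : blockGroup h, ((Y : L) : L ⧸ Subgroup.center L) = y ∧ S * Y * S⁻¹ = Y⁻¹ ∧ corner h Y = 1 ∧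
      ∃ n, Odd n ∧ Y ^ n = 1 := by
  obtain ⟨Y₀, rfl⟩ := QuotientGroup.mk_surjective y
  obtain ⟨S₀, rfl⟩ := QuotientGroup.mk_surjective s
  have hyb := mem_block_of_commute h h2 ht hy
  set Y : blockGroup h := ⟨Y₀, hyb⟩
  set S : blockGroup h := ⟨S₀, mem_block_of_commute h h2 ht hs⟩
  set n := 3 * orderOf (Y₀ : L ⧸ Subgroup.center L)
  have hn : Odd n := (by decide : Odd 3).mul hodd
  have hYn : Y ^ n = 1 := Subtype.ext (by
    show Y₀ ^ (3 * orderOf (Y₀ : L ⧸ Subgroup.center L)) = 1
    rw [mul_comm, pow_mul]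
    refine h.pow_three_center ((QuotientGroup.eq_one_iff _).1 ?_)
    rw [QuotientGroup.mk_pow, pow_orderOf_eq_one])
  have hS : S * Y * S⁻¹ * Y ∈ (Subgroup.center L).subgroupOf (blockGroup h) := by
    refine Subgroup.mem_subgroupOf.2 ((QuotientGroup.eq_one_iff _).1 ?_)
    show ((S₀ * Y₀ * S₀⁻¹ * Y₀ : L) : L ⧸ Subgroup.center L) = 1
    rw [QuotientGroup.mk_mul, QuotientGroup.mk_mul, QuotientGroup.mk_mul, QuotientGroup.mk_inv, hinv,
      inv_mul_cancel]
  have he := corner_pow_three S Y hn hYn hS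
  set w : blockGroup h := S * Y * S⁻¹ * Y
  have hw : (w : L) ∈ Subgroup.center L := Subgroup.mem_subgroupOf.1 hS
  have hwc : ∀ X : blockGroup h, X * w = w * X := fun X => Subtype.ext (Subgroup.mem_center_iff.1 hw _)
  have hw3 : w ^ 3 = 1 := Subtype.ext (h.pow_three_center hw)
  have hSS : corner h S * corner h S⁻¹ = 1 := by rw [← map_mul, mul_inv_cancel, map_one]
  have hcw : corner h w = corner h Y ^ 2 := by
    simp only [w, map_mul]
    linear_combination corner h Y * corner h Y * hSS
  -- divide by the square root of the central element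
  refine ⟨S, Y * w, ?_, ?_, by rw [map_mul, hcw, ← pow_succ', he], n, hn, ?_⟩
  · show ((Y₀ * (w : L) : L) : L ⧸ Subgroup.center L) = (Y₀ : L ⧸ Subgroup.center L)
    rw [QuotientGroup.mk_mul, (QuotientGroup.eq_one_iff _).2 hw, mul_one]
  · refine eq_inv_of_mul_eq_one_left ?_
    calc S * (Y * w) * S⁻¹ * (Y * w) = S * Y * (w * S⁻¹) * Y * w := by simp only [mul_assoc]
      _ = S * Y * S⁻¹ * (w * Y) * w := by rw [← hwc]; simp only [mul_assoc]
      _ = w * w * w := by rw [← hwc]; simp only [w, mul_assoc]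
      _ = 1 := by rw [← pow_two, ← pow_succ, hw3]
  · rw [(show Commute Y w from hwc Y).mul_pow, hYn, one_mul]
    obtain ⟨m, hm⟩ : 3 ∣ n := dvd_mul_right 3 _
    rw [hm, pow_mul, hw3, one_pow]

/-- The plane part of an inverted element of odd order. -/
theorem plane_facts {S Y : blockGroup h} (hinv : S * Y * S⁻¹ = Y⁻¹) (hc : corner h Y = 1)
    {n : ℕ} (hn : Odd n) (hYn : Y ^ n = 1) (hY : Y ≠ 1) :
    (plane (mat (Y : L))).det = 1 ∧ (plane (mat (Y : L))).trace ≠ 2 ∧ (plane (mat (Y : L))).trace ≠ -2 := by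
  have hd : (plane (mat (Y : L))).det = 1 := by
    have := IsBlock.det_eq (mem_blockGroup.1 Y.2)
    rw [h.det_mat, ← corner_apply, hc, one_mul] at this
    exact this.symm
  obtain ⟨a1, a2, a3, a4⟩ := mem_blockGroup.1 Y.2
  rw [corner_apply] at hc
  rw [Matrix.det_fin_two, plane] at hd
  simp at hd
  refine ⟨by rw [Matrix.det_fin_two, plane]; simpa using hd, fun e => hY ?_, fun e => hY ?_⟩
  · refine Subtype.ext (h.noTransvection _ ?_)
    rw [Matrix.trace_fin_two, plane] at e
    simp at e
    rw [← mat_apply]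
    ext i j
    fin_cases i <;> fin_cases j <;>
      simp [pow_two, Matrix.mul_apply, Fin.sum_univ_three, Matrix.one_apply, *]
    · linear_combination (mat (Y : L) 1 1) * e - hd
    · linear_combination (mat (Y : L) 1 2) * e
    · linear_combination (mat (Y : L) 2 1) * e
    · linear_combination (mat (Y : L) 2 2) * e - hd
  · -- the square would be a transvection
    rw [Matrix.trace_fin_two, plane] at e
    simp at e
    have hY2 : Y ^ 2 = 1 := by
      refine Subtype.ext (h.noTransvection _ ?_)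
      rw [← mat_apply, Subgroup.coe_pow, map_pow]
      generalize mat (Y : L) = A at *
      have h1 : (A * A - 1) = !![0, 0, 0; 0, -2 * A 1 1 - 2, -2 * A 1 2; 0, -2 * A 2 1, -2 * A 2 2 - 2] := by
        ext i j
        fin_cases i <;> fin_cases j <;>
          simp [Matrix.mul_apply, Fin.sum_univ_three, Matrix.one_apply, *]
        · linear_combination A 1 1 * e - hd
        · linear_combination A 1 2 * e
        · linear_combination A 2 1 * e
        · linear_combination A 2 2 * e - hd
      rw [pow_two A, h1]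
      ext i j
      fin_cases i <;> fin_cases j <;> simp [pow_two, Matrix.mul_apply, Fin.sum_univ_three]
      · linear_combination (4 * A 1 1) * e - 4 * hd
      · linear_combination (4 * A 1 2) * e
      · linear_combination (4 * A 2 1) * e
      · linear_combination (4 * A 2 2) * e - 4 * hd
    obtain ⟨m, rfl⟩ := hn
    rwa [pow_succ, pow_mul, hY2, one_pow, one_mul] at hYn

/-- The centraliser of an inverted element of odd order inside that of the involution is abelian, and the
full centraliser normalises it. -/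
theorem centralizer_pair {y s : L ⧸ Subgroup.center L} (hy : y * t = t * y) (hy1 : y ≠ 1) (hs : s * t = t * s)
    (hodd : Odd (orderOf y)) (hinv : s * y * s⁻¹ = y⁻¹) :
    (∀ a b : L ⧸ Subgroup.center L, a * t = t * a → a * y = y * a → b * t = t * b → b * y = y * b →
      a * b = b * a) ∧
    ∀ g a : L ⧸ Subgroup.center L, g * y = y * g → a * t = t * a → a * y = y * a →
      g * a * g⁻¹ * t = t * (g * a * g⁻¹) := by
  obtain ⟨S, Y, rfl, hSY, hc, n, hn, hYn⟩ := exists_lift h h2 ht hy hs hodd hinv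
  have hY1 : Y ≠ 1 := fun e => hy1 (by rw [e]; rfl)
  obtain ⟨hd, htr, htr'⟩ := plane_facts h h2 ht hSY hc hn hYn hY1
  obtain ⟨a1, a2, a3, a4⟩ := mem_blockGroup.1 Y.2
  rw [corner_apply] at hc
  rw [Matrix.det_fin_two, plane] at hd
  simp at hd
  rw [Matrix.trace_fin_two, plane] at htr htr'
  simp at htr htr'
  -- lifts of commuting elements commute
  have hlift : ∀ a : L, (a : L ⧸ Subgroup.center L) * t = t * (a : L ⧸ Subgroup.center L) →
      (a : L ⧸ Subgroup.center L) * (Y : L) = (Y : L) * (a : L ⧸ Subgroup.center L) → Commute a (Y : L) := by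
    intro a hat hay
    set A : blockGroup h := ⟨a, mem_block_of_commute h h2 ht hat⟩
    have hz : A * Y * A⁻¹ * Y⁻¹ = 1 := by
      refine corner_eq_one_of_central _ ?_ ?_
      · refine (QuotientGroup.eq_one_iff _).1 ?_
        show ((a * (Y : L) * a⁻¹ * (Y : L)⁻¹ : L) : L ⧸ Subgroup.center L) = 1
        rw [QuotientGroup.mk_mul, QuotientGroup.mk_mul, QuotientGroup.mk_mul, hay, QuotientGroup.mk_inv,
          QuotientGroup.mk_inv, mul_inv_cancel_right, mul_inv_cancel]
      · have hA : corner h A * corner h A⁻¹ = 1 := by rw [← map_mul, mul_inv_cancel, map_one]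
        have hY : corner h Y * corner h Y⁻¹ = 1 := by rw [← map_mul, mul_inv_cancel, map_one]
        rw [map_mul, map_mul, map_mul]
        linear_combination corner h Y * corner h Y⁻¹ * hA + hY
    have hz' : A * Y = Y * A := mul_inv_eq_iff_eq_mul.1 (mul_inv_eq_one.1 hz)
    exact congrArg Subtype.val hz'
  -- whatever commutes with the lift is of block shape
  have hblock : ∀ a : L, Commute a (Y : L) → IsBlock (mat a) := by
    intro a ha
    have e := congrArg mat ha.eq
    rw [map_mul, map_mul] at e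
    generalize mat a = A at e ⊢
    generalize mat (Y : L) = B at *
    have e' := fun i j => congrFun (congrFun e i) j
    have e01 := e' 0 1
    have e02 := e' 0 2
    have e10 := e' 1 0
    have e20 := e' 2 0
    simp [Matrix.mul_apply, Fin.sum_univ_three, hc, a1, a2, a3, a4] at e01 e02 e10 e20
    have hne : (B 1 1 - 1) * (B 2 2 - 1) - B 1 2 * B 2 1 ≠ 0 := fun e => htr (by linear_combination -e + hd)
    refine ⟨?_, ?_, ?_, ?_⟩ <;> refine (mul_eq_zero.1 ?_).resolve_left hne
    · linear_combination (B 2 2 - 1) * e01 - B 2 1 * e02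
    · linear_combination -B 1 2 * e01 + (B 1 1 - 1) * e02
    · linear_combination -(B 2 2 - 1) * e10 + B 1 2 * e20
    · linear_combination B 2 1 * e10 - (B 1 1 - 1) * e20
  refine ⟨fun a b hat hay hbt hby => ?_, fun g a hgy hat hay => ?_⟩
  · obtain ⟨A, rfl⟩ := QuotientGroup.mk_surjective a
    obtain ⟨B, rfl⟩ := QuotientGroup.mk_surjective b
    rw [← QuotientGroup.mk_mul, ← QuotientGroup.mk_mul]
    refine congrArg _ (mat_injective ?_)
    have hA := hblock A (hlift A hat hay)
    have hB := hblock B (hlift B hbt hby)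
    have eA := congrArg plane (congrArg mat (hlift A hat hay).eq)
    have eB := congrArg plane (congrArg mat (hlift B hbt hby).eq)
    rw [map_mul, map_mul, plane_mul hA, plane_mul (mem_blockGroup.1 Y.2)] at eA
    rw [map_mul, map_mul, plane_mul hB, plane_mul (mem_blockGroup.1 Y.2)] at eB
    rw [map_mul, map_mul]
    refine IsBlock.ext (hA.mul hB) (hB.mul hA) ?_ ?_
    · obtain ⟨x1, x2, x3, x4⟩ := hA
      obtain ⟨y1, y2, y3, y4⟩ := hB
      simp [Matrix.mul_apply, Fin.sum_univ_three, *, mul_comm]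
    · rw [plane_mul hA, plane_mul hB]
      have hP : ¬ (plane (mat (Y : L)) 0 1 = 0 ∧ plane (mat (Y : L)) 1 0 = 0 ∧
          plane (mat (Y : L)) 0 0 = plane (mat (Y : L)) 1 1) := by
        rintro ⟨b0, c0, ad⟩
        simp [plane] at b0 c0 ad
        rw [b0, c0, ad] at hd
        rw [ad] at htr htr'
        simp at hd
        rcases mul_self_eq_one_iff.1 hd with e | e
        · exact htr (by rw [e]; norm_num)
        · exact htr' (by rw [e]; norm_num)
      generalize plane (mat A) = P at eA ⊢
      generalize plane (mat B) = Q at eB ⊢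
      generalize plane (mat (Y : L)) = R at hP eA eB
      have fA := fun i j => congrFun (congrFun eA i) j
      have fB := fun i j => congrFun (congrFun eB i) j
      have a00 := fA 0 0
      have a01 := fA 0 1
      have a10 := fA 1 0
      have b00 := fB 0 0
      have b01 := fB 0 1
      have b10 := fB 1 0
      simp [Matrix.mul_apply, Fin.sum_univ_two] at a00 a01 a10 b00 b01 b10
      -- both are parallel to the same non-zero vector
      have x1 : P 0 1 * Q 1 0 - P 1 0 * Q 0 1 = 0 ∧
          P 0 1 * (Q 0 0 - Q 1 1) - Q 0 1 * (P 0 0 - P 1 1) = 0 ∧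
          P 1 0 * (Q 0 0 - Q 1 1) - Q 1 0 * (P 0 0 - P 1 1) = 0 := by
        by_cases hb : R 0 1 = 0
        · by_cases hc' : R 1 0 = 0
          · have had : R 0 0 - R 1 1 ≠ 0 := fun e => hP ⟨hb, hc', sub_eq_zero.1 e⟩
            refine ⟨?_, ?_, ?_⟩ <;> refine (mul_eq_zero.1 ?_).resolve_left (mul_ne_zero had had)
            · simp only [hb, hc', mul_zero, zero_mul, add_zero, zero_add] at a01 a10 b01 b10
              have p01 : P 0 1 = 0 := (mul_eq_zero.1 (show (R 0 0 - R 1 1) * P 0 1 = 0 by
                linear_combination -a01)).resolve_left had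
              have p10 : P 1 0 = 0 := (mul_eq_zero.1 (show (R 0 0 - R 1 1) * P 1 0 = 0 by
                linear_combination a10)).resolve_left had
              rw [p01, p10]; ring
            · simp only [hb, hc', mul_zero, zero_mul, add_zero, zero_add] at a01 a10 b01 b10
              linear_combination -(R 0 0 - R 1 1) * (Q 0 0 - Q 1 1) * a01
                + (R 0 0 - R 1 1) * (P 0 0 - P 1 1) * b01
            · simp only [hb, hc', mul_zero, zero_mul, add_zero, zero_add] at a01 a10 b01 b10
              linear_combination (R 0 0 - R 1 1) * (Q 0 0 - Q 1 1) * a10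
                - (R 0 0 - R 1 1) * (P 0 0 - P 1 1) * b10
          · have u3 : P 1 0 * (Q 0 0 - Q 1 1) - Q 1 0 * (P 0 0 - P 1 1) = 0 :=
              (mul_eq_zero.1 (show R 1 0 * _ = 0 by
                linear_combination Q 1 0 * a10 - P 1 0 * b10)).resolve_left hc'
            refine ⟨?_, ?_, u3⟩ <;> refine (mul_eq_zero.1 ?_).resolve_left hc'
            · linear_combination Q 1 0 * a00 - P 1 0 * b00
            · linear_combination (Q 0 0 - Q 1 1) * a00 - (P 0 0 - P 1 1) * b00 + R 0 1 * u3
        · have u2 : P 0 1 * (Q 0 0 - Q 1 1) - Q 0 1 * (P 0 0 - P 1 1) = 0 :=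
            (mul_eq_zero.1 (show R 0 1 * _ = 0 by
              linear_combination -Q 0 1 * a01 + P 0 1 * b01)).resolve_left hb
          refine ⟨?_, u2, ?_⟩ <;> refine (mul_eq_zero.1 ?_).resolve_left hb
          · linear_combination Q 0 1 * a00 - P 0 1 * b00
          · linear_combination -(Q 0 0 - Q 1 1) * a00 + (P 0 0 - P 1 1) * b00 + R 1 0 * u2
      obtain ⟨u1, u2, u3⟩ := x1
      ext i j
      fin_cases i <;> fin_cases j <;> simp [Matrix.mul_apply, Fin.sum_univ_two]
      · linear_combination u1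
      · linear_combination -u2
      · linear_combination u3
      · linear_combination -u1
  · obtain ⟨G, rfl⟩ := QuotientGroup.mk_surjective g
    obtain ⟨A, rfl⟩ := QuotientGroup.mk_surjective a
    have hAY := hlift A hat hay
    rw [← QuotientGroup.mk_mul, ← QuotientGroup.mk_mul] at hgy
    obtain ⟨z, hz, hgz⟩ := eq_mul_central hgy.symm
    have hzc := Subgroup.mem_center_iff.1 hz
    -- `Y G = G Y z`
    have hY' : (Y : L) = G * (Y : L) * G⁻¹ * z := by
      calc (Y : L) = (Y : L) * G * G⁻¹ := by rw [mul_inv_cancel_right]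
        _ = G * (Y : L) * z * G⁻¹ := by rw [hgz]
        _ = G * (Y : L) * G⁻¹ * z := by rw [mul_assoc (G * (Y : L)), ← hzc G⁻¹, ← mul_assoc]
    have hcomm : Commute (G * A * G⁻¹) (Y : L) := by
      rw [hY']
      refine Commute.mul_right ?_ (hzc _)
      exact hAY.map (MulAut.conj G).toMonoidHom
    rw [← QuotientGroup.mk_inv, ← QuotientGroup.mk_mul, ← QuotientGroup.mk_mul, ← QuotientGroup.mk_mul,
      ← QuotientGroup.mk_mul]
    refine congrArg _ (mat_injective ?_)
    rw [map_mul, map_mul _ t, ht]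
    exact (isBlock_iff_commute h2 _).1 (hblock _ hcomm)

/-- An inverted element of odd order conjugate to another one: the conjugating element centralises the
involution or the element has order three. -/
theorem conj_or_cube {y y' s s' g : L ⧸ Subgroup.center L} (hy : y * t = t * y) (hy' : y' * t = t * y')
    (hy1 : y ≠ 1) (hs : s * t = t * s) (hs' : s' * t = t * s') (hodd : Odd (orderOf y))
    (hinv : s * y * s⁻¹ = y⁻¹) (hinv' : s' * y' * s'⁻¹ = y'⁻¹) (hg : g * y * g⁻¹ = y') :
    g * t = t * g ∨ y ^ 3 = 1 := by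
  have hodd' : Odd (orderOf y') := by
    rwa [← hg, ← MulAut.conj_apply, MulEquiv.orderOf_eq]
  have hy1' : y' ≠ 1 := fun e => hy1 (conj_eq_one_iff.1 (hg.trans e))
  obtain ⟨S, Y, rfl, hSY, hc, n, hn, hYn⟩ := exists_lift h h2 ht hy hs hodd hinv
  obtain ⟨S', Y', rfl, hSY', hc', n', hn', hYn'⟩ := exists_lift h h2 ht hy' hs' hodd' hinv'
  have hY1 : Y ≠ 1 := fun e => hy1 (by rw [e]; rfl)
  have hY1' : Y' ≠ 1 := fun e => hy1' (by rw [e]; rfl)
  obtain ⟨hd, htr, htr'⟩ := plane_facts h h2 ht hSY hc hn hYn hY1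
  obtain ⟨hd', htr1, htr1'⟩ := plane_facts h h2 ht hSY' hc' hn' hYn' hY1'
  obtain ⟨G, rfl⟩ := QuotientGroup.mk_surjective g
  obtain ⟨z, hz, hgz⟩ : ∃ z ∈ Subgroup.center L, (Y' : L) * G = G * (Y : L) * z := by
    refine eq_mul_central ?_
    rw [QuotientGroup.mk_mul, QuotientGroup.mk_mul, ← hg, inv_mul_cancel_right]
  obtain ⟨c, hzc, hc3⟩ := h.exists_scalar hz
  have e := congrArg mat hgz
  rw [map_mul, map_mul, map_mul, hzc, mul_smul_comm, mul_one] at e
  obtain ⟨a1, a2, a3, a4⟩ := mem_blockGroup.1 Y.2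
  obtain ⟨b1, b2, b3, b4⟩ := mem_blockGroup.1 Y'.2
  rw [corner_apply] at hc hc'
  rw [Matrix.det_fin_two, plane] at hd hd'
  simp at hd hd'
  rw [Matrix.trace_fin_two, plane] at htr htr1
  simp at htr htr1
  have hGu : (mat G).det ≠ 0 := by rw [h.det_mat]; exact one_ne_zero
  by_cases hc1 : c = 1
  · left
    rw [← QuotientGroup.mk_mul, ← QuotientGroup.mk_mul]
    refine congrArg _ (mat_injective ?_)
    rw [map_mul, map_mul, ht]
    refine (isBlock_iff_commute h2 _).1 ?_
    rw [hc1, one_smul] at e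
    generalize mat G = g at e ⊢
    generalize mat (Y : L) = A at *
    generalize mat (Y' : L) = B at *
    have e' := fun i j => congrFun (congrFun e i) j
    have e01 := e' 0 1
    have e02 := e' 0 2
    have e10 := e' 1 0
    have e20 := e' 2 0
    simp [Matrix.mul_apply, Fin.sum_univ_three, hc, hc', a1, a2, a3, a4, b1, b2, b3, b4] at e01 e02 e10 e20
    have hneA : (A 1 1 - 1) * (A 2 2 - 1) - A 1 2 * A 2 1 ≠ 0 := fun e => htr (by linear_combination -e + hd)
    have hneB : (B 1 1 - 1) * (B 2 2 - 1) - B 1 2 * B 2 1 ≠ 0 := fun e => htr1 (by linear_combination -e + hd')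
    refine ⟨?_, ?_, ?_, ?_⟩
    · refine (mul_eq_zero.1 ?_).resolve_left hneA
      linear_combination -(A 2 2 - 1) * e01 + A 2 1 * e02
    · refine (mul_eq_zero.1 ?_).resolve_left hneA
      linear_combination A 1 2 * e01 - (A 1 1 - 1) * e02
    · refine (mul_eq_zero.1 ?_).resolve_left hneB
      linear_combination (B 2 2 - 1) * e10 - B 1 2 * e20
    · refine (mul_eq_zero.1 ?_).resolve_left hneB
      linear_combination -B 2 1 * e10 + (B 1 1 - 1) * e20
  · right
    suffices hY3 : Y' ^ 3 = 1 by
      rw [← conj_eq_one_iff (a := (G : L ⧸ Subgroup.center L)), ← conj_pow, hg, ← QuotientGroup.mk_pow,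
        ← Subgroup.coe_pow, hY3]
      rfl
    refine planeHom_injective h (Units.ext ?_)
    rw [map_pow, map_one, Units.val_pow_eq_pow_val, Units.val_one, planeHom_coe]
    have hP : plane (mat (Y' : L)) = !![mat (Y' : L) 1 1, mat (Y' : L) 1 2; mat (Y' : L) 2 1, mat (Y' : L) 2 2] :=
      rfl
    rw [hP]
    clear hP
    -- the first column of the conjugating element is an eigenvector
    generalize mat G = g at e hGu
    generalize mat (Y : L) = A at *
    generalize mat (Y' : L) = B at *
    have e' := fun i j => congrFun (congrFun e i) j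
    have e00 := e' 0 0
    have e10 := e' 1 0
    have e20 := e' 2 0
    simp [Matrix.mul_apply, Fin.sum_univ_three, hc, hc', a1, a2, a3, a4, b1, b2, b3, b4] at e00 e10 e20
    have g00 : g 0 0 = 0 := (mul_eq_zero.1 (show g 0 0 * (1 - c) = 0 by linear_combination e00)).resolve_right
      (sub_ne_zero.2 (Ne.symm hc1))
    have hD : (B 1 1 - c) * (B 2 2 - c) - B 1 2 * B 2 1 = 0 := by
      by_contra hD
      have g10 : g 1 0 = 0 := (mul_eq_zero.1 (show ((B 1 1 - c) * (B 2 2 - c) - B 1 2 * B 2 1) * g 1 0 = 0 by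
        linear_combination (B 2 2 - c) * e10 - B 1 2 * e20)).resolve_left hD
      have g20 : g 2 0 = 0 := (mul_eq_zero.1 (show ((B 1 1 - c) * (B 2 2 - c) - B 1 2 * B 2 1) * g 2 0 = 0 by
        linear_combination -B 2 1 * e10 + (B 1 1 - c) * e20)).resolve_left hD
      exact hGu (Matrix.det_eq_zero_of_column_eq_zero 0 fun i => by fin_cases i <;> assumption)
    have hcc : c ^ 2 + c + 1 = 0 := (mul_eq_zero.1 (show (c - 1) * (c ^ 2 + c + 1) = 0 by
      linear_combination hc3)).resolve_left (sub_ne_zero.2 hc1)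
    have hc0 : c ≠ 0 := fun e => by rw [e] at hcc; simp at hcc
    have htau : B 1 1 + B 2 2 + 1 = 0 := (mul_eq_zero.1 (show c * (B 1 1 + B 2 2 + 1) = 0 by
      linear_combination -hD + hd' + hcc)).resolve_left hc0
    have h3 : (!![B 1 1, B 1 2; B 2 1, B 2 2] : Matrix (Fin 2) (Fin 2) k) ^ 2 =
        -(!![B 1 1, B 1 2; B 2 1, B 2 2] : Matrix (Fin 2) (Fin 2) k) - 1 := by
      ext i j
      fin_cases i <;> fin_cases j <;> simp [pow_two, Matrix.mul_apply, Fin.sum_univ_two]
      · linear_combination B 1 1 * htau - hd'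
      · linear_combination B 1 2 * htau
      · linear_combination B 2 1 * htau
      · linear_combination B 2 2 * htau - hd'
    rw [pow_succ', h3, mul_sub, mul_neg, mul_one, ← pow_two, h3]
    abel

end Std

end CfsgLib.Geo.SL3.Engine
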