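import Cfsg.Agent.Lib.Geo.SL3.Engine.DihedralKlein
import Cfsg.Agent.Lib.Geo.SL3.Engine.Octahedral
import Cfsg.Agent.Lib.Geo.SL3.Engine.Projection

/-!
# The simple quotient is a two dimensional linear group or has order 2520
-/

set_option autoImplicit false

namespace CfsgLib.Geo.SL3.Engine

open CfsgLib.Classical.Dickson
open scoped MatrixGroups

/-- The group-theoretic reduction. -/
theorem CentData.conclusion {G : Type*} [Group G] [Finite G] [IsSimpleGroup G] {t : G} {B : Type*} [Group B]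
    {π : Subgroup.centralizer ({t} : Set G) →* B} (D : CentData t π) (hnc : ¬ ∀ a b : G, a * b = b * a)
    (S : Sylow 2 G) (htS : t ∈ (S : Subgroup G)) (hSC : ∀ s ∈ (S : Subgroup G), s * t = t * s) :
    Conclusion G := by
  rcases D.cases with h | ⟨n, hn, ⟨φ⟩⟩ | h | ⟨⟨φ⟩⟩ | h
  · exact conclusion_of_cyclic D hnc S htS hSC h
  · haveI : NeZero n := ⟨by omega⟩
    by_cases hx : ∃ x, IsRot π φ x ∧ x * x = 1 ∧ x ≠ 1 ∧ x ≠ t
    · obtain ⟨x, hx, hx2, hx1, hxt⟩ := hx
      exact conclusion_of_klein D φ S htS hSC hnc hx hx2 hx1 hxt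
    · push Not at hx
      exact conclusion_of_single D φ S htS hSC hnc hx
  · exact (false_of_alternating D hnc S hSC (Or.inl h)).elim
  · exact (false_of_octahedral D S hSC hnc φ).elim
  · exact (false_of_alternating D hnc S hSC (Or.inr h)).elim

theorem Conclusion.of_equiv {G H : Type*} [Group G] [Group H] (e : G ≃* H) (h : Conclusion H) : Conclusion G := by
  rcases h with ⟨K, i1, i2, hodd, ⟨f⟩⟩ | h
  · exact Or.inl ⟨K, i1, i2, hodd, ⟨e.trans f⟩⟩
  · exact Or.inr (by rw [Nat.card_congr e.toEquiv, h])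

variable {k : Type*} [Field k] [IsAlgClosed k] {L : Subgroup (GL (Fin 3) k)}

/-- The centraliser data of the standard involution. -/
theorem centData (p : ℕ) [Fact p.Prime] [CharP k p] (h : Hyp L) (h2 : (2 : k) ≠ 0) {t : L}
    (ht : mat t = stdT) : CentData (t : L ⧸ Subgroup.center L) (lineHom h h2 ht) := by
  haveI := h.finite
  haveI : Finite (mobHom h).range := Finite.of_surjective _ (mobHom h).rangeRestrict_surjective
  refine ⟨orderOf_quot_t h h2 ht, lineHom_surjective h h2 ht, lineHom_ker h h2 ht p, ?_, ?_,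
    klein h h2 ht, ?_, ?_⟩
  · intro x hx
    obtain ⟨X, rfl⟩ := toCent_surjective h h2 ht x
    refine Subtype.ext ?_
    rw [lineHom_toCent, Subgroup.coe_one]
    have hX : (⟨t, t_mem_block h h2 ht⟩ : blockGroup h)⁻¹ * X ∈ (mobHom h).ker := by
      have hc : ((⟨t, t_mem_block h h2 ht⟩ : blockGroup h)⁻¹ * X : L) ∈ Subgroup.center L := by
        rw [Subgroup.coe_inv]
        exact QuotientGroup.eq.1 hx.symm
      obtain ⟨c, hc', -⟩ := h.exists_scalar hc
      refine MonoidHom.mem_ker.2 ((mobHom_eq_one_iff h _).2 ⟨c, ?_⟩)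
      rw [Subgroup.coe_mul, hc']
      ext i j
      fin_cases i <;> fin_cases j <;> simp [plane]
    have hT : mobHom h ⟨t, t_mem_block h h2 ht⟩ = 1 := (mobHom_eq_one_iff h _).2 ⟨-1, by
      rw [ht]; ext i j; fin_cases i <;> fin_cases j <;> simp [plane, stdT]⟩
    rw [MonoidHom.mem_ker, map_mul, map_inv, hT, inv_one, one_mul] at hX
    exact hX
  · rcases structure_cases (G := (mobHom h).range) (p := p) with
      ⟨hc, -⟩ | ⟨hd, -⟩ | ⟨n, hn, -, -, hd⟩ | hd | hd | hd | hs
    · exact Or.inl hc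
    · exact absurd hd (not_dvd_card_mobHom h p)
    · exact Or.inr (Or.inl ⟨n, hn, hd⟩)
    · exact Or.inr (Or.inr (Or.inl hd))
    · exact Or.inr (Or.inr (Or.inr (Or.inl hd)))
    · exact Or.inr (Or.inr (Or.inr (Or.inr hd)))
    · exfalso
      obtain ⟨-, -, a, e, -, h3, -, -, -, hcard, -⟩ := hs
      refine not_dvd_card_mobHom h p ?_
      rw [hcard]
      rcases a with _ | a
      · simp at h3
      · exact (Dvd.dvd.mul_right (dvd_pow_self p (Nat.succ_ne_zero a)) e).mul_left _
  · exact fun y s hy hy1 hs hodd hinv => centralizer_pair h h2 ht hy hy1 hs hodd hinv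
  · exact fun y y' s s' g hy hy' hy1 hs hs' hodd hinv hinv' hg =>
      conj_or_cube h h2 ht hy hy' hy1 hs hs' hodd hinv hinv' hg

/-- The simple quotient is `PSL(2)` or has order `2520`. -/
theorem Hyp.conclusion (p : ℕ) [Fact p.Prime] [CharP k p] (h : Hyp L) (h2 : (2 : k) ≠ 0) :
    Conclusion (L ⧸ Subgroup.center L) := by
  haveI := h.finite
  haveI := h.simple
  haveI : Fact (Nat.Prime 2) := ⟨Nat.prime_two⟩
  obtain ⟨t₀, ht₀⟩ := h.exists_involution
  obtain ⟨S⟩ : Nonempty (Sylow 2 (L ⧸ Subgroup.center L)) := inferInstance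
  have hdvd : 2 ∣ Nat.card (L ⧸ Subgroup.center L) := by
    have h1 : orderOf (t₀ : L ⧸ Subgroup.center L) = 2 := by
      refine orderOf_eq_prime (by rw [← QuotientGroup.mk_pow, ← ht₀, pow_orderOf_eq_one, QuotientGroup.mk_one])
        fun e => ?_
      have h3 := h.pow_three_center ((QuotientGroup.eq_one_iff _).1 e)
      have h4 := orderOf_dvd_of_pow_eq_one h3
      rw [ht₀] at h4
      omega
    exact h1 ▸ orderOf_dvd_natCard _
  haveI : Nontrivial (S : Subgroup (L ⧸ Subgroup.center L)) := by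
    rw [Subgroup.nontrivial_iff_ne_bot]
    exact S.ne_bot_of_dvd_card hdvd
  haveI := S.2.center_nontrivial
  obtain ⟨z, hz⟩ := exists_prime_orderOf_dvd_card' (G := Subgroup.center (S : Subgroup (L ⧸ Subgroup.center L))) 2
    ((S.2.to_subgroup (Subgroup.center (S : Subgroup (L ⧸ Subgroup.center L)))).card_eq_or_dvd.resolve_left
      (Finite.one_lt_card).ne')
  set tq : L ⧸ Subgroup.center L := ((z : (S : Subgroup (L ⧸ Subgroup.center L))) : L ⧸ Subgroup.center L)
  have htq : orderOf tq = 2 := by rw [Subgroup.orderOf_coe, Subgroup.orderOf_coe, hz]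
  have htS : tq ∈ (S : Subgroup (L ⧸ Subgroup.center L)) := z.1.2
  have hSC : ∀ s ∈ (S : Subgroup (L ⧸ Subgroup.center L)), s * tq = tq * s := fun s hs =>
    congrArg Subtype.val (Subgroup.mem_center_iff.1 z.2 ⟨s, hs⟩)
  obtain ⟨g, hg⟩ := QuotientGroup.mk_surjective tq
  -- an involutory lift
  set T := g ^ 3
  have hTq : (T : L ⧸ Subgroup.center L) = tq := by
    rw [QuotientGroup.mk_pow, hg, pow_succ, ← htq, pow_orderOf_eq_one, one_mul]
  have hT2 : T ^ 2 = 1 := by
    rw [← pow_mul, mul_comm, pow_mul]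
    refine h.pow_three_center ((QuotientGroup.eq_one_iff _).1 ?_)
    rw [QuotientGroup.mk_pow, hg, ← htq, pow_orderOf_eq_one]
  have hT1 : mat T ≠ 1 := fun e => by
    have : T = 1 := mat_injective (e.trans (map_one mat).symm)
    rw [this, QuotientGroup.mk_one] at hTq
    rw [← hTq, orderOf_one] at htq
    omega
  obtain ⟨B, hB⟩ := exists_conj_diag h2 (t := mat T) (by rw [← map_pow, hT2, map_one]) hT1 (h.det_mat T)
  obtain ⟨L', e, h', he⟩ := h.exists_conj B
  haveI := h'.finite
  haveI := h'.simple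
  have ht : mat (e T) = stdT := by rw [he]; exact hB
  let ec : L ⧸ Subgroup.center L ≃* L' ⧸ Subgroup.center L' :=
    QuotientGroup.congr (Subgroup.center L) (Subgroup.center L') e (by
      refine le_antisymm ?_ ?_
      · rintro _ ⟨x, hx, rfl⟩
        refine Subgroup.mem_center_iff.2 fun y => ?_
        obtain ⟨y', rfl⟩ := e.surjective y
        show e y' * e x = e x * e y'
        rw [← map_mul, ← map_mul, Subgroup.mem_center_iff.1 hx y']
      · intro x hx
        obtain ⟨x', rfl⟩ := e.surjective x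
        refine ⟨x', Subgroup.mem_center_iff.2 fun y => e.injective ?_, rfl⟩
        rw [map_mul, map_mul, Subgroup.mem_center_iff.1 hx (e y)])
  let S' : Sylow 2 (L' ⧸ Subgroup.center L') := S.comapOfInjective ec.symm.toMonoidHom ec.symm.injective
    (fun x _ => ⟨ec x, ec.symm_apply_apply x⟩)
  have hect : ec tq = (e T : L' ⧸ Subgroup.center L') := by rw [← hTq]; rfl
  refine Conclusion.of_equiv ec ((centData p h' h2 ht).conclusion h'.not_comm S' ?_ fun s hs => ?_)
  · show ec.symm (e T : L' ⧸ Subgroup.center L') ∈ (S : Subgroup (L ⧸ Subgroup.center L))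
    rw [← hect, ec.symm_apply_apply]
    exact htS
  · have h1 := congrArg ec (hSC _ (show ec.symm s ∈ (S : Subgroup (L ⧸ Subgroup.center L)) from hs))
    rwa [map_mul, map_mul, ec.apply_symm_apply, hect] at h1

end CfsgLib.Geo.SL3.Engine
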